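import Mathlib

set_option autoImplicit false
set_option backward.isDefEq.respectTransparency.types false
set_option synthInstance.maxHeartbeats 400000
set_option maxHeartbeats 4000000
set_option linter.style.haveILetI false
set_option linter.unusedSectionVars false
set_option linter.unusedVariables false

/-!
# Separating families: abstract algebra (part 1)

`SD ρ ψ` says: for a ring `R`, ring maps `ρ i : R → S i`, an `R`-module `M` and semilinear maps
`ψ i : M → N i`, an element `s : M` is killed by a power of `g : R` as soon as each `ψ i s` is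
killed by a power of `ρ i g`.  (This is "schematic dominance" of the family on all basic opens.)
-/

open Polynomial

namespace Groth.Agent.Helper2.SchDom

universe u v w

section Abstract

variable {R : Type*} [CommRing R] {ι : Type*} {S : ι → Type*} [∀ i, CommRing (S i)]

/-- separating property along a ring map `θ : R' → R` (only elements coming from `R'` are tested) -/
def SDalong {R' : Type*} [CommRing R'] (θ : R' →+* R) (ρ : ∀ i, R →+* S i)
    {M : Type*} [AddCommGroup M] [Module R M] {N : ι → Type*} [∀ i, AddCommGroup (N i)]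
    [∀ i, Module (S i) (N i)] (ψ : ∀ i, M →ₛₗ[ρ i] N i) : Prop :=
  ∀ (c : R') (s : M), (∀ i, ∃ m : ℕ, (ρ i (θ c)) ^ m • ψ i s = 0) → ∃ m : ℕ, (θ c) ^ m • s = 0

/-- separating property -/
def SD (ρ : ∀ i, R →+* S i)
    {M : Type*} [AddCommGroup M] [Module R M] {N : ι → Type*} [∀ i, AddCommGroup (N i)]
    [∀ i, Module (S i) (N i)] (ψ : ∀ i, M →ₛₗ[ρ i] N i) : Prop :=
  ∀ (g : R) (s : M), (∀ i, ∃ m : ℕ, (ρ i g) ^ m • ψ i s = 0) → ∃ m : ℕ, g ^ m • s = 0

/-- ring-level separating property -/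
def SDring (ρ : ∀ i, R →+* S i) : Prop :=
  ∀ g s : R, (∀ i, ∃ m : ℕ, ρ i (g ^ m * s) = 0) → ∃ m : ℕ, g ^ m * s = 0

theorem SDring_iff (ρ : ∀ i, R →+* S i) :
    SDring ρ ↔ SD ρ (fun i => (ρ i).toSemilinearMap) := by
  constructor
  · intro h g s hs
    refine h g s (fun i => ?_)
    obtain ⟨m, hm⟩ := hs i
    exact ⟨m, by rw [map_mul, map_pow]; exact hm⟩
  · intro h g s hs
    refine h g s (fun i => ?_)
    obtain ⟨m, hm⟩ := hs i
    exact ⟨m, by rw [map_mul, map_pow] at hm; exact hm⟩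

theorem SD.toSDalong {R' : Type*} [CommRing R'] (θ : R' →+* R) (ρ : ∀ i, R →+* S i)
    {M : Type*} [AddCommGroup M] [Module R M] {N : ι → Type*} [∀ i, AddCommGroup (N i)]
    [∀ i, Module (S i) (N i)] (ψ : ∀ i, M →ₛₗ[ρ i] N i) (h : SD ρ ψ) : SDalong θ ρ ψ :=
  fun c s hs => h (θ c) s hs

theorem SDalong_id_iff (ρ : ∀ i, R →+* S i)
    {M : Type*} [AddCommGroup M] [Module R M] {N : ι → Type*} [∀ i, AddCommGroup (N i)]
    [∀ i, Module (S i) (N i)] (ψ : ∀ i, M →ₛₗ[ρ i] N i) :
    SDalong (RingHom.id R) ρ ψ ↔ SD ρ ψ := Iff.rfl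

/-- pulling back along an injective linear map -/
theorem SD.of_injective (ρ : ∀ i, R →+* S i)
    {M M' : Type*} [AddCommGroup M] [Module R M] [AddCommGroup M'] [Module R M']
    {N N' : ι → Type*} [∀ i, AddCommGroup (N i)] [∀ i, Module (S i) (N i)]
    [∀ i, AddCommGroup (N' i)] [∀ i, Module (S i) (N' i)]
    (ψ : ∀ i, M →ₛₗ[ρ i] N i) (ψ' : ∀ i, M' →ₛₗ[ρ i] N' i)
    (e : M →ₗ[R] M') (he : Function.Injective e) (e' : ∀ i, N i →ₗ[S i] N' i)
    (hc : ∀ i x, e' i (ψ i x) = ψ' i (e x)) (h : SD ρ ψ') : SD ρ ψ := by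
  intro g s hs
  obtain ⟨m, hm⟩ := h g (e s) (fun i => by
    obtain ⟨m, hm⟩ := hs i
    exact ⟨m, by rw [← hc, ← map_smul, hm, map_zero]⟩)
  exact ⟨m, he (by rw [map_smul, hm, map_zero])⟩

/-- extensions -/
theorem SD.of_exact (ρ : ∀ i, R →+* S i)
    {M₁ M₂ M₃ : Type*} [AddCommGroup M₁] [Module R M₁] [AddCommGroup M₂] [Module R M₂]
    [AddCommGroup M₃] [Module R M₃]
    {N₁ N₂ N₃ : ι → Type*} [∀ i, AddCommGroup (N₁ i)] [∀ i, Module (S i) (N₁ i)]
    [∀ i, AddCommGroup (N₂ i)] [∀ i, Module (S i) (N₂ i)]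
    [∀ i, AddCommGroup (N₃ i)] [∀ i, Module (S i) (N₃ i)]
    (ψ₁ : ∀ i, M₁ →ₛₗ[ρ i] N₁ i) (ψ₂ : ∀ i, M₂ →ₛₗ[ρ i] N₂ i) (ψ₃ : ∀ i, M₃ →ₛₗ[ρ i] N₃ i)
    (u : M₁ →ₗ[R] M₂) (v : M₂ →ₗ[R] M₃) (huv : Function.Exact u v)
    (u' : ∀ i, N₁ i →ₗ[S i] N₂ i) (hu' : ∀ i, Function.Injective (u' i))
    (v' : ∀ i, N₂ i →ₗ[S i] N₃ i)
    (hcu : ∀ i x, u' i (ψ₁ i x) = ψ₂ i (u x)) (hcv : ∀ i x, v' i (ψ₂ i x) = ψ₃ i (v x))
    (h₁ : SD ρ ψ₁) (h₃ : SD ρ ψ₃) : SD ρ ψ₂ := by
  intro g s hs
  obtain ⟨m, hm⟩ := h₃ g (v s) (fun i => by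
    obtain ⟨n, hn⟩ := hs i
    exact ⟨n, by rw [← hcv, ← map_smul, hn, map_zero]⟩)
  have hv : v (g ^ m • s) = 0 := by rw [map_smul, hm]
  obtain ⟨s₁, hs₁⟩ := (huv (g ^ m • s)).mp hv
  obtain ⟨m', hm'⟩ := h₁ g s₁ (fun i => by
    obtain ⟨n, hn⟩ := hs i
    refine ⟨n, hu' i ?_⟩
    rw [map_smul, hcu, hs₁, map_zero, map_smulₛₗ, smul_comm, hn, smul_zero])
  refine ⟨m' + m, ?_⟩
  rw [pow_add, mul_smul, ← hs₁, ← map_smul, hm', map_zero]

/-- integral step -/
theorem SD.of_SDalong_of_integral {R' : Type*} [CommRing R'] (θ : R' →+* R) (ρ : ∀ i, R →+* S i)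
    {M : Type*} [AddCommGroup M] [Module R M] {N : ι → Type*} [∀ i, AddCommGroup (N i)]
    [∀ i, Module (S i) (N i)] (ψ : ∀ i, M →ₛₗ[ρ i] N i) (H : SDalong θ ρ ψ)
    (hint : ∀ g : R, θ.IsIntegralElem g) : SD ρ ψ := by
  intro g
  obtain ⟨p, hp, hpg⟩ := hint g
  -- the key claim, by induction on the degree of a monic polynomial
  have key : ∀ (n : ℕ) (q : R'[X]), q.Monic → q.natDegree = n →
      (∀ s : M, (∀ i, ∃ m : ℕ, (ρ i g) ^ m • ψ i s = 0) →
        ∃ m : ℕ, (g * q.eval₂ θ g) ^ m • s = 0) →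
      ∀ s : M, (∀ i, ∃ m : ℕ, (ρ i g) ^ m • ψ i s = 0) → ∃ m : ℕ, g ^ m • s = 0 := by
    intro n
    induction n with
    | zero =>
      intro q hq hdeg hcl s hs
      have hq1 : q = 1 := (Polynomial.Monic.natDegree_eq_zero hq).mp hdeg
      obtain ⟨m, hm⟩ := hcl s hs
      refine ⟨m, ?_⟩
      rwa [hq1, Polynomial.eval₂_one, mul_one] at hm
    | succ n ih =>
      intro q hq hdeg hcl s hs
      set q' := q.divX with hq'
      set c := q.coeff 0 with hc
      have hdq : q'.natDegree = n := by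
        rw [hq', Polynomial.natDegree_divX_eq_natDegree_tsub_one, hdeg]; rfl
      have hmq : q'.Monic := by
        unfold Polynomial.Monic Polynomial.leadingCoeff
        rw [hdq, hq', Polynomial.coeff_divX]
        have := hq.coeff_natDegree
        rwa [hdeg] at this
      have heval : q.eval₂ θ g = q'.eval₂ θ g * g + θ c := by
        conv_lhs => rw [← Polynomial.divX_mul_X_add q]
        rw [Polynomial.eval₂_add, Polynomial.eval₂_mul, Polynomial.eval₂_X, Polynomial.eval₂_C]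
      refine ih q' hmq hdq ?_ s hs
      intro s hs
      obtain ⟨M₀, hM₀⟩ := hcl s hs
      set s' := g ^ M₀ • s with hs'
      have hs'hyp : ∀ i, ∃ m : ℕ, (ρ i g) ^ m • ψ i s' = 0 := by
        intro i
        obtain ⟨m, hm⟩ := hs i
        refine ⟨m, ?_⟩
        rw [hs', map_smulₛₗ, smul_comm, hm, smul_zero]
      have hq0 : (q.eval₂ θ g) ^ M₀ • s' = 0 := by
        rw [hs', ← mul_smul, ← mul_pow, mul_comm]; exact hM₀
      -- `θ c` kills each `ψ i s'` up to a power
      have hci : ∀ i, ∃ m : ℕ, (ρ i (θ c)) ^ m • ψ i s' = 0 := by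
        intro i
        let I : Ideal R := Ideal.comap (ρ i) (Ideal.radical (Ideal.torsionOf (S i) (N i) (ψ i s')))
        have hgI : g ∈ I := by
          obtain ⟨m, hm⟩ := hs'hyp i
          exact ⟨m, by rw [Ideal.mem_torsionOf_iff]; exact hm⟩
        have hqI : q.eval₂ θ g ∈ I := by
          refine ⟨M₀, ?_⟩
          rw [Ideal.mem_torsionOf_iff, ← map_pow, ← map_smulₛₗ, hq0, map_zero]
        have hcI : θ c ∈ I := by
          have : θ c = q.eval₂ θ g - q'.eval₂ θ g * g := by rw [heval]; ring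
          rw [this]
          exact I.sub_mem hqI (I.mul_mem_left _ hgI)
        obtain ⟨m, hm⟩ := hcI
        exact ⟨m, hm⟩
      obtain ⟨K, hK⟩ := H c s' hci
      let J : Ideal R := Ideal.radical (Ideal.torsionOf R M s')
      have hcJ : θ c ∈ J := ⟨K, by rw [Ideal.mem_torsionOf_iff]; exact hK⟩
      have hqJ : q.eval₂ θ g ∈ J := ⟨M₀, by rw [Ideal.mem_torsionOf_iff]; exact hq0⟩
      have hJ : g * q'.eval₂ θ g ∈ J := by
        have : g * q'.eval₂ θ g = q.eval₂ θ g - θ c := by rw [heval]; ring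
        rw [this]
        exact J.sub_mem hqJ hcJ
      obtain ⟨K', hK'⟩ := hJ
      rw [Ideal.mem_torsionOf_iff] at hK'
      refine ⟨K' + M₀, ?_⟩
      have : (g * q'.eval₂ θ g) ^ (K' + M₀) • s
          = (q'.eval₂ θ g) ^ M₀ • ((g * q'.eval₂ θ g) ^ K' • s') := by
        rw [hs', ← mul_smul, ← mul_smul]
        congr 1
        ring
      rw [this, hK', smul_zero]
  intro s hs
  refine key p.natDegree p hp rfl ?_ s hs
  intro s _
  exact ⟨1, by rw [hpg, mul_zero, pow_one, zero_smul]⟩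

/-- transport of the ring-level property along ring isomorphisms -/
theorem SDring.of_ringEquiv {R' : Type*} [CommRing R'] {S' : ι → Type*} [∀ i, CommRing (S' i)]
    (ρ : ∀ i, R →+* S i) (ρ' : ∀ i, R' →+* S' i) (e : R ≃+* R') (e' : ∀ i, S i →+* S' i)
    (hc : ∀ i x, e' i (ρ i x) = ρ' i (e x)) (h : SDring ρ') : SDring ρ := by
  intro g s hs
  obtain ⟨m, hm⟩ := h (e g) (e s) (fun i => by
    obtain ⟨m, hm⟩ := hs i
    exact ⟨m, by rw [← map_pow, ← map_mul, ← hc, hm, map_zero]⟩)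
  exact ⟨m, e.injective (by rw [map_mul, map_pow, hm, map_zero])⟩

end Abstract

section McCoy

variable {C : Type*} [CommRing C]

theorem leadingCoeff_pow_mul_eq_zero (g : C[X]) :
    ∀ s : C[X], g * s = 0 → ∃ N : ℕ, Polynomial.C g.leadingCoeff ^ N * s = 0 := by
  intro s
  induction' h : s.support.card using Nat.strong_induction_on with n ih generalizing s
  intro hgs
  by_cases hs : s = 0
  · exact ⟨0, by simp [hs]⟩
  have h1 : g.leadingCoeff * s.leadingCoeff = 0 := by
    have := congrArg (fun p => p.coeff (g.natDegree + s.natDegree)) hgs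
    simpa [Polynomial.coeff_mul_degree_add_degree] using this
  have h2 : Polynomial.C g.leadingCoeff * s = Polynomial.C g.leadingCoeff * s.eraseLead := by
    conv_lhs => rw [← Polynomial.eraseLead_add_C_mul_X_pow s]
    rw [mul_add, ← mul_assoc, ← Polynomial.C_mul, h1, Polynomial.C_0, zero_mul, add_zero]
  have h3 : (Polynomial.C g.leadingCoeff * s.eraseLead).support.card < n := by
    calc (Polynomial.C g.leadingCoeff * s.eraseLead).support.card
        ≤ s.eraseLead.support.card := by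
          apply Finset.card_le_card
          rw [Polynomial.C_mul']
          exact Polynomial.support_smul _ _
      _ < s.support.card := Polynomial.eraseLead_support_card_lt hs
      _ = n := h
  obtain ⟨N, hN⟩ := ih _ h3 _ rfl (by rw [← h2, mul_left_comm, hgs, mul_zero])
  exact ⟨N + 1, by rw [pow_succ, mul_assoc, h2, hN]⟩

theorem coeff_pow_mul_eq_zero_of_mul_eq_zero (g : C[X]) (l : ℕ) :
    ∀ s : C[X], g * s = 0 → ∃ N : ℕ, Polynomial.C (g.coeff l) ^ N * s = 0 := by
  induction' h : g.support.card using Nat.strong_induction_on with n ih generalizing g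
  intro s hgs
  by_cases hg : g = 0
  · exact ⟨1, by simp [hg]⟩
  by_cases hl : l = g.natDegree
  · rw [hl, Polynomial.coeff_natDegree]
    exact leadingCoeff_pow_mul_eq_zero g s hgs
  obtain ⟨N₀, hN₀⟩ := leadingCoeff_pow_mul_eq_zero g s hgs
  have hcard : g.eraseLead.support.card < n := h ▸ Polynomial.eraseLead_support_card_lt hg
  have hcoeff : g.eraseLead.coeff l = g.coeff l := Polynomial.eraseLead_coeff_of_ne l hl
  have inner : ∀ (N₀ : ℕ) (s : C[X]), g * s = 0 → Polynomial.C g.leadingCoeff ^ N₀ * s = 0 →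
      ∃ N : ℕ, Polynomial.C (g.coeff l) ^ N * s = 0 := by
    intro N₀
    induction N₀ with
    | zero =>
      intro s _ h0
      exact ⟨0, by simpa using h0⟩
    | succ N₀ ih' =>
      intro s hgs h0
      obtain ⟨N₁, hN₁⟩ := ih' (Polynomial.C g.leadingCoeff * s)
        (by rw [mul_left_comm, hgs, mul_zero]) (by rw [← mul_assoc, ← pow_succ]; exact h0)
      set t := Polynomial.C (g.coeff l) ^ N₁ * s with ht
      have hgt : g * t = 0 := by rw [ht, mul_left_comm, hgs, mul_zero]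
      have hat : Polynomial.C g.leadingCoeff * t = 0 := by
        rw [ht, mul_left_comm]; exact hN₁
      have hgt' : g.eraseLead * t = 0 := by
        have : g.eraseLead = g - Polynomial.C g.leadingCoeff * X ^ g.natDegree := by
          rw [eq_sub_iff_add_eq]; exact Polynomial.eraseLead_add_C_mul_X_pow g
        rw [this, sub_mul, hgt, zero_sub, mul_right_comm, hat, zero_mul, neg_zero]
      obtain ⟨N₂, hN₂⟩ := ih _ hcard g.eraseLead rfl t hgt'
      rw [hcoeff] at hN₂
      exact ⟨N₂ + N₁, by rw [pow_add, mul_assoc]; exact hN₂⟩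
  exact inner N₀ s hgs hN₀

theorem coeff_pow_mul_eq_zero_of_pow_mul_eq_zero (g : C[X]) (l : ℕ) (m : ℕ) :
    ∀ s : C[X], g ^ m * s = 0 → ∃ N : ℕ, Polynomial.C (g.coeff l) ^ N * s = 0 := by
  induction m with
  | zero =>
    intro s hs
    exact ⟨0, by simpa using hs⟩
  | succ m ih =>
    intro s hs
    obtain ⟨N, hN⟩ := coeff_pow_mul_eq_zero_of_mul_eq_zero g l (g ^ m * s)
      (by rw [← mul_assoc, ← pow_succ']; exact hs)
    obtain ⟨N', hN'⟩ := ih (Polynomial.C (g.coeff l) ^ N * s) (by rw [mul_left_comm]; exact hN)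
    exact ⟨N' + N, by rw [pow_add, mul_assoc]; exact hN'⟩

end McCoy

section Poly

variable {R : Type*} [CommRing R] {ι : Type*} {S : ι → Type*} [∀ i, CommRing (S i)]

/-- polynomial step -/
theorem SDring.polynomial (ρ : ∀ i, R →+* S i) (h : SDring ρ) :
    SDring (fun i => Polynomial.mapRingHom (ρ i)) := by
  intro g s hs
  -- every coefficient of `g` kills every coefficient of `s` up to a power
  have h1 : ∀ l j : ℕ, ∃ N : ℕ, (g.coeff l) ^ N * s.coeff j = 0 := by
    intro l j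
    refine h (g.coeff l) (s.coeff j) (fun i => ?_)
    obtain ⟨m, hm⟩ := hs i
    simp only [Polynomial.coe_mapRingHom, Polynomial.map_mul, Polynomial.map_pow] at hm
    obtain ⟨N, hN⟩ := coeff_pow_mul_eq_zero_of_pow_mul_eq_zero (g.map (ρ i)) l m (s.map (ρ i)) hm
    refine ⟨N, ?_⟩
    have := congrArg (fun p => p.coeff j) hN
    simp only [← Polynomial.C_pow, Polynomial.coeff_C_mul, Polynomial.coeff_map,
      Polynomial.coeff_zero] at this
    rw [map_mul, map_pow]; exact this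
  choose N hN using h1
  let Nmax : ℕ := (g.support ×ˢ s.support).sup (fun lj => N lj.1 lj.2)
  have h2 : ∀ l ∈ g.support, Polynomial.C (g.coeff l) ^ Nmax * s = 0 := by
    intro l hl
    ext j
    rw [← Polynomial.C_pow, Polynomial.coeff_C_mul, Polynomial.coeff_zero]
    by_cases hj : j ∈ s.support
    · have hle : N l j ≤ Nmax :=
        Finset.le_sup (f := fun lj : ℕ × ℕ => N lj.1 lj.2) (Finset.mk_mem_product hl hj)
      obtain ⟨d, hd⟩ := Nat.exists_eq_add_of_le hle
      rw [hd, pow_add, mul_comm ((g.coeff l) ^ N l j), mul_assoc, hN, mul_zero]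
    · rw [Polynomial.notMem_support_iff.mp hj, mul_zero]
  let J : Ideal R[X] := Ideal.radical (Ideal.torsionOf R[X] R[X] s)
  have hJ : g ∈ J := by
    rw [Polynomial.as_sum_support_C_mul_X_pow g]
    refine J.sum_mem (fun l hl => J.mul_mem_right _ ?_)
    exact ⟨Nmax, by rw [Ideal.mem_torsionOf_iff, smul_eq_mul]; exact h2 l hl⟩
  obtain ⟨m, hm⟩ := hJ
  exact ⟨m, by rw [Ideal.mem_torsionOf_iff, smul_eq_mul] at hm; exact hm⟩

/-- several variables -/
theorem SDring.mvPolynomial (ρ : ∀ i, R →+* S i) (h : SDring ρ) (n : ℕ) :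
    SDring (fun i => (MvPolynomial.map (ρ i) :
      MvPolynomial (Fin n) R →+* MvPolynomial (Fin n) (S i))) := by
  induction n with
  | zero =>
    refine SDring.of_ringEquiv _ ρ (MvPolynomial.isEmptyRingEquiv R (Fin 0))
      (fun i => (MvPolynomial.isEmptyRingEquiv (S i) (Fin 0)).toRingHom) ?_ h
    intro i x
    simp only [RingEquiv.toRingHom_eq_coe, RingHom.coe_coe,
      MvPolynomial.isEmptyRingEquiv_eq_coeff_zero, MvPolynomial.coeff_map]
  | succ n ih =>
    refine SDring.of_ringEquiv _ (fun i => Polynomial.mapRingHom (MvPolynomial.map (ρ i)))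
      (MvPolynomial.finSuccEquiv R n).toRingEquiv
      (fun i => (MvPolynomial.finSuccEquiv (S i) n).toRingEquiv.toRingHom) ?_
      (SDring.polynomial _ ih)
    intro i x
    simp only [RingEquiv.toRingHom_eq_coe, RingHom.coe_coe, AlgEquiv.coe_ringEquiv,
      Polynomial.coe_mapRingHom]
    ext j m
    rw [MvPolynomial.finSuccEquiv_coeff_coeff, MvPolynomial.coeff_map, Polynomial.coeff_map,
      MvPolynomial.coeff_map, MvPolynomial.finSuccEquiv_coeff_coeff]

end Poly

end Groth.Agent.Helper2.SchDom
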