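import Mathlib
import Groth.Agent.Lib.Helper2.SchDom.Alg1

set_option autoImplicit false
set_option backward.isDefEq.respectTransparency.types false
set_option synthInstance.maxHeartbeats 400000
set_option maxHeartbeats 4000000
set_option linter.style.haveILetI false
set_option linter.unusedSectionVars false
set_option linter.unusedVariables false

/-!
# Separating families: base change of modules (part 2)
-/

open TensorProduct

namespace Groth.Agent.Helper2.SchDom

universe u v w

section Tensor

variable {P : Type u} [CommRing P] {R : Type u} [CommRing R] [Algebra P R] {ι : Type w}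
  {S : ι → Type u} [∀ i, CommRing (S i)] [∀ i, Algebra P (S i)] (ρ : ∀ i, R →ₐ[P] S i)

/-- the semilinear map `R ⊗[P] N → S i ⊗[P] N` -/
noncomputable def tmap (N : Type v) [AddCommGroup N] [Module P N] (i : ι) :
    R ⊗[P] N →ₛₗ[(ρ i).toRingHom] S i ⊗[P] N where
  toFun := TensorProduct.map (ρ i).toLinearMap LinearMap.id
  map_add' := map_add _
  map_smul' := by
    intro r x
    induction x using TensorProduct.induction_on with
    | zero => simp
    | tmul a n =>
      simp only [TensorProduct.smul_tmul', smul_eq_mul, TensorProduct.map_tmul,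
        AlgHom.toLinearMap_apply, map_mul, LinearMap.id_coe, id_eq, AlgHom.toRingHom_eq_coe,
        RingHom.coe_coe]
    | add x y hx hy => simp only [smul_add, map_add, hx, hy]

theorem tmap_tmul (N : Type v) [AddCommGroup N] [Module P N] (i : ι) (a : R) (n : N) :
    tmap ρ N i (a ⊗ₜ n) = ρ i a ⊗ₜ n := rfl

/-- separating property for the base change of a module -/
def SDmod (N : Type v) [AddCommGroup N] [Module P N] : Prop :=
  SD (fun i => (ρ i).toRingHom) (tmap ρ N)

theorem tmap_baseChange {N N' : Type v} [AddCommGroup N] [Module P N] [AddCommGroup N']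
    [Module P N'] (f : N →ₗ[P] N') (i : ι) (x : R ⊗[P] N) :
    (f.baseChange (S i)) (tmap ρ N i x) = tmap ρ N' i (f.baseChange R x) := by
  induction x using TensorProduct.induction_on with
  | zero => simp
  | tmul a n =>
    rw [LinearMap.baseChange_tmul, tmap_tmul, tmap_tmul, LinearMap.baseChange_tmul]
  | add x y hx hy => simp only [map_add, hx, hy]

theorem SDmod.of_injective [Module.Flat P R] {N N' : Type v} [AddCommGroup N] [Module P N]
    [AddCommGroup N'] [Module P N'] (f : N →ₗ[P] N') (hf : Function.Injective f)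
    (h : SDmod ρ N') : SDmod ρ N := by
  refine SD.of_injective _ (tmap ρ N) (tmap ρ N') (f.baseChange R) ?_
    (fun i => f.baseChange (S i)) (fun i x => tmap_baseChange ρ f i x) h
  rw [LinearMap.baseChange_eq_ltensor]
  exact Module.Flat.lTensor_preserves_injective_linearMap f hf

theorem SDmod.of_exact [∀ i, Module.Flat P (S i)] {N₁ N₂ N₃ : Type v}
    [AddCommGroup N₁] [Module P N₁] [AddCommGroup N₂] [Module P N₂] [AddCommGroup N₃] [Module P N₃]
    (f : N₁ →ₗ[P] N₂) (g : N₂ →ₗ[P] N₃) (hf : Function.Injective f) (hg : Function.Surjective g)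
    (hfg : Function.Exact f g) (h₁ : SDmod ρ N₁) (h₃ : SDmod ρ N₃) : SDmod ρ N₂ := by
  refine SD.of_exact _ (tmap ρ N₁) (tmap ρ N₂) (tmap ρ N₃) (f.baseChange R) (g.baseChange R) ?_
    (fun i => f.baseChange (S i)) ?_ (fun i => g.baseChange (S i))
    (fun i x => tmap_baseChange ρ f i x) (fun i x => tmap_baseChange ρ g i x) h₁ h₃
  · rw [LinearMap.baseChange_eq_ltensor, LinearMap.baseChange_eq_ltensor]
    exact lTensor_exact R hfg hg
  · intro i
    rw [LinearMap.baseChange_eq_ltensor]
    exact Module.Flat.lTensor_preserves_injective_linearMap f hf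

theorem SDmod.of_primes [IsNoetherianRing P] [Module.Flat P R] [∀ i, Module.Flat P (S i)]
    (hp : ∀ p : PrimeSpectrum P, SDmod ρ (P ⧸ p.asIdeal))
    (N : Type u) [AddCommGroup N] [Module P N] [hN : Module.Finite P N] : SDmod ρ N := by
  refine IsNoetherianRing.induction_on_isQuotientEquivQuotientPrime P hN
    (motive := fun N _ _ _ => SDmod ρ N) ?_ ?_ ?_
  · intro N _ _ _ _ g s _
    refine ⟨0, ?_⟩
    have : ∀ x : R ⊗[P] N, x = 0 := by
      intro x
      induction x using TensorProduct.induction_on with
      | zero => rfl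
      | tmul a n => rw [Subsingleton.elim n 0, TensorProduct.tmul_zero]
      | add x y hx hy => rw [hx, hy, add_zero]
    exact this _
  · intro N _ _ _ p e
    exact SDmod.of_injective ρ e.toLinearMap e.injective (hp p)
  · intro N₁ _ _ _ N₂ _ _ _ N₃ _ _ _ f g hf hg hfg h₁ h₃
    exact SDmod.of_exact ρ f g hf hg hfg h₁ h₃

theorem SDmod.pi {κ : Type} [Fintype κ] [DecidableEq κ] (N₀ : Type v) [AddCommGroup N₀]
    [Module P N₀] (h : SDmod ρ N₀) : SDmod ρ (κ → N₀) := by
  intro g s hs
  have hproj : ∀ l : κ, ∃ m : ℕ,
      g ^ m • ((LinearMap.proj l : (κ → N₀) →ₗ[P] N₀).baseChange R s) = 0 := by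
    intro l
    refine h g _ (fun i => ?_)
    obtain ⟨m, hm⟩ := hs i
    refine ⟨m, ?_⟩
    rw [← tmap_baseChange, ← map_smul, hm, map_zero]
  choose m hm using hproj
  refine ⟨Finset.univ.sup m, ?_⟩
  have key : ∀ (x : R ⊗[P] (κ → N₀)) (l : κ),
      (TensorProduct.piRight P R R (fun _ : κ => N₀)) x l
        = (LinearMap.proj l : (κ → N₀) →ₗ[P] N₀).baseChange R x := by
    intro x l
    induction x using TensorProduct.induction_on with
    | zero => simp
    | tmul a f => simp [TensorProduct.piRight_apply, TensorProduct.piRightHom_tmul]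
    | add x y hx hy => simp only [map_add, Pi.add_apply, hx, hy]
  apply (TensorProduct.piRight P R R (fun _ : κ => N₀)).injective
  rw [map_zero]
  funext l
  rw [key, map_smul, Pi.zero_apply]
  obtain ⟨d, hd⟩ := Nat.exists_eq_add_of_le (Finset.le_sup (f := m) (Finset.mem_univ l))
  rw [hd, pow_add, mul_comm, mul_smul, hm, smul_zero]

end Tensor

section BC

variable {k : Type u} [CommRing k] {A : Type u} [CommRing A] [Algebra k A] {ι : Type w}
  {C : ι → Type u} [∀ i, CommRing (C i)] [∀ i, Algebra k (C i)] (φ : ∀ i, A →ₐ[k] C i)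

/-- base change of the family to `B` -/
noncomputable abbrev rho (B : Type u) [CommRing B] [Algebra k B] (i : ι) :
    B ⊗[k] A →ₐ[B] B ⊗[k] C i :=
  Algebra.TensorProduct.map (AlgHom.id B B) (φ i)

theorem rho_tmul (B : Type u) [CommRing B] [Algebra k B] (i : ι) (b : B) (a : A) :
    rho φ B i (b ⊗ₜ[k] a) = b ⊗ₜ[k] φ i a := rfl

variable (A) in
/-- change of rings -/
noncomputable abbrev theta (B D : Type u) [CommRing B] [Algebra k B] [CommRing D] [Algebra k D]
    [Algebra B D] [IsScalarTower k B D] : B ⊗[k] A →ₐ[k] D ⊗[k] A :=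
  Algebra.TensorProduct.map (IsScalarTower.toAlgHom k B D) (AlgHom.id k A)

theorem theta_tmul (B D : Type u) [CommRing B] [Algebra k B] [CommRing D] [Algebra k D]
    [Algebra B D] [IsScalarTower k B D] (b : B) (a : A) :
    theta A B D (b ⊗ₜ[k] a) = algebraMap B D b ⊗ₜ[k] a := rfl

variable (A) in
/-- the base change isomorphism -/
noncomputable def isoBC (B D : Type u) [CommRing B] [Algebra k B] [CommRing D] [Algebra k D]
    [Algebra B D] [IsScalarTower k B D] : (B ⊗[k] A) ⊗[B] D ≃ₐ[B] D ⊗[k] A :=
  (Algebra.TensorProduct.comm B (B ⊗[k] A) D).trans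
    (Algebra.TensorProduct.cancelBaseChange k B B D A)

section

variable (B D : Type u) [CommRing B] [Algebra k B] [CommRing D] [Algebra k D]
    [Algebra B D] [IsScalarTower k B D]

theorem isoBC_tmul (b : B) (a : A) (d : D) :
    isoBC A B D ((b ⊗ₜ[k] a) ⊗ₜ[B] d) = (b • d) ⊗ₜ[k] a := by
  simp [isoBC]

theorem isoBC_smul (r : B ⊗[k] A) (x : (B ⊗[k] A) ⊗[B] D) :
    isoBC A B D (r • x) = theta A B D r * isoBC A B D x := by
  have h2 : ∀ r : B ⊗[k] A, isoBC A B D (r ⊗ₜ[B] (1 : D)) = theta A B D r := by
    intro r
    induction r using TensorProduct.induction_on with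
    | zero => simp
    | tmul b a => rw [isoBC_tmul, theta_tmul, Algebra.algebraMap_eq_smul_one]
    | add x y hx hy => rw [TensorProduct.add_tmul, map_add, map_add, hx, hy]
  have h1 : r • x = (r ⊗ₜ[B] (1 : D)) * x := by
    induction x using TensorProduct.induction_on with
    | zero => simp
    | tmul y d =>
      rw [TensorProduct.smul_tmul', Algebra.TensorProduct.tmul_mul_tmul, smul_eq_mul, one_mul]
    | add x y hx hy => rw [smul_add, mul_add, hx, hy]
  rw [h1, map_mul, h2]

theorem isoBC_tmap (i : ι) (x : (B ⊗[k] A) ⊗[B] D) :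
    isoBC (C i) B D (tmap (rho φ B) D i x) = rho φ D i (isoBC A B D x) := by
  induction x using TensorProduct.induction_on with
  | zero => simp
  | tmul y d =>
    induction y using TensorProduct.induction_on with
    | zero => simp
    | tmul b a => rw [tmap_tmul, rho_tmul, isoBC_tmul, isoBC_tmul, rho_tmul]
    | add x y hx hy => rw [TensorProduct.add_tmul, map_add, map_add, map_add, map_add, hx, hy]
  | add x y hx hy => rw [map_add, map_add, map_add, map_add, hx, hy]

theorem theta_rho (i : ι) (r : B ⊗[k] A) :
    theta (C i) B D (rho φ B i r) = rho φ D i (theta A B D r) := by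
  induction r using TensorProduct.induction_on with
  | zero => simp
  | tmul b a => rw [rho_tmul, theta_tmul, theta_tmul, rho_tmul]
  | add x y hx hy => rw [map_add, map_add, map_add, map_add, hx, hy]

/-- comparison of the module-level property with the ring-level property along `theta` -/
theorem SDmod_iff_SDalong :
    SDmod (rho φ B) D ↔
      SDalong (theta A B D).toRingHom (fun i => (rho φ D i).toRingHom)
        (fun i => (rho φ D i).toRingHom.toSemilinearMap) := by
  constructor
  · intro h c s hs
    obtain ⟨m, hm⟩ := h c ((isoBC A B D).symm s) (fun i => by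
      obtain ⟨m, hm⟩ := hs i
      refine ⟨m, (isoBC (C i) B D).injective ?_⟩
      rw [map_zero, isoBC_smul, map_pow, isoBC_tmap, AlgEquiv.apply_symm_apply]
      have := theta_rho φ B D i c
      simp only [AlgHom.toRingHom_eq_coe, RingHom.coe_coe] at hm ⊢
      rw [this]
      exact hm)
    refine ⟨m, ?_⟩
    have := congrArg (isoBC A B D) hm
    rw [isoBC_smul, map_pow, AlgEquiv.apply_symm_apply, map_zero] at this
    exact this
  · intro h c s hs
    obtain ⟨m, hm⟩ := h c (isoBC A B D s) (fun i => by
      obtain ⟨m, hm⟩ := hs i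
      refine ⟨m, ?_⟩
      have h1 := congrArg (isoBC (C i) B D) hm
      rw [map_zero, isoBC_smul, map_pow, isoBC_tmap] at h1
      have := theta_rho φ B D i c
      simp only [AlgHom.toRingHom_eq_coe, RingHom.coe_coe] at h1 ⊢
      rw [this] at h1
      exact h1)
    refine ⟨m, (isoBC A B D).injective ?_⟩
    rw [map_zero, isoBC_smul, map_pow]
    exact hm

end

theorem theta_self (B : Type u) [CommRing B] [Algebra k B] (x : B ⊗[k] A) :
    theta A B B x = x := by
  induction x using TensorProduct.induction_on with
  | zero => simp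
  | tmul b a => rw [theta_tmul]; rfl
  | add x y hx hy => rw [map_add, hx, hy]

/-- ring-level statement for `B` -/
def RingSD (B : Type u) [CommRing B] [Algebra k B] : Prop :=
  SDring (fun i => (rho φ B i).toRingHom)

theorem SDalong_of_ringSD (B D : Type u) [CommRing B] [Algebra k B] [CommRing D] [Algebra k D]
    [Algebra B D] [IsScalarTower k B D] (h : RingSD φ D) :
    SDalong (theta A B D).toRingHom (fun i => (rho φ D i).toRingHom)
      (fun i => (rho φ D i).toRingHom.toSemilinearMap) :=
  SD.toSDalong _ _ _ ((SDring_iff _).mp h)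

theorem ringSD_of_SDalong_self (B : Type u) [CommRing B] [Algebra k B]
    (h : SDalong (theta A B B).toRingHom (fun i => (rho φ B i).toRingHom)
      (fun i => (rho φ B i).toRingHom.toSemilinearMap)) : RingSD φ B := by
  refine (SDring_iff _).mpr ?_
  intro g s hs
  have := h g s
  simp only [AlgHom.toRingHom_eq_coe, RingHom.coe_coe, theta_self] at this
  exact this hs

end BC

end Groth.Agent.Helper2.SchDom
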