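import Mathlib

set_option autoImplicit false
set_option backward.isDefEq.respectTransparency.types false
set_option synthInstance.maxHeartbeats 400000
set_option maxHeartbeats 4000000
set_option linter.style.haveILetI false
set_option linter.unusedSectionVars false
set_option linter.unusedVariables false

/-!
# Fibrewise separating families are universally separating (algebra, part 1)

`R₁` a ring, `A₁` an `R₁`-algebra, `D j` a family of `A₁`-modules with `A₁`-linear maps
`v j : A₁ → D j`, `g₁ : A₁`.  For an `R₁`-module `Q`, `SDg R₁ v g₁ Q` says that the family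
`v j ⊗ Q : A₁ ⊗ Q → D j ⊗ Q` is separating up to `g₁`-power torsion.
-/

open TensorProduct

namespace Groth.Agent.Helper2.SchDom

universe u w

section LemmaB

variable {R₁ : Type u} [CommRing R₁] {A₁ : Type u} [CommRing A₁] [Algebra R₁ A₁]
  {J : Type w} {D : J → Type u} [∀ j, AddCommGroup (D j)] [∀ j, Module A₁ (D j)]
  [∀ j, Module R₁ (D j)] [∀ j, IsScalarTower R₁ A₁ (D j)]
  (v : ∀ j, A₁ →ₗ[A₁] D j) (g₁ : A₁)

variable (R₁) in
/-- the map `v j ⊗ Q` -/
noncomputable abbrev vQ (Q : Type u) [AddCommGroup Q] [Module R₁ Q] (j : J) :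
    A₁ ⊗[R₁] Q →ₗ[A₁] D j ⊗[R₁] Q := AlgebraTensorModule.map (v j) LinearMap.id

variable (A₁) in
/-- functoriality of `P ⊗ -` -/
noncomputable abbrev FQ (P : Type u) [AddCommGroup P] [Module A₁ P] [Module R₁ P]
    [IsScalarTower R₁ A₁ P] {Q Q' : Type u} [AddCommGroup Q] [Module R₁ Q]
    [AddCommGroup Q'] [Module R₁ Q'] (φ : Q →ₗ[R₁] Q') : P ⊗[R₁] Q →ₗ[A₁] P ⊗[R₁] Q' :=
  AlgebraTensorModule.map LinearMap.id φ

theorem vQ_nat {Q Q' : Type u} [AddCommGroup Q] [Module R₁ Q]
    [AddCommGroup Q'] [Module R₁ Q'] (φ : Q →ₗ[R₁] Q') (j : J) (x : A₁ ⊗[R₁] Q) :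
    FQ A₁ (D j) φ (vQ R₁ v Q j x) = vQ R₁ v Q' j (FQ A₁ A₁ φ x) := by
  induction x using TensorProduct.induction_on with
  | zero => simp
  | tmul a q => simp [AlgebraTensorModule.map_tmul]
  | add x y hx hy => simp only [map_add, hx, hy]

variable (R₁) in
/-- the separating property up to `g₁`-power torsion -/
def SDg (Q : Type u) [AddCommGroup Q] [Module R₁ Q] : Prop :=
  ∀ x : A₁ ⊗[R₁] Q, (∀ j, ∃ m : ℕ, g₁ ^ m • vQ R₁ v Q j x = 0) → ∃ m : ℕ, g₁ ^ m • x = 0

variable {v g₁}

/-- the hypothesis is natural -/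
theorem hyp_nat {Q Q' : Type u} [AddCommGroup Q] [Module R₁ Q]
    [AddCommGroup Q'] [Module R₁ Q'] (φ : Q →ₗ[R₁] Q') (x : A₁ ⊗[R₁] Q)
    (hx : ∀ j, ∃ m : ℕ, g₁ ^ m • vQ R₁ v Q j x = 0) :
    ∀ j, ∃ m : ℕ, g₁ ^ m • vQ R₁ v Q' j (FQ A₁ A₁ φ x) = 0 := by
  intro j
  obtain ⟨m, hm⟩ := hx j
  refine ⟨m, ?_⟩
  rw [← vQ_nat, ← map_smul, hm, map_zero]

theorem SDg.of_injective {Q Q' : Type u} [AddCommGroup Q] [Module R₁ Q]
    [AddCommGroup Q'] [Module R₁ Q'] (φ : Q →ₗ[R₁] Q')
    (hφ : Function.Injective (FQ A₁ A₁ φ)) (h : SDg R₁ v g₁ Q') : SDg R₁ v g₁ Q := by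
  intro x hx
  obtain ⟨m, hm⟩ := h (FQ A₁ A₁ φ x) (hyp_nat φ x hx)
  refine ⟨m, hφ ?_⟩
  rw [map_smul, hm, map_zero]

theorem SDg.of_equiv {Q Q' : Type u} [AddCommGroup Q] [Module R₁ Q]
    [AddCommGroup Q'] [Module R₁ Q'] (e : Q ≃ₗ[R₁] Q') (h : SDg R₁ v g₁ Q') : SDg R₁ v g₁ Q := by
  refine SDg.of_injective e.toLinearMap ?_ h
  have : Function.LeftInverse (FQ A₁ A₁ e.symm.toLinearMap) (FQ A₁ A₁ e.toLinearMap) := by
    intro x
    induction x using TensorProduct.induction_on with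
    | zero => simp
    | tmul a q => simp [AlgebraTensorModule.map_tmul]
    | add x y hx hy => simp only [map_add, hx, hy]
  exact this.injective

/-- Step 1: free modules over a field -/
theorem SDg.finsupp (K : Type u) [AddCommGroup K] [Module R₁ K] (h : SDg R₁ v g₁ K)
    (ι : Type u) : SDg R₁ v g₁ (ι →₀ K) := by
  classical
  intro x hx
  have hcoord : ∀ i : ι, ∃ m : ℕ, g₁ ^ m • FQ A₁ A₁ (Finsupp.lapply i : (ι →₀ K) →ₗ[R₁] K) x = 0 :=
    fun i => h _ (hyp_nat _ x hx)
  choose mi hmi using hcoord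
  let E := TensorProduct.finsuppRight R₁ A₁ A₁ K ι
  let m := (E x).support.sup mi
  refine ⟨m, E.injective ?_⟩
  rw [map_smul, map_zero]
  ext i
  rw [Finsupp.smul_apply, Finsupp.zero_apply]
  by_cases hi : i ∈ (E x).support
  · have hle : mi i ≤ m := Finset.le_sup hi
    have h1 : E x i = FQ A₁ A₁ (Finsupp.lapply i : (ι →₀ K) →ₗ[R₁] K) x :=
      TensorProduct.finsuppRight_apply x i
    rw [h1, ← Nat.sub_add_cancel hle, pow_add, mul_smul, hmi i, smul_zero]
  · rw [Finsupp.notMem_support_iff.mp hi, smul_zero]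

/-- trivial modules -/
theorem SDg.of_forall_eq_zero (Q : Type u) [AddCommGroup Q] [Module R₁ Q] (hQ : ∀ q : Q, q = 0) :
    SDg R₁ v g₁ Q := by
  have h0 : ∀ x : A₁ ⊗[R₁] Q, x = 0 := by
    intro x
    induction x using TensorProduct.induction_on with
    | zero => rfl
    | tmul a q => rw [hQ q, tmul_zero]
    | add x y hx hy => rw [hx, hy, add_zero]
  intro x _
  exact ⟨0, by rw [pow_zero, one_smul]; exact h0 x⟩

/-- Step 2: modules over the localization at a prime killed by a power of the prime -/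
theorem SDg.of_nilpotent [∀ j, Module.Flat R₁ (D j)]
    (FIB : ∀ (K : Type u) [Field K] [Algebra R₁ K], SDg R₁ v g₁ K)
    (𝔭 : Ideal R₁) [𝔭.IsPrime] (n : ℕ) : ∀ (Q : Type u) [AddCommGroup Q] [Module R₁ Q]
    [Module (Localization.AtPrime 𝔭) Q] [IsScalarTower R₁ (Localization.AtPrime 𝔭) Q],
    (∀ r ∈ 𝔭 ^ n, ∀ q : Q, r • q = 0) → SDg R₁ v g₁ Q := by
  induction n with
  | zero =>
    intro Q _ _ _ _ hQ
    refine SDg.of_forall_eq_zero Q (fun q => ?_)
    have := hQ 1 (by rw [pow_zero, Ideal.one_eq_top]; trivial) q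
    rwa [one_smul] at this
  | succ n ih =>
    intro Q _ _ _ _ hQ
    let V : Submodule (Localization.AtPrime 𝔭) Q :=
      { carrier := {q | ∀ r ∈ 𝔭, r • q = 0}
        add_mem' := by
          intro a b ha hb r hr
          rw [smul_add, ha r hr, hb r hr, add_zero]
        zero_mem' := by
          intro r _
          rw [smul_zero]
        smul_mem' := by
          intro c q hq r hr
          rw [smul_comm, hq r hr, smul_zero] }
    have hVmem : ∀ q : Q, q ∈ V ↔ ∀ r ∈ 𝔭, r • q = 0 := fun q => Iff.rfl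
    -- V is killed by the maximal ideal
    have hVm : Module.IsTorsionBySet (Localization.AtPrime 𝔭) V
        (IsLocalRing.maximalIdeal (Localization.AtPrime 𝔭) : Set (Localization.AtPrime 𝔭)) := by
      intro q c
      obtain ⟨r, s, hrs⟩ := IsLocalization.exists_mk'_eq 𝔭.primeCompl (c : Localization.AtPrime 𝔭)
      have hr : r ∈ 𝔭 := by
        have := c.2
        rw [← hrs] at this
        exact (IsLocalization.AtPrime.mk'_mem_maximal_iff (Localization.AtPrime 𝔭) 𝔭 r s).mp this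
      have hspec := IsLocalization.mk'_spec' (Localization.AtPrime 𝔭) r s
      rw [hrs] at hspec
      have hunit : IsUnit (algebraMap R₁ (Localization.AtPrime 𝔭) (s : R₁)) :=
        IsLocalization.map_units _ s
      apply Subtype.ext
      show (c : Localization.AtPrime 𝔭) • (q : Q) = 0
      have h1 : (algebraMap R₁ (Localization.AtPrime 𝔭) (s : R₁)) • ((c : Localization.AtPrime 𝔭) • (q : Q))
          = 0 := by
        rw [smul_smul, hspec, algebraMap_smul]
        exact q.2 r hr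
      obtain ⟨w, hw⟩ := hunit.exists_left_inv
      have h2 := congrArg (fun y => w • y) h1
      simp only [smul_zero] at h2
      rw [smul_smul, hw, one_smul] at h2
      exact h2
    letI : Module (IsLocalRing.ResidueField (Localization.AtPrime 𝔭)) V := hVm.module
    haveI : IsScalarTower R₁ (IsLocalRing.ResidueField (Localization.AtPrime 𝔭)) V :=
      hVm.isScalarTower
    -- V satisfies SDg
    have hSDV : SDg R₁ v g₁ V := by
      let e := (Module.Free.chooseBasis (IsLocalRing.ResidueField (Localization.AtPrime 𝔭)) V).repr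
      exact SDg.of_equiv (e.restrictScalars R₁)
        (SDg.finsupp _ (FIB (IsLocalRing.ResidueField (Localization.AtPrime 𝔭))) _)
    -- the quotient
    have hQbar : ∀ r ∈ 𝔭 ^ n, ∀ q : Q ⧸ V, r • q = 0 := by
      intro r hr q
      obtain ⟨q, rfl⟩ := V.mkQ_surjective q
      have : r • q ∈ V := by
        intro r' hr'
        rw [smul_smul]
        exact hQ _ (by rw [pow_succ']; exact Ideal.mul_mem_mul hr' hr) q
      have h2 : r • V.mkQ q = V.mkQ (r • q) := rfl
      rw [h2]
      exact (Submodule.Quotient.mk_eq_zero V).mpr this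
    have hSDQ : SDg R₁ v g₁ (Q ⧸ V) := ih (Q ⧸ V) hQbar
    -- main argument
    intro x hx
    let π : Q →ₗ[R₁] Q ⧸ V := V.mkQ.restrictScalars R₁
    let incl : V →ₗ[R₁] Q := V.subtype.restrictScalars R₁
    obtain ⟨m, hm⟩ := hSDQ (FQ A₁ A₁ π x) (hyp_nat π x hx)
    have hex : Function.Exact (LinearMap.lTensor A₁ incl) (LinearMap.lTensor A₁ π) :=
      lTensor_exact A₁ (LinearMap.exact_subtype_mkQ V) V.mkQ_surjective
    have h1 : LinearMap.lTensor A₁ π (g₁ ^ m • x) = 0 := by
      show FQ A₁ A₁ π (g₁ ^ m • x) = 0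
      rw [map_smul, hm]
    obtain ⟨x', hx'⟩ := (hex _).mp h1
    have hx'' : FQ A₁ A₁ incl x' = g₁ ^ m • x := hx'
    have hinj : ∀ j, Function.Injective (FQ A₁ (D j) incl) := by
      intro j
      exact Module.Flat.lTensor_preserves_injective_linearMap (M := D j) incl
        (Submodule.subtype_injective V)
    obtain ⟨m', hm'⟩ := hSDV x' (fun j => by
      obtain ⟨mj, hmj⟩ := hx j
      refine ⟨mj, hinj j ?_⟩
      rw [map_zero, map_smul, vQ_nat, hx'', map_smul, smul_comm, hmj, smul_zero])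
    refine ⟨m' + m, ?_⟩
    rw [pow_add, mul_smul, ← hx'', ← map_smul, hm', map_zero]

end LemmaB

end Groth.Agent.Helper2.SchDom
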