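import Mathlib
import Groth.Agent.Lib.Helper2.SchDom.Fib1

set_option autoImplicit false
set_option backward.isDefEq.respectTransparency.types false
set_option synthInstance.maxHeartbeats 400000
set_option maxHeartbeats 4000000
set_option linter.style.haveILetI false
set_option linter.unusedSectionVars false
set_option linter.unusedVariables false

/-!
# Fibrewise separating families are universally separating (algebra, part 2: Krull)
-/

open TensorProduct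

namespace Groth.Agent.Helper2.SchDom

universe u w

section Krull

variable {R₁ : Type u} [CommRing R₁] {A₁ : Type u} [CommRing A₁] [Algebra R₁ A₁]

/-- the image of `A₁ ⊗ 𝔭ⁿQ` in `A₁ ⊗ Q` lies in `(𝔭A₁)ⁿ (A₁ ⊗ Q)` -/
theorem lTensor_pow_smul_le (𝔭 : Ideal R₁) (n : ℕ) (Q : Type u) [AddCommGroup Q] [Module R₁ Q]
    (z : A₁ ⊗[R₁] (𝔭 ^ n • ⊤ : Submodule R₁ Q)) :
    LinearMap.lTensor A₁ (𝔭 ^ n • ⊤ : Submodule R₁ Q).subtype z
      ∈ ((𝔭.map (algebraMap R₁ A₁)) ^ n • ⊤ : Submodule A₁ (A₁ ⊗[R₁] Q)) := by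
  induction z using TensorProduct.induction_on with
  | zero => simp
  | tmul a q =>
    rw [LinearMap.lTensor_tmul]
    obtain ⟨q, hq⟩ := q
    show a ⊗ₜ[R₁] q ∈ _
    refine Submodule.smul_induction_on hq ?_ ?_
    · intro r hr y _
      rw [tmul_smul, ← algebraMap_smul A₁ r (a ⊗ₜ[R₁] y)]
      refine Submodule.smul_mem_smul ?_ Submodule.mem_top
      rw [← Ideal.map_pow]
      exact Ideal.mem_map_of_mem _ hr
    · intro y₁ y₂ h₁ h₂
      rw [tmul_add]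
      exact Submodule.add_mem _ h₁ h₂
  | add z₁ z₂ h₁ h₂ =>
    rw [map_add]
    exact Submodule.add_mem _ h₁ h₂

/-- Krull: an element which lies in `Jⁿ M` up to multiplication by elements outside `𝔮`, for all `n`,
is killed by an element outside `𝔮` -/
theorem exists_smul_eq_zero_of_forall_mem_pow [IsNoetherianRing A₁] (M : Type u) [AddCommGroup M]
    [Module A₁ M] [Module.Finite A₁ M] (𝔮 : Ideal A₁) [𝔮.IsPrime] (Jd : Ideal A₁) (hJ : Jd ≤ 𝔮)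
    (x : M) (h : ∀ n : ℕ, ∃ a : A₁, a ∉ 𝔮 ∧ a • x ∈ (Jd ^ n • ⊤ : Submodule A₁ M)) :
    ∃ a : A₁, a ∉ 𝔮 ∧ a • x = 0 := by
  let Aq := Localization.AtPrime 𝔮
  let Mq := LocalizedModule 𝔮.primeCompl M
  let Jq : Ideal Aq := Jd.map (algebraMap A₁ Aq)
  have hJq : Jq ≠ ⊤ := by
    intro htop
    have h1 : Jq ≤ IsLocalRing.maximalIdeal Aq := by
      rw [← Localization.AtPrime.map_eq_maximalIdeal]
      exact Ideal.map_mono hJ
    rw [htop] at h1
    exact (IsLocalRing.maximalIdeal.isMaximal Aq).ne_top (top_le_iff.mp h1)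
  have hkrull : (⨅ i : ℕ, Jq ^ i • ⊤ : Submodule Aq Mq) = ⊥ :=
    Ideal.iInf_pow_smul_eq_bot_of_isLocalRing Jq hJq
  have hmap : ∀ (n : ℕ) (y : M), y ∈ (Jd ^ n • ⊤ : Submodule A₁ M) →
      LocalizedModule.mk y 1 ∈ (Jq ^ n • ⊤ : Submodule Aq Mq) := by
    intro n y hy
    refine Submodule.smul_induction_on hy ?_ ?_
    · intro c hc y' _
      have h1 : (LocalizedModule.mk (c • y') 1 : Mq)
          = (algebraMap A₁ Aq c) • (LocalizedModule.mk y' 1 : Mq) := by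
        rw [← Localization.mk_one_eq_algebraMap, LocalizedModule.mk_smul_mk, one_mul]
      rw [h1]
      refine Submodule.smul_mem_smul ?_ Submodule.mem_top
      rw [← Ideal.map_pow]
      exact Ideal.mem_map_of_mem _ hc
    · intro y₁ y₂ h₁ h₂
      have : (LocalizedModule.mk (y₁ + y₂) 1 : Mq)
          = LocalizedModule.mk y₁ 1 + LocalizedModule.mk y₂ 1 := by
        rw [LocalizedModule.mk_add_mk]
        simp
      rw [this]
      exact Submodule.add_mem _ h₁ h₂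
  have hx0 : (LocalizedModule.mk x 1 : Mq) ∈ (⨅ i : ℕ, Jq ^ i • ⊤ : Submodule Aq Mq) := by
    rw [Submodule.mem_iInf]
    intro n
    obtain ⟨a, ha, hax⟩ := h n
    have h1 : (LocalizedModule.mk x 1 : Mq)
        = (Localization.mk 1 (⟨a, ha⟩ : 𝔮.primeCompl) : Aq) • (LocalizedModule.mk (a • x) 1 : Mq) := by
      rw [LocalizedModule.mk_smul_mk, one_smul, mul_one]
      exact (LocalizedModule.mk_cancel (⟨a, ha⟩ : 𝔮.primeCompl) x).symm
    rw [h1]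
    exact Submodule.smul_mem _ _ (hmap n _ hax)
  rw [hkrull, Submodule.mem_bot] at hx0
  have hx1 : LocalizedModule.mkLinearMap 𝔮.primeCompl M x = 0 := hx0
  obtain ⟨⟨a, ha⟩, hax⟩ := (IsLocalizedModule.eq_zero_iff 𝔮.primeCompl
    (LocalizedModule.mkLinearMap 𝔮.primeCompl M)).mp hx1
  exact ⟨a, ha, hax⟩

/-- the kernel of `A₁ ⊗ Q̄ → A₁ ⊗ Q̄_𝔭` consists of torsion elements -/
theorem kernel_of_localized (𝔭 : Ideal R₁) [𝔭.IsPrime] (Qb : Type u) [AddCommGroup Qb]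
    [Module R₁ Qb] (y : A₁ ⊗[R₁] Qb)
    (hy : LinearMap.lTensor A₁ (LocalizedModule.mkLinearMap 𝔭.primeCompl Qb) y = 0) :
    ∃ s : R₁, s ∉ 𝔭 ∧ s • y = 0 := by
  let mk := LocalizedModule.mkLinearMap 𝔭.primeCompl Qb
  have hnat : ∀ y : A₁ ⊗[R₁] Qb,
      AlgebraTensorModule.rTensor R₁ A₁ mk (TensorProduct.comm R₁ A₁ Qb y)
        = TensorProduct.comm R₁ A₁ _ (LinearMap.lTensor A₁ mk y) := by
    intro y
    induction y using TensorProduct.induction_on with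
    | zero => simp
    | tmul a q => simp
    | add y₁ y₂ h₁ h₂ => simp only [map_add, h₁, h₂]
  have h1 : AlgebraTensorModule.rTensor R₁ A₁ mk (TensorProduct.comm R₁ A₁ Qb y) = 0 := by
    rw [hnat, hy, map_zero]
  obtain ⟨⟨s, hs⟩, hsy⟩ := (IsLocalizedModule.eq_zero_iff 𝔭.primeCompl
    (AlgebraTensorModule.rTensor R₁ A₁ mk)).mp h1
  refine ⟨s, hs, (TensorProduct.comm R₁ A₁ Qb).injective ?_⟩
  rw [map_smul, map_zero]
  exact hsy

end Krull

section Main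

variable {R₁ : Type u} [CommRing R₁] {A₁ : Type u} [CommRing A₁] [Algebra R₁ A₁]
  {J : Type w} {D : J → Type u} [∀ j, AddCommGroup (D j)] [∀ j, Module A₁ (D j)]
  [∀ j, Module R₁ (D j)] [∀ j, IsScalarTower R₁ A₁ (D j)]
  {v : ∀ j, A₁ →ₗ[A₁] D j} {g₁ : A₁}

theorem SDg.of_finite [IsNoetherianRing A₁] [∀ j, Module.Flat R₁ (D j)]
    (FIB : ∀ (K : Type u) [Field K] [Algebra R₁ K], SDg R₁ v g₁ K)
    (Q : Type u) [AddCommGroup Q] [Module R₁ Q] [Module.Finite R₁ Q] : SDg R₁ v g₁ Q := by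
  intro x hx
  by_contra hcon
  push Not at hcon
  let I : Ideal A₁ := LinearMap.ker (LinearMap.toSpanSingleton A₁ (A₁ ⊗[R₁] Q) x)
  have hI : ∀ a, a ∈ I ↔ a • x = 0 := fun a => by
    simp [I, LinearMap.mem_ker, LinearMap.toSpanSingleton_apply]
  have hdisj : Disjoint (I : Set A₁) (Submonoid.powers g₁ : Set A₁) := by
    rw [Set.disjoint_left]
    rintro a ha ⟨m, rfl⟩
    exact hcon m ((hI _).mp ha)
  obtain ⟨𝔮, h𝔮, hI𝔮, h𝔮g⟩ := Ideal.exists_le_prime_disjoint I (Submonoid.powers g₁) hdisj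
  haveI := h𝔮
  have hg𝔮 : ∀ m : ℕ, g₁ ^ m ∉ 𝔮 := fun m hm => Set.disjoint_left.mp h𝔮g hm ⟨m, rfl⟩
  let 𝔭 := 𝔮.comap (algebraMap R₁ A₁)
  haveI : 𝔭.IsPrime := Ideal.comap_isPrime _ _
  have hJ : 𝔭.map (algebraMap R₁ A₁) ≤ 𝔮 := Ideal.map_comap_le
  haveI : Module.Finite A₁ (A₁ ⊗[R₁] Q) := Module.Finite.base_change R₁ A₁ Q
  suffices hkey : ∀ n : ℕ, ∃ a : A₁, a ∉ 𝔮 ∧ a • x ∈
      ((𝔭.map (algebraMap R₁ A₁)) ^ n • ⊤ : Submodule A₁ (A₁ ⊗[R₁] Q)) by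
    obtain ⟨a, ha, hax⟩ := exists_smul_eq_zero_of_forall_mem_pow (A₁ ⊗[R₁] Q) 𝔮
      (𝔭.map (algebraMap R₁ A₁)) hJ x hkey
    exact ha (hI𝔮 ((hI a).mpr hax))
  intro n
  · let Qn := LocalizedModule 𝔭.primeCompl (Q ⧸ (𝔭 ^ n • ⊤ : Submodule R₁ Q))
    have hQn : ∀ r ∈ 𝔭 ^ n, ∀ y : Qn, r • y = 0 := by
      intro r hr y
      induction y using LocalizedModule.induction_on with
      | h q t =>
        rw [LocalizedModule.smul'_mk]
        obtain ⟨q, rfl⟩ := (𝔭 ^ n • ⊤ : Submodule R₁ Q).mkQ_surjective q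
        have : r • (𝔭 ^ n • ⊤ : Submodule R₁ Q).mkQ q = 0 := by
          rw [← map_smul]
          exact (Submodule.Quotient.mk_eq_zero _).mpr (Submodule.smul_mem_smul hr Submodule.mem_top)
        rw [this, LocalizedModule.zero_mk]
    have hSD : SDg R₁ v g₁ Qn := SDg.of_nilpotent FIB 𝔭 n Qn hQn
    let mkQ : Q →ₗ[R₁] Q ⧸ (𝔭 ^ n • ⊤ : Submodule R₁ Q) := (𝔭 ^ n • ⊤ : Submodule R₁ Q).mkQ
    let mk : (Q ⧸ (𝔭 ^ n • ⊤ : Submodule R₁ Q)) →ₗ[R₁] Qn :=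
      LocalizedModule.mkLinearMap 𝔭.primeCompl _
    obtain ⟨m, hm⟩ := hSD (FQ A₁ A₁ (mk ∘ₗ mkQ) x) (hyp_nat _ x hx)
    have h1 : LinearMap.lTensor A₁ mk (LinearMap.lTensor A₁ mkQ (g₁ ^ m • x)) = 0 := by
      rw [← LinearMap.comp_apply, ← LinearMap.lTensor_comp]
      show FQ A₁ A₁ (mk ∘ₗ mkQ) (g₁ ^ m • x) = 0
      rw [map_smul, hm]
    obtain ⟨s, hs, hsy⟩ := kernel_of_localized 𝔭 _ _ h1
    have h2 : LinearMap.lTensor A₁ mkQ (s • g₁ ^ m • x) = 0 := by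
      rw [map_smul]
      exact hsy
    have hex := lTensor_exact A₁ (LinearMap.exact_subtype_mkQ (𝔭 ^ n • ⊤ : Submodule R₁ Q))
      (Submodule.mkQ_surjective _)
    obtain ⟨z, hz⟩ := (hex _).mp h2
    refine ⟨algebraMap R₁ A₁ s * g₁ ^ m, ?_, ?_⟩
    · intro hmem
      rcases h𝔮.mem_or_mem hmem with h | h
      · exact hs h
      · exact hg𝔮 m h
    · rw [mul_smul, algebraMap_smul, ← hz]
      exact lTensor_pow_smul_le 𝔭 n Q z

theorem SDg.all [IsNoetherianRing A₁] [∀ j, Module.Flat R₁ (D j)]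
    (FIB : ∀ (K : Type u) [Field K] [Algebra R₁ K], SDg R₁ v g₁ K)
    (Q : Type u) [AddCommGroup Q] [Module R₁ Q] : SDg R₁ v g₁ Q := by
  intro x hx
  obtain ⟨Q₀, hQ₀fin, hxQ₀⟩ := TensorProduct.exists_finite_submodule_right_of_setFinite
    ({x} : Set (A₁ ⊗[R₁] Q)) (Set.finite_singleton x)
  obtain ⟨x₀, hx₀⟩ := hxQ₀ (Set.mem_singleton x)
  have hx₀' : FQ A₁ A₁ Q₀.subtype x₀ = x := hx₀
  have hinj : ∀ j, Function.Injective (FQ A₁ (D j) Q₀.subtype) := fun j =>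
    Module.Flat.lTensor_preserves_injective_linearMap (M := D j) Q₀.subtype
      (Submodule.subtype_injective Q₀)
  have hyp₀ : ∀ j, ∃ m : ℕ, g₁ ^ m • vQ R₁ v Q₀ j x₀ = 0 := by
    intro j
    obtain ⟨m, hm⟩ := hx j
    refine ⟨m, hinj j ?_⟩
    rw [map_zero, map_smul, vQ_nat, hx₀', hm]
  obtain ⟨m, hm⟩ := SDg.of_finite FIB Q₀ x₀ hyp₀
  exact ⟨m, by rw [← hx₀', ← map_smul, hm, map_zero]⟩

end Main

end Groth.Agent.Helper2.SchDom
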