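import Mathlib
import Groth.Agent.Lib.Helper2.SchDom.Alg2
import Groth.Agent.Lib.Helper2.SchDom.Fib2

set_option autoImplicit false
set_option backward.isDefEq.respectTransparency.types false
set_option synthInstance.maxHeartbeats 400000
set_option maxHeartbeats 4000000
set_option linter.style.haveILetI false
set_option linter.unusedSectionVars false
set_option linter.unusedVariables false

/-!
# Fibrewise separating families of rings are universally separating
-/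

open TensorProduct

namespace Groth.Agent.Helper2.SchDom

universe u w

section

variable {R : Type u} [CommRing R] {A : Type u} [CommRing A] [Algebra R A]
  {J : Type w} {C : J → Type u} [∀ j, CommRing (C j)] [∀ j, Algebra R (C j)]
  (φ : ∀ j, A →ₐ[R] C j)

/-- translation between the two formulations -/
theorem SDmod_iff_forall_SDg (R₁ : Type u) [CommRing R₁] [Algebra R R₁]
    (Q : Type u) [AddCommGroup Q] [Module R₁ Q] :
    letI : ∀ j, Algebra (R₁ ⊗[R] A) (R₁ ⊗[R] C j) := fun j => (rho φ R₁ j).toRingHom.toAlgebra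
    haveI : ∀ j, IsScalarTower R₁ (R₁ ⊗[R] A) (R₁ ⊗[R] C j) := fun j =>
      IsScalarTower.of_algebraMap_eq (fun r => ((rho φ R₁ j).commutes r).symm)
    SDmod (rho φ R₁) Q ↔ ∀ g : R₁ ⊗[R] A, SDg R₁ (A₁ := R₁ ⊗[R] A) (D := fun j => R₁ ⊗[R] C j)
      (fun j => Algebra.linearMap (R₁ ⊗[R] A) (R₁ ⊗[R] C j)) g Q := by
  letI : ∀ j, Algebra (R₁ ⊗[R] A) (R₁ ⊗[R] C j) := fun j => (rho φ R₁ j).toRingHom.toAlgebra
  haveI : ∀ j, IsScalarTower R₁ (R₁ ⊗[R] A) (R₁ ⊗[R] C j) := fun j =>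
    IsScalarTower.of_algebraMap_eq (fun r => ((rho φ R₁ j).commutes r).symm)
  have hv : ∀ (j : J) (x : (R₁ ⊗[R] A) ⊗[R₁] Q),
      vQ R₁ (A₁ := R₁ ⊗[R] A) (D := fun j => R₁ ⊗[R] C j)
        (fun j => Algebra.linearMap (R₁ ⊗[R] A) (R₁ ⊗[R] C j)) Q j x = tmap (rho φ R₁) Q j x := by
    intro j x
    induction x using TensorProduct.induction_on with
    | zero => simp
    | tmul a q => rfl
    | add x y hx hy => rw [map_add, map_add, hx, hy]
  have hs : ∀ (j : J) (g : R₁ ⊗[R] A) (m : ℕ) (y : (R₁ ⊗[R] C j) ⊗[R₁] Q),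
      g ^ m • y = (rho φ R₁ j g) ^ m • y := by
    intro j g m y
    rw [← map_pow]
    exact (algebraMap_smul (R₁ ⊗[R] C j) (g ^ m) y).symm
  constructor
  · intro h g x hx
    refine h g x (fun j => ?_)
    obtain ⟨m, hm⟩ := hx j
    refine ⟨m, ?_⟩
    rw [hv, hs] at hm
    exact hm
  · intro h g s hx
    refine h g s (fun j => ?_)
    obtain ⟨m, hm⟩ := hx j
    refine ⟨m, ?_⟩
    rw [hv, hs]
    exact hm

theorem SDmod_of_fibrewise [∀ j, Module.Flat R (C j)]
    (R₁ : Type u) [CommRing R₁] [Algebra R R₁] [IsNoetherianRing (R₁ ⊗[R] A)]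
    (FIB : ∀ (K : Type u) [Field K] [Algebra R K], RingSD φ K)
    (Q : Type u) [AddCommGroup Q] [Module R₁ Q] : SDmod (rho φ R₁) Q := by
  letI : ∀ j, Algebra (R₁ ⊗[R] A) (R₁ ⊗[R] C j) := fun j => (rho φ R₁ j).toRingHom.toAlgebra
  haveI : ∀ j, IsScalarTower R₁ (R₁ ⊗[R] A) (R₁ ⊗[R] C j) := fun j =>
    IsScalarTower.of_algebraMap_eq (fun r => ((rho φ R₁ j).commutes r).symm)
  rw [SDmod_iff_forall_SDg]
  intro g
  refine SDg.all (fun K _ _ => ?_) Q
  letI : Algebra R K := ((algebraMap R₁ K).comp (algebraMap R R₁)).toAlgebra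
  haveI : IsScalarTower R R₁ K := IsScalarTower.of_algebraMap_eq (fun _ => rfl)
  have h1 : SDmod (rho φ R₁) K :=
    (SDmod_iff_SDalong φ R₁ K).mpr (SDalong_of_ringSD φ R₁ K (FIB K))
  exact (SDmod_iff_forall_SDg φ R₁ K).mp h1 g

theorem theta_inclusion (R' : Type u) [CommRing R'] [Algebra R R'] {R₁ R₃ : Subalgebra R R'}
    (h : R₁ ≤ R₃) (g₁ : R₁ ⊗[R] A) :
    theta A R₃ R' (Algebra.TensorProduct.map (Subalgebra.inclusion h) (AlgHom.id R A) g₁)
      = theta A R₁ R' g₁ := by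
  induction g₁ using TensorProduct.induction_on with
  | zero => simp
  | tmul r a => rfl
  | add x y hx hy => rw [map_add, map_add, map_add, hx, hy]

theorem exists_fg_theta (R' : Type u) [CommRing R'] [Algebra R R'] (g' : R' ⊗[R] A) :
    ∃ (R₁ : Subalgebra R R') (_ : R₁.FG) (g₁ : R₁ ⊗[R] A), theta A R₁ R' g₁ = g' := by
  induction g' using TensorProduct.induction_on with
  | zero => exact ⟨⊥, Subalgebra.fg_bot, 0, map_zero _⟩
  | tmul r' a =>
    refine ⟨Algebra.adjoin R {r'}, ⟨{r'}, by rw [Finset.coe_singleton]⟩,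
      (⟨r', Algebra.subset_adjoin rfl⟩ : Algebra.adjoin R {r'}) ⊗ₜ[R] a, rfl⟩
  | add x y hx hy =>
    obtain ⟨R₁, h₁, g₁, rfl⟩ := hx
    obtain ⟨R₂, h₂, g₂, rfl⟩ := hy
    refine ⟨R₁ ⊔ R₂, h₁.sup h₂,
      Algebra.TensorProduct.map (Subalgebra.inclusion (le_sup_left : R₁ ≤ R₁ ⊔ R₂)) (AlgHom.id R A) g₁
      + Algebra.TensorProduct.map (Subalgebra.inclusion (le_sup_right : R₂ ≤ R₁ ⊔ R₂))
          (AlgHom.id R A) g₂, ?_⟩
    rw [map_add, theta_inclusion, theta_inclusion]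

/-- **fibrewise separating families of rings are universally separating** -/
theorem ringSD_of_fibrewise [IsNoetherianRing A] [∀ j, Module.Flat R (C j)]
    (FIB : ∀ (K : Type u) [Field K] [Algebra R K], RingSD φ K)
    (R' : Type u) [CommRing R'] [Algebra R R'] : RingSD φ R' := by
  intro g' s' hyp
  obtain ⟨R₁, hfg, g₁, rfl⟩ := exists_fg_theta (A := A) R' g'
  haveI : Algebra.FiniteType R R₁ := ⟨(Subalgebra.fg_top R₁).mpr hfg⟩
  haveI : IsNoetherianRing (A ⊗[R] R₁) := Algebra.FiniteType.isNoetherianRing A (A ⊗[R] R₁)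
  haveI : IsNoetherianRing (R₁ ⊗[R] A) :=
    isNoetherianRing_of_ringEquiv (A ⊗[R] R₁) (Algebra.TensorProduct.comm R A R₁).toRingEquiv
  have h1 : SDmod (rho φ R₁) R' := SDmod_of_fibrewise φ R₁ FIB R'
  have h2 := (SDmod_iff_SDalong φ R₁ R').mp h1
  obtain ⟨m, hm⟩ := h2 g₁ s' (fun i => by
    obtain ⟨m, hm⟩ := hyp i
    exact ⟨m, by rw [map_mul, map_pow] at hm; exact hm⟩)
  exact ⟨m, hm⟩

end

end Groth.Agent.Helper2.SchDom
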