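import Mathlib
import Groth.Agent.Lib.Helper9.GenFree.Core
import Groth.Agent.Lib.Helper9.GenFree.Conv

set_option autoImplicit false
set_option backward.isDefEq.respectTransparency.types false
set_option synthInstance.maxHeartbeats 400000
set_option maxHeartbeats 4000000
set_option linter.style.haveILetI false
set_option linter.unusedSectionVars false
set_option linter.unusedVariables false

/-!
# Separating families and generically free base change

`key`: if `B` becomes free after inverting `f`, a family of linear maps `u i : M → N i` which is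
separating after inverting `f` stays separating (up to `f`-power torsion) after `⊗ B`.
-/

open TensorProduct

namespace Groth.Agent.Helper2.SchDom

universe u w

section Key

variable {D : Type u} [CommRing D]

/-- naturality of `cancelBaseChange` -/
theorem cancel_nat {R : Type*} [CommRing R] {A' : Type*} [CommRing A'] [Algebra R A']
    {M N : Type*} [AddCommGroup M] [AddCommGroup N] [Module A' M] [Module A' N]
    [Module R M] [Module R N] [IsScalarTower R A' M] [IsScalarTower R A' N]
    (P : Type*) [AddCommGroup P] [Module R P] (u : M →ₗ[A'] N) (z : M ⊗[A'] (A' ⊗[R] P)) :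
    AlgebraTensorModule.cancelBaseChange R A' A' N P (u.rTensor (A' ⊗[R] P) z)
      = (u.restrictScalars R).rTensor P (AlgebraTensorModule.cancelBaseChange R A' A' M P z) := by
  induction z using TensorProduct.induction_on with
  | zero => simp
  | tmul m y =>
    induction y using TensorProduct.induction_on with
    | zero => simp
    | tmul a p =>
      simp only [LinearMap.rTensor_tmul, AlgebraTensorModule.cancelBaseChange_tmul,
        LinearMap.coe_restrictScalars, map_smul]
    | add y₁ y₂ h₁ h₂ =>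
      simp only [tmul_add, map_add] at h₁ h₂ ⊢
      rw [h₁, h₂]
  | add z₁ z₂ h₁ h₂ => simp only [map_add, h₁, h₂]

theorem key (f : D) {B : Type u} [AddCommGroup B] [Module D B]
    (hfree : Module.Free (Localization.Away f) (LocalizedModule (Submonoid.powers f) B))
    {ι : Type w} (M : Type u) [AddCommGroup M] [Module D M] (N : ι → Type u)
    [∀ i, AddCommGroup (N i)] [∀ i, Module D (N i)] (u : ∀ i, M →ₗ[D] N i)
    (hSD : ∀ x : M, (∀ i, ∃ m : ℕ, f ^ m • u i x = 0) → ∃ m : ℕ, f ^ m • x = 0)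
    (t : M ⊗[D] B) (ht : ∀ i, (u i).rTensor B t = 0) : ∃ k : ℕ, f ^ k • t = 0 := by
  classical
  let S := Submonoid.powers f
  let R := Localization S
  let L := LocalizedModule S B
  let mkM := LocalizedModule.mkLinearMap S M
  let mkB := LocalizedModule.mkLinearMap S B
  let mkN := fun i => LocalizedModule.mkLinearMap S (N i)
  let uf : ∀ i, LocalizedModule S M →ₗ[D] LocalizedModule S (N i) :=
    fun i => IsLocalizedModule.map S mkM (mkN i) (u i)
  -- Step 1: joint injectivity after localization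
  have hinj : ∀ z : LocalizedModule S M, (∀ i, uf i z = 0) → z = 0 := by
    intro z hz
    obtain ⟨⟨x, s⟩, rfl⟩ := IsLocalizedModule.mk'_surjective S mkM z
    show IsLocalizedModule.mk' mkM x s = 0
    rw [IsLocalizedModule.mk'_eq_zero]
    have h1 : ∀ i, ∃ m : ℕ, f ^ m • u i x = 0 := by
      intro i
      have h2 : uf i (IsLocalizedModule.mk' mkM x s) = 0 := hz i
      rw [IsLocalizedModule.map_mk', IsLocalizedModule.mk'_eq_zero'] at h2
      obtain ⟨⟨_, m, rfl⟩, hm⟩ := h2
      exact ⟨m, hm⟩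
    obtain ⟨m, hm⟩ := hSD x h1
    exact (IsLocalizedModule.eq_zero_iff S mkM).mpr ⟨⟨f ^ m, m, rfl⟩, hm⟩
  -- Step 2: coordinates
  let e := Module.Free.chooseBasis R L
  let E : ∀ (P : Type u) [AddCommGroup P] [Module D P],
      LocalizedModule S P ⊗[D] L ≃ₗ[R] (Module.Free.ChooseBasisIndex R L →₀ LocalizedModule S P) :=
    fun P _ _ => (IsLocalization.moduleTensorEquiv S R (LocalizedModule S P) L).symm ≪≫ₗ
      TensorProduct.equivFinsuppOfBasisRight e
  have hE : ∀ (P : Type u) [AddCommGroup P] [Module D P] (m : LocalizedModule S P) (l : L)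
      (j : Module.Free.ChooseBasisIndex R L), E P (m ⊗ₜ[D] l) j = e.repr l j • m := by
    intro P _ _ m l j
    show TensorProduct.equivFinsuppOfBasisRight e
      ((IsLocalization.moduleTensorEquiv S R (LocalizedModule S P) L).symm (m ⊗ₜ[D] l)) j = _
    have : (IsLocalization.moduleTensorEquiv S R (LocalizedModule S P) L).symm (m ⊗ₜ[D] l)
        = m ⊗ₜ[R] l := by
      rw [LinearEquiv.symm_apply_eq]
      rfl
    rw [this, TensorProduct.equivFinsuppOfBasisRight_apply_tmul_apply]
  have hufR : ∀ i (r : R) (m : LocalizedModule S M), uf i (r • m) = r • uf i m := by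
    intro i r m
    exact (LinearMap.extendScalarsOfIsLocalization S R (uf i)).map_smul r m
  have hnat : ∀ i (z : LocalizedModule S M ⊗[D] L) (j : Module.Free.ChooseBasisIndex R L),
      E (N i) ((uf i).rTensor L z) j = uf i (E M z j) := by
    intro i z j
    induction z using TensorProduct.induction_on with
    | zero => simp
    | tmul m l =>
      rw [LinearMap.rTensor_tmul, hE, hE, hufR]
    | add z₁ z₂ h₁ h₂ =>
      simp only [map_add, Finsupp.add_apply, h₁, h₂]
  -- Step 3
  let Φ : ∀ (P : Type u) [AddCommGroup P] [Module D P],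
      P ⊗[D] B →ₗ[D] LocalizedModule S P ⊗[D] L :=
    fun P _ _ => TensorProduct.map (LocalizedModule.mkLinearMap S P) mkB
  have hΦ : ∀ i (z : M ⊗[D] B), (uf i).rTensor L (Φ M z) = Φ (N i) ((u i).rTensor B z) := by
    intro i z
    induction z using TensorProduct.induction_on with
    | zero => simp
    | tmul m b =>
      show (uf i).rTensor L (mkM m ⊗ₜ[D] mkB b) = (mkN i (u i m)) ⊗ₜ[D] mkB b
      rw [LinearMap.rTensor_tmul]
      congr 1
      exact IsLocalizedModule.map_apply S mkM (mkN i) (u i) m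
    | add z₁ z₂ h₁ h₂ =>
      simp only [map_add, h₁, h₂]
  have hz : Φ M t = 0 := by
    apply (E M).injective
    rw [map_zero]
    ext j
    rw [Finsupp.zero_apply]
    apply hinj
    intro i
    rw [← hnat, hΦ, ht i, map_zero, map_zero]
    rfl
  obtain ⟨⟨_, k, rfl⟩, hk⟩ := (IsLocalizedModule.eq_zero_iff S (Φ M)).mp hz
  exact ⟨k, hk⟩

end Key

section Generic

/-- generic freeness consequence over a domain -/
theorem exists_generic (D B : Type u) [CommRing D] [IsDomain D] [CommRing B] [Algebra D B]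
    [Algebra.FiniteType D B] :
    ∃ f : D, f ≠ 0 ∧ ∀ {ι : Type w} (M : Type u) [AddCommGroup M] [Module D M] (N : ι → Type u)
      [∀ i, AddCommGroup (N i)] [∀ i, Module D (N i)] (u : ∀ i, M →ₗ[D] N i),
      (∀ x : M, (∀ i, ∃ m : ℕ, f ^ m • u i x = 0) → ∃ m : ℕ, f ^ m • x = 0) →
      ∀ t : M ⊗[D] B, (∀ i, (u i).rTensor B t = 0) → ∃ k : ℕ, f ^ k • t = 0 := by
  obtain ⟨f, hf, -, ⟨ιS, bS, hbS⟩, -, -⟩ :=
    Groth.Agent.Helper9.GenFree.generic_freeness_core D B B
  have hfree : Module.Free (Localization.Away f) (LocalizedModule (Submonoid.powers f) B) :=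
    hbS.free_localizedModule
  refine ⟨f, hf, ?_⟩
  intro ι M _ _ N _ _ u hSD t ht
  exact key f hfree M N u hSD t ht

/-- generic freeness consequence modulo a prime ideal -/
theorem exists_generic_mod (A₀ : Type u) [CommRing A₀] (I : Ideal A₀) [I.IsPrime]
    (B₀ : Type u) [CommRing B₀] [Algebra A₀ B₀] [Algebra.FiniteType A₀ B₀] :
    ∃ a : A₀, a ∉ I ∧ ∀ {ι : Type w} (M : Type u) [AddCommGroup M] [Module A₀ M]
      (N : ι → Type u) [∀ i, AddCommGroup (N i)] [∀ i, Module A₀ (N i)]
      (u : ∀ i, M →ₗ[A₀] N i),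
      (∀ c ∈ I, ∀ x : M, c • x = 0) → (∀ i, ∀ c ∈ I, ∀ y : N i, c • y = 0) →
      (∀ x : M, (∀ i, ∃ m : ℕ, a ^ m • u i x = 0) → ∃ m : ℕ, a ^ m • x = 0) →
      ∀ t : M ⊗[A₀] B₀, (∀ i, (u i).rTensor B₀ t = 0) → ∃ k : ℕ, a ^ k • t = 0 := by
  obtain ⟨f, hf, H⟩ := exists_generic.{u, w} (A₀ ⧸ I) ((A₀ ⧸ I) ⊗[A₀] B₀)
  obtain ⟨a, rfl⟩ := Ideal.Quotient.mk_surjective f
  refine ⟨a, fun ha => hf (Ideal.Quotient.eq_zero_iff_mem.mpr ha), ?_⟩
  intro ι M _ _ N _ _ u hM hN hSD t ht
  have hMt : Module.IsTorsionBySet A₀ M (I : Set A₀) := by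
    intro x c
    exact hM c.1 c.2 x
  have hNt : ∀ i, Module.IsTorsionBySet A₀ (N i) (I : Set A₀) := by
    intro i y c
    exact hN i c.1 c.2 y
  letI : Module (A₀ ⧸ I) M := hMt.module
  letI : ∀ i, Module (A₀ ⧸ I) (N i) := fun i => (hNt i).module
  haveI : IsScalarTower A₀ (A₀ ⧸ I) M := hMt.isScalarTower
  haveI : ∀ i, IsScalarTower A₀ (A₀ ⧸ I) (N i) := fun i => (hNt i).isScalarTower
  let uD : ∀ i, M →ₗ[A₀ ⧸ I] N i := fun i =>
    { toFun := u i
      map_add' := (u i).map_add
      map_smul' := by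
        intro d x
        obtain ⟨r, rfl⟩ := Ideal.Quotient.mk_surjective d
        show u i ((Ideal.Quotient.mk I r) • x) = (Ideal.Quotient.mk I r) • u i x
        have h1 : (Ideal.Quotient.mk I r) • x = r • x := hMt.mk_smul r x
        have h2 : (Ideal.Quotient.mk I r) • u i x = r • u i x := (hNt i).mk_smul r (u i x)
        rw [h1, h2, map_smul] }
  have huD : ∀ i, (uD i).restrictScalars A₀ = u i := fun i => rfl
  have hsm : ∀ (P : Type u) [AddCommGroup P] [Module A₀ P] [Module (A₀ ⧸ I) P]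
      [IsScalarTower A₀ (A₀ ⧸ I) P] (m : ℕ) (y : P),
      (Ideal.Quotient.mk I a) ^ m • y = a ^ m • y := by
    intro P _ _ _ _ m y
    rw [← map_pow]
    exact algebraMap_smul (A₀ ⧸ I) (a ^ m) y
  let tD : M ⊗[A₀ ⧸ I] ((A₀ ⧸ I) ⊗[A₀] B₀) :=
    (AlgebraTensorModule.cancelBaseChange A₀ (A₀ ⧸ I) (A₀ ⧸ I) M B₀).symm t
  obtain ⟨k, hk⟩ := H M N uD (fun x hx => by
      obtain ⟨m, hm⟩ := hSD x (fun i => by
        obtain ⟨m, hm⟩ := hx i
        refine ⟨m, ?_⟩
        rw [← hsm (N i) m]
        exact hm)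
      exact ⟨m, by rw [hsm M m]; exact hm⟩) tD (fun i => by
    apply (AlgebraTensorModule.cancelBaseChange A₀ (A₀ ⧸ I) (A₀ ⧸ I) (N i) B₀).injective
    rw [cancel_nat, huD, map_zero, LinearEquiv.apply_symm_apply, ht i])
  refine ⟨k, ?_⟩
  have h3 := congrArg (AlgebraTensorModule.cancelBaseChange A₀ (A₀ ⧸ I) (A₀ ⧸ I) M B₀) hk
  rw [map_smul, map_zero, LinearEquiv.apply_symm_apply, hsm] at h3
  exact h3

end Generic

end Groth.Agent.Helper2.SchDom
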