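import Mathlib
import Groth.Agent.Lib.Helper2.SchDom.Flat1

set_option autoImplicit false
set_option backward.isDefEq.respectTransparency.types false
set_option synthInstance.maxHeartbeats 400000
set_option maxHeartbeats 4000000
set_option linter.style.haveILetI false
set_option linter.unusedSectionVars false
set_option linter.unusedVariables false

/-!
# Separating families are stable under flat finitely presented base change: module version

Noetherian induction on the ideals of a Noetherian ring of coefficients.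
-/

open TensorProduct

namespace Groth.Agent.Helper2.SchDom

universe u w

section Ind

variable (A₀ : Type u) [CommRing A₀] (B₀ : Type u) [CommRing B₀] [Algebra A₀ B₀]
  (A : Type u) [CommRing A] [Algebra A₀ A]

/-- the separating property tested on elements of `A₀` -/
def SD0 {ι : Type w} {M : Type u} [AddCommGroup M] [Module A M] [Module A₀ M]
    {N : ι → Type u} [∀ i, AddCommGroup (N i)] [∀ i, Module A (N i)] [∀ i, Module A₀ (N i)]
    (u : ∀ i, M →ₗ[A] N i) : Prop :=
  ∀ (g : A₀) (x : M), (∀ i, ∃ m : ℕ, g ^ m • u i x = 0) → ∃ m : ℕ, g ^ m • x = 0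

/-- the inductive property for an ideal `I` of `A₀` -/
def PropI (ι : Type w) (I : Ideal A₀) : Prop :=
  ∀ (M : Type u) [AddCommGroup M] [Module A M] [Module A₀ M] [IsScalarTower A₀ A M]
    (N : ι → Type u) [∀ i, AddCommGroup (N i)] [∀ i, Module A (N i)] [∀ i, Module A₀ (N i)]
    [∀ i, IsScalarTower A₀ A (N i)] (u : ∀ i, M →ₗ[A] N i),
    (∀ c ∈ I, ∀ x : M, c • x = 0) → SD0 A₀ A u →
    ∀ t : M ⊗[A₀] B₀, (∀ i, ((u i).restrictScalars A₀).rTensor B₀ t = 0) → t = 0

variable {A₀ B₀ A}

/-- flatness of `A ⊗ B₀` over `A` gives injectivity of `j ⊗ B₀` for `A`-linear injections -/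
theorem rTensor_injective_of_flat [Module.Flat A (A ⊗[A₀] B₀)]
    {M₁ M₂ : Type u} [AddCommGroup M₁] [Module A M₁] [Module A₀ M₁] [IsScalarTower A₀ A M₁]
    [AddCommGroup M₂] [Module A M₂] [Module A₀ M₂] [IsScalarTower A₀ A M₂]
    (j : M₁ →ₗ[A] M₂) (hj : Function.Injective j) :
    Function.Injective ((j.restrictScalars A₀).rTensor B₀) := by
  have h1 : Function.Injective (j.rTensor (A ⊗[A₀] B₀)) :=
    Module.Flat.rTensor_preserves_injective_linearMap j hj
  intro x y hxy
  obtain ⟨x', rfl⟩ := (AlgebraTensorModule.cancelBaseChange A₀ A A M₁ B₀).surjective x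
  obtain ⟨y', rfl⟩ := (AlgebraTensorModule.cancelBaseChange A₀ A A M₁ B₀).surjective y
  rw [← cancel_nat, ← cancel_nat] at hxy
  rw [h1 ((AlgebraTensorModule.cancelBaseChange A₀ A A M₂ B₀).injective hxy)]

/-- scalar multiplication as an `A`-linear endomorphism -/
noncomputable def smulEnd (M : Type u) [AddCommGroup M] [Module A M] (a : A₀) : M →ₗ[A] M :=
  (algebraMap A₀ A a) • LinearMap.id

theorem smulEnd_apply {M : Type u} [AddCommGroup M] [Module A M] [Module A₀ M]
    [IsScalarTower A₀ A M] (a : A₀) (x : M) : smulEnd (A := A) M a x = a • x := by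
  show (algebraMap A₀ A a) • x = a • x
  rw [algebraMap_smul]

theorem smulEnd_rTensor {M : Type u} [AddCommGroup M] [Module A M] [Module A₀ M]
    [IsScalarTower A₀ A M] (a : A₀) (t : M ⊗[A₀] B₀) :
    ((smulEnd (A := A) M a).restrictScalars A₀).rTensor B₀ t = a • t := by
  have : (smulEnd (A := A) M a).restrictScalars A₀ = a • LinearMap.id := by
    ext x
    exact smulEnd_apply a x
  rw [this, LinearMap.rTensor_smul, LinearMap.rTensor_id]
  rfl

/-- elements killed by `a` come from the `a`-torsion submodule -/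
theorem exists_of_smul_eq_zero [Module.Flat A (A ⊗[A₀] B₀)]
    {M : Type u} [AddCommGroup M] [Module A M] [Module A₀ M] [IsScalarTower A₀ A M]
    (a : A₀) (t : M ⊗[A₀] B₀) (hat : a • t = 0) :
    ∃ t'' : (LinearMap.ker (smulEnd (A := A) M a)) ⊗[A₀] B₀,
      (((LinearMap.ker (smulEnd (A := A) M a)).subtype).restrictScalars A₀).rTensor B₀ t'' = t := by
  set K := LinearMap.ker (smulEnd (A := A) M a) with hK
  let abar : (M ⧸ K) →ₗ[A] M := K.liftQ (smulEnd (A := A) M a) le_rfl
  have habar : Function.Injective abar := by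
    rw [← LinearMap.ker_eq_bot]
    exact Submodule.ker_liftQ_eq_bot _ _ _ le_rfl
  have hcomp : abar ∘ₗ K.mkQ = smulEnd (A := A) M a := Submodule.liftQ_mkQ _ _ _
  have h1 : (abar.restrictScalars A₀).rTensor B₀ ((K.mkQ.restrictScalars A₀).rTensor B₀ t) = 0 := by
    rw [← LinearMap.comp_apply, ← LinearMap.rTensor_comp]
    have : (abar.restrictScalars A₀) ∘ₗ (K.mkQ.restrictScalars A₀)
        = (smulEnd (A := A) M a).restrictScalars A₀ := by
      rw [← hcomp]; rfl
    rw [this, smulEnd_rTensor, hat]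
  have h2 : (K.mkQ.restrictScalars A₀).rTensor B₀ t = 0 := by
    apply rTensor_injective_of_flat abar habar
    rw [h1, map_zero]
  have hex : Function.Exact ((K.subtype.restrictScalars A₀).rTensor B₀)
      ((K.mkQ.restrictScalars A₀).rTensor B₀) := by
    apply rTensor_exact B₀
    · exact LinearMap.exact_subtype_mkQ K
    · exact K.mkQ_surjective
  exact (hex t).mp h2

/-- the property for `I ⊔ (b)` applied to the `b`-torsion submodule -/
theorem propI_ker {ι : Type w} (I : Ideal A₀) (b : A₀)
    (hP : PropI A₀ B₀ A ι (I ⊔ Ideal.span {b}))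
    (M : Type u) [AddCommGroup M] [Module A M] [Module A₀ M] [IsScalarTower A₀ A M]
    (N : ι → Type u) [∀ i, AddCommGroup (N i)] [∀ i, Module A (N i)] [∀ i, Module A₀ (N i)]
    [∀ i, IsScalarTower A₀ A (N i)] (u : ∀ i, M →ₗ[A] N i)
    (hI : ∀ c ∈ I, ∀ x : M, c • x = 0) (hSD : SD0 A₀ A u)
    (t'' : (LinearMap.ker (smulEnd (A := A) M b)) ⊗[A₀] B₀)
    (ht : ∀ i, (((u i) ∘ₗ (LinearMap.ker (smulEnd (A := A) M b)).subtype).restrictScalars
      A₀).rTensor B₀ t'' = 0) : t'' = 0 := by
  refine hP (LinearMap.ker (smulEnd (A := A) M b)) N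
    (fun i => (u i) ∘ₗ (LinearMap.ker (smulEnd (A := A) M b)).subtype) ?_ ?_ t'' ht
  · intro c hc x
    obtain ⟨c₁, hc₁, c₂, hc₂, rfl⟩ := Submodule.mem_sup.mp hc
    obtain ⟨r, rfl⟩ := Ideal.mem_span_singleton'.mp hc₂
    apply Subtype.ext
    show (c₁ + r * b) • (x : M) = 0
    have hx : b • (x : M) = 0 := by
      have := x.2
      rw [LinearMap.mem_ker, smulEnd_apply] at this
      exact this
    rw [add_smul, hI c₁ hc₁, mul_smul, hx, smul_zero, add_zero]
  · intro g x hx
    obtain ⟨m, hm⟩ := hSD g (x : M) hx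
    exact ⟨m, Subtype.ext hm⟩

theorem kill_step [Module.Flat A (A ⊗[A₀] B₀)] {ι : Type w} (I : Ideal A₀) (a : A₀)
    (hP : PropI A₀ B₀ A ι (I ⊔ Ideal.span {a}))
    (M : Type u) [AddCommGroup M] [Module A M] [Module A₀ M] [IsScalarTower A₀ A M]
    (N : ι → Type u) [∀ i, AddCommGroup (N i)] [∀ i, Module A (N i)] [∀ i, Module A₀ (N i)]
    [∀ i, IsScalarTower A₀ A (N i)] (u : ∀ i, M →ₗ[A] N i)
    (hI : ∀ c ∈ I, ∀ x : M, c • x = 0) (hSD : SD0 A₀ A u)
    (t : M ⊗[A₀] B₀) (ht : ∀ i, ((u i).restrictScalars A₀).rTensor B₀ t = 0)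
    (hat : a • t = 0) : t = 0 := by
  obtain ⟨t'', rfl⟩ := exists_of_smul_eq_zero (A := A) a t hat
  have h0 : t'' = 0 := by
    refine propI_ker I a hP M N u hI hSD t'' (fun i => ?_)
    have := ht i
    rw [← LinearMap.comp_apply, ← LinearMap.rTensor_comp] at this
    exact this
  rw [h0, map_zero]

theorem lt_sup_span {I : Ideal A₀} {a : A₀} (ha : a ∉ I) : I < I ⊔ Ideal.span {a} := by
  refine lt_of_le_of_ne le_sup_left (fun h => ha ?_)
  have : a ∈ I ⊔ Ideal.span {a} := Ideal.mem_sup_right (Ideal.mem_span_singleton_self _)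
  rwa [← h] at this

/-- the main induction -/
theorem propI_all [IsNoetherianRing A₀] [Algebra.FiniteType A₀ B₀] [Module.Flat A (A ⊗[A₀] B₀)]
    (ι : Type w) (I : Ideal A₀) : PropI A₀ B₀ A ι I := by
  refine IsNoetherian.induction (P := fun I : Ideal A₀ => PropI A₀ B₀ A ι I)
    (fun (I : Ideal A₀) ih => ?_) I
  intro M _ _ _ _ N _ _ _ _ u hI hSD t ht
  by_cases htop : I = ⊤
  · have hM : ∀ x : M, x = 0 := fun x => by
      have := hI 1 (htop ▸ Submodule.mem_top) x
      rwa [one_smul] at this
    have : ∀ t : M ⊗[A₀] B₀, t = 0 := fun t => by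
      induction t using TensorProduct.induction_on with
      | zero => rfl
      | tmul m b => rw [hM m, zero_tmul]
      | add x y hx hy => rw [hx, hy, add_zero]
    exact this t
  by_cases hp : Ideal.IsPrime I
  · haveI := hp
    obtain ⟨a, haI, H⟩ := exists_generic_mod.{u, w} A₀ I B₀
    have ht' : ∀ i, (((u i).rangeRestrict).restrictScalars A₀).rTensor B₀ t = 0 := by
      intro i
      apply rTensor_injective_of_flat (LinearMap.range (u i)).subtype
        (Submodule.subtype_injective _)
      rw [map_zero, ← LinearMap.comp_apply, ← LinearMap.rTensor_comp]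
      exact ht i
    obtain ⟨k, hk⟩ := H M (fun i => LinearMap.range (u i))
      (fun i => ((u i).rangeRestrict).restrictScalars A₀) hI
      (fun i c hc y => by
        obtain ⟨y, x, rfl⟩ := y
        apply Subtype.ext
        show c • u i x = 0
        rw [← LinearMap.map_smul_of_tower, hI c hc x, map_zero])
      (fun x hx => hSD a x (fun i => by
        obtain ⟨m, hm⟩ := hx i
        exact ⟨m, congrArg Subtype.val hm⟩)) t ht'
    have hak : a ^ k ∉ I := fun h => haI (hp.mem_of_pow_mem k h)
    exact kill_step I (a ^ k) (ih _ (lt_sup_span hak)) M N u hI hSD t ht hk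
  · obtain h | ⟨a, ha, b, hb, hab⟩ := Ideal.not_isPrime_iff.mp hp
    · exact absurd h htop
    let mulA : M →ₗ[A] (LinearMap.ker (smulEnd (A := A) M b)) :=
      (smulEnd (A := A) M a).codRestrict (LinearMap.ker (smulEnd (A := A) M b)) (fun x => by
        rw [LinearMap.mem_ker, smulEnd_apply, smulEnd_apply, smul_smul, mul_comm]
        exact hI _ hab x)
    have hs : (mulA.restrictScalars A₀).rTensor B₀ t = 0 := by
      refine propI_ker I b (ih _ (lt_sup_span hb)) M N u hI hSD _ (fun i => ?_)
      rw [← LinearMap.comp_apply, ← LinearMap.rTensor_comp]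
      have h2 : (((u i) ∘ₗ (LinearMap.ker (smulEnd (A := A) M b)).subtype).restrictScalars A₀)
          ∘ₗ (mulA.restrictScalars A₀)
          = ((u i).restrictScalars A₀) ∘ₗ ((smulEnd (A := A) M a).restrictScalars A₀) := rfl
      rw [h2, LinearMap.rTensor_comp, LinearMap.comp_apply, smulEnd_rTensor, map_smul, ht i,
        smul_zero]
    have hat : a • t = 0 := by
      have := congrArg
        (((LinearMap.ker (smulEnd (A := A) M b)).subtype.restrictScalars A₀).rTensor B₀) hs
      rw [map_zero, ← LinearMap.comp_apply, ← LinearMap.rTensor_comp] at this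
      have h2 : ((LinearMap.ker (smulEnd (A := A) M b)).subtype.restrictScalars A₀)
          ∘ₗ (mulA.restrictScalars A₀) = (smulEnd (A := A) M a).restrictScalars A₀ := rfl
      rw [h2, smulEnd_rTensor] at this
      exact this
    exact kill_step I a (ih _ (lt_sup_span ha)) M N u hI hSD t ht hat

end Ind

end Groth.Agent.Helper2.SchDom
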