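import Mathlib
import Groth.Agent.Lib.Helper2.SchDom.Alg1
import Groth.Agent.Lib.Helper2.SchDom.Flat2

set_option autoImplicit false
set_option backward.isDefEq.respectTransparency.types false
set_option synthInstance.maxHeartbeats 400000
set_option maxHeartbeats 4000000
set_option linter.style.haveILetI false
set_option linter.unusedSectionVars false
set_option linter.unusedVariables false

/-!
# Separating families of rings are stable under flat finitely presented base change
-/

open TensorProduct

namespace Groth.Agent.Helper2.SchDom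

universe u w

/-- global form: the base changed family is jointly injective -/
theorem eq_zero_of_SDring_of_flat_fp {A A'' : Type u} [CommRing A] [CommRing A''] [Algebra A A'']
    [Algebra.FinitePresentation A A''] [Module.Flat A A''] {ι : Type w} (C : ι → Type u)
    [∀ i, CommRing (C i)] [∀ i, Algebra A (C i)]
    (hA : SDring (fun i => algebraMap A (C i))) (t : A'')
    (ht : ∀ i, (1 : C i) ⊗ₜ[A] t = 0) : t = 0 := by
  let P := Algebra.Presentation.ofFinitePresentation A A''
  let A₀ := P.Core
  let B₀ := P.ModelOfHasCoeffs A₀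
  let e : A ⊗[A₀] B₀ ≃ₐ[A] A'' := P.tensorModelOfHasCoeffsEquiv A₀
  haveI : IsNoetherianRing A₀ := Algebra.FiniteType.isNoetherianRing ℤ A₀
  haveI : Module.Flat A (A ⊗[A₀] B₀) := Module.Flat.of_linearEquiv e.toLinearEquiv
  letI : ∀ i, Algebra A₀ (C i) := fun i =>
    ((algebraMap A (C i)).comp (algebraMap A₀ A)).toAlgebra
  haveI : ∀ i, IsScalarTower A₀ A (C i) := fun i => IsScalarTower.of_algebraMap_eq (fun _ => rfl)
  have hP := propI_all (A₀ := A₀) (B₀ := B₀) (A := A) ι ⊥
  have h0 : e.symm t = 0 := by
    refine hP A C (fun i => Algebra.linearMap A (C i)) ?_ ?_ (e.symm t) (fun i => ?_)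
    · intro c hc x
      rw [Ideal.mem_bot.mp hc, zero_smul]
    · intro g x hx
      obtain ⟨m, hm⟩ := hA (algebraMap A₀ A g) x (fun i => by
        obtain ⟨m, hm⟩ := hx i
        refine ⟨m, ?_⟩
        rw [map_mul, map_pow]
        rw [Algebra.linearMap_apply, Algebra.smul_def, map_pow,
          IsScalarTower.algebraMap_apply A₀ A (C i)] at hm
        exact hm)
      refine ⟨m, ?_⟩
      rw [Algebra.smul_def, map_pow]
      exact hm
    · have key : ∀ z : A ⊗[A₀] B₀,
          AlgebraTensorModule.cancelBaseChange A₀ A A (C i) B₀ ((1 : C i) ⊗ₜ[A] z)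
            = ((Algebra.linearMap A (C i)).restrictScalars A₀).rTensor B₀ z := by
        intro z
        induction z using TensorProduct.induction_on with
        | zero => simp
        | tmul a b =>
          simp only [AlgebraTensorModule.cancelBaseChange_tmul, LinearMap.rTensor_tmul,
            LinearMap.coe_restrictScalars, Algebra.linearMap_apply,
            Algebra.algebraMap_eq_smul_one]
        | add z₁ z₂ h₁ h₂ => rw [tmul_add, map_add, map_add, h₁, h₂]
      rw [← key]
      have h1 := congrArg (LinearMap.lTensor (C i) e.symm.toLinearEquiv.toLinearMap) (ht i)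
      rw [LinearMap.lTensor_tmul, map_zero] at h1
      have h2 : (e.symm.toLinearEquiv.toLinearMap) t = e.symm t := rfl
      rw [h2] at h1
      rw [h1, map_zero]
  exact e.symm.injective (by rw [h0, map_zero])

/-- local form -/
theorem SDring_includeRight_of_flat_fp {A A' : Type u} [CommRing A] [CommRing A'] [Algebra A A']
    [Algebra.FinitePresentation A A'] [Module.Flat A A'] {ι : Type w} (C : ι → Type u)
    [∀ i, CommRing (C i)] [∀ i, Algebra A (C i)]
    (hA : SDring (fun i => algebraMap A (C i))) :
    SDring (fun i => (Algebra.TensorProduct.includeRight : A' →ₐ[A] C i ⊗[A] A').toRingHom) := by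
  intro g' s' hyp
  let A'' := Localization.Away g'
  haveI : Algebra.FinitePresentation A' A'' := IsLocalization.Away.finitePresentation g'
  haveI : Algebra.FinitePresentation A A'' := Algebra.FinitePresentation.trans A A' A''
  haveI : Module.Flat A' A'' := IsLocalization.flat A'' (Submonoid.powers g')
  haveI : Module.Flat A A'' := Module.Flat.trans A A' A''
  have h0 : algebraMap A' A'' s' = 0 := by
    refine eq_zero_of_SDring_of_flat_fp C hA _ (fun i => ?_)
    obtain ⟨m, hm⟩ := hyp i
    have hm' : (1 : C i) ⊗ₜ[A] (g' ^ m * s') = 0 := hm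
    have h1 := congrArg (LinearMap.lTensor (C i) (IsScalarTower.toAlgHom A A' A'').toLinearMap) hm'
    rw [LinearMap.lTensor_tmul, map_zero] at h1
    have h2 : (IsScalarTower.toAlgHom A A' A'').toLinearMap (g' ^ m * s')
        = algebraMap A' A'' (g' ^ m) * algebraMap A' A'' s' := by
      show algebraMap A' A'' (g' ^ m * s') = _
      rw [map_mul]
    rw [h2] at h1
    have hunit : IsUnit (algebraMap A' A'' (g' ^ m)) :=
      IsLocalization.map_units A'' (⟨g' ^ m, m, rfl⟩ : Submonoid.powers g')
    obtain ⟨w, hw⟩ := hunit.exists_left_inv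
    have h3 : ((1 : C i) ⊗ₜ[A] w) * ((1 : C i) ⊗ₜ[A]
        (algebraMap A' A'' (g' ^ m) * algebraMap A' A'' s')) = (1 : C i) ⊗ₜ[A] algebraMap A' A'' s' := by
      rw [Algebra.TensorProduct.tmul_mul_tmul, one_mul, ← mul_assoc, hw, one_mul]
    rw [← h3, h1, mul_zero]
  obtain ⟨⟨_, m, rfl⟩, hm⟩ := (IsLocalization.map_eq_zero_iff (Submonoid.powers g') A'' s').mp h0
  exact ⟨m, hm⟩

end Groth.Agent.Helper2.SchDom
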