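import Mathlib
import Groth.Agent.Lib.Helper2.SchDom.Alg2

set_option autoImplicit false
set_option backward.isDefEq.respectTransparency.types false
set_option synthInstance.maxHeartbeats 400000
set_option maxHeartbeats 4000000
set_option linter.style.haveILetI false
set_option linter.unusedSectionVars false
set_option linter.unusedVariables false

/-!
# Separating families: base change over a field (part 3)
-/

open TensorProduct

namespace Groth.Agent.Helper2.SchDom

universe u v w

/-- a finitely generated torsion-free module over a domain embeds into a finite free module -/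
theorem exists_injective_to_free {P : Type u} [CommRing P] [IsDomain P] {D : Type u}
    [AddCommGroup D] [Module P D] [Module.Finite P D]
    (htf : ∀ (c : P) (x : D), c ≠ 0 → c • x = 0 → x = 0) :
    ∃ (r : ℕ) (f : D →ₗ[P] (Fin r → P)), Function.Injective f := by
  classical
  let Sm := nonZeroDivisors P
  let K := FractionRing P
  let V := LocalizedModule Sm D
  let ιV : D →ₗ[P] V := LocalizedModule.mkLinearMap Sm D
  haveI : Module.Finite K V := Module.Finite.of_isLocalizedModule Sm (Rₚ := K) ιV
  let b := Module.finBasis K V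
  let r := Module.finrank K V
  let c : D →ₗ[P] (Fin r → K) := (b.equivFun.toLinearMap.restrictScalars P).comp ιV
  have hιV : Function.Injective ιV := by
    rw [← LinearMap.ker_eq_bot, LinearMap.ker_eq_bot']
    intro x hx
    obtain ⟨s, hs⟩ := (IsLocalizedModule.eq_zero_iff Sm ιV).mp hx
    exact htf s.1 x (nonZeroDivisors.ne_zero s.2) hs
  have hc : Function.Injective c := by
    intro x y hxy
    exact hιV (b.equivFun.injective hxy)
  obtain ⟨T, hT⟩ := (Module.Finite.fg_top : (⊤ : Submodule P D).FG)
  let F : Finset K := (T ×ˢ (Finset.univ : Finset (Fin r))).image (fun tl => c tl.1 tl.2)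
  obtain ⟨d, hd⟩ := IsLocalization.exist_integer_multiples_of_finset Sm F
  let Λ : Submodule P (Fin r → K) := LinearMap.range ((Algebra.linearMap P K).compLeft (Fin r))
  let c' : D →ₗ[P] (Fin r → K) := (d : P) • c
  have hc'Λ : ∀ x, c' x ∈ Λ := by
    intro x
    have hx : x ∈ Submodule.span P (T : Set D) := by rw [hT]; trivial
    induction hx using Submodule.span_induction with
    | mem t ht =>
      have : ∀ l : Fin r, ∃ y : P, algebraMap P K y = (d : P) • c t l := by
        intro l
        exact hd (c t l) (Finset.mem_image.mpr ⟨(t, l), Finset.mem_product.mpr ⟨ht, Finset.mem_univ l⟩, rfl⟩)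
      choose y hy using this
      exact ⟨y, funext fun l => by simpa [c'] using hy l⟩
    | zero => rw [map_zero]; exact Λ.zero_mem
    | add x y _ _ hx hy => rw [map_add]; exact Λ.add_mem hx hy
    | smul a x _ hx => rw [map_smul]; exact Λ.smul_mem a hx
  have hinj : Function.Injective ((Algebra.linearMap P K).compLeft (Fin r)) := by
    intro x y hxy
    funext l
    exact IsFractionRing.injective P K (congrFun hxy l)
  let e : (Fin r → P) ≃ₗ[P] Λ := LinearEquiv.ofInjective _ hinj
  refine ⟨r, e.symm.toLinearMap.comp (c'.codRestrict Λ hc'Λ), ?_⟩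
  intro x y hxy
  have h1 : c'.codRestrict Λ hc'Λ x = c'.codRestrict Λ hc'Λ y := e.symm.injective hxy
  have h2 : c' x = c' y := congrArg Subtype.val h1
  have h3 : (d : P) • c (x - y) = 0 := by
    have : c' (x - y) = 0 := by rw [map_sub, h2, sub_self]
    simpa [c'] using this
  have h4 : c (x - y) = 0 := by
    have hd0 : algebraMap P K (d : P) ≠ 0 := by
      intro h
      exact nonZeroDivisors.ne_zero d.2 (IsFractionRing.injective P K (by rw [h, map_zero]))
    have : algebraMap P K (d : P) • c (x - y) = 0 := by rw [algebraMap_smul]; exact h3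
    exact (smul_eq_zero.mp this).resolve_left hd0
  have h5 : x - y = 0 := hc (by rw [h4, map_zero])
  exact sub_eq_zero.mp h5

section Chain

variable {k : Type u} [Field k] {A : Type u} [CommRing A] [Algebra k A] {ι : Type w}
  {C : ι → Type u} [∀ i, CommRing (C i)] [∀ i, Algebra k (C i)] (φ : ∀ i, A →ₐ[k] C i)

/-- integrality is preserved -/
theorem theta_isIntegralElem (B D : Type u) [CommRing B] [Algebra k B] [CommRing D] [Algebra k D]
    [Algebra B D] [IsScalarTower k B D] [Algebra.IsIntegral B D] (g : D ⊗[k] A) :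
    (theta A B D).toRingHom.IsIntegralElem g := by
  induction g using TensorProduct.induction_on with
  | zero => exact RingHom.isIntegralElem_zero _
  | tmul d a =>
    have h1 : (theta A B D).toRingHom.IsIntegralElem ((1 : D) ⊗ₜ[k] a) := by
      have : (1 : D) ⊗ₜ[k] a = (theta A B D).toRingHom ((1 : B) ⊗ₜ[k] a) := by
        simp
      rw [this]
      exact RingHom.isIntegralElem_map _
    have h2 : (theta A B D).toRingHom.IsIntegralElem (d ⊗ₜ[k] (1 : A)) := by
      obtain ⟨p, hp, hpd⟩ := Algebra.IsIntegral.isIntegral (R := B) d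
      let incB : B →+* B ⊗[k] A := (Algebra.TensorProduct.includeLeft : B →ₐ[k] B ⊗[k] A).toRingHom
      let incD : D →+* D ⊗[k] A := (Algebra.TensorProduct.includeLeft : D →ₐ[k] D ⊗[k] A).toRingHom
      refine ⟨p.map incB, hp.map _, ?_⟩
      rw [Polynomial.eval₂_map]
      have hcomp : (theta A B D).toRingHom.comp incB = incD.comp (algebraMap B D) := by
        ext b
        simp [incB, incD]
      rw [hcomp]
      have : d ⊗ₜ[k] (1 : A) = incD d := rfl
      rw [this, ← Polynomial.hom_eval₂, hpd, map_zero]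
    have : d ⊗ₜ[k] a = (d ⊗ₜ[k] (1 : A)) * ((1 : D) ⊗ₜ[k] a) := by
      rw [Algebra.TensorProduct.tmul_mul_tmul, mul_one, one_mul]
    rw [this]
    exact RingHom.IsIntegralElem.mul _ h2 h1
  | add x y hx hy => exact RingHom.IsIntegralElem.add _ hx hy

/-- polynomial rings -/
theorem ringSD_mvPolynomial (hA : SDring (fun i => (φ i).toRingHom)) (n : ℕ) :
    RingSD φ (MvPolynomial (Fin n) k) := by
  refine SDring.of_ringEquiv _
    (fun i => (MvPolynomial.map (φ i).toRingHom :
      MvPolynomial (Fin n) A →+* MvPolynomial (Fin n) (C i)))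
    ((Algebra.TensorProduct.comm k (MvPolynomial (Fin n) k) A).toRingEquiv.trans
      (MvPolynomial.algebraTensorAlgEquiv k A).toRingEquiv)
    (fun i => ((Algebra.TensorProduct.comm k (MvPolynomial (Fin n) k) (C i)).toRingEquiv.trans
      (MvPolynomial.algebraTensorAlgEquiv k (C i)).toRingEquiv).toRingHom) ?_
    (SDring.mvPolynomial _ hA n)
  intro i x
  induction x using TensorProduct.induction_on with
  | zero => simp
  | tmul p a =>
    simp only [AlgHom.toRingHom_eq_coe, RingHom.coe_coe, rho_tmul, RingEquiv.toRingHom_eq_coe,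
      RingEquiv.coe_trans, AlgEquiv.coe_ringEquiv, Function.comp_apply,
      Algebra.TensorProduct.comm_tmul, MvPolynomial.algebraTensorAlgEquiv_tmul]
    rw [MvPolynomial.smul_eq_C_mul, MvPolynomial.smul_eq_C_mul, map_mul, MvPolynomial.map_C,
      MvPolynomial.map_map, AlgHom.comp_algebraMap]
    rfl
  | add x y hx hy => simp only [map_add, hx, hy]

/-- finitely generated domains -/
theorem ringSD_of_domain (hA : SDring (fun i => (φ i).toRingHom)) (D : Type u) [CommRing D]
    [IsDomain D] [Algebra k D] [Algebra.FiniteType k D] : RingSD φ D := by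
  obtain ⟨n, j, hinj, hfin⟩ := exists_finite_inj_algHom_of_fg k D
  letI : Algebra (MvPolynomial (Fin n) k) D := j.toRingHom.toAlgebra
  haveI : IsScalarTower k (MvPolynomial (Fin n) k) D :=
    IsScalarTower.of_algebraMap_eq (fun x => (j.commutes x).symm)
  haveI : Module.Finite (MvPolynomial (Fin n) k) D := hfin
  haveI : Algebra.IsIntegral (MvPolynomial (Fin n) k) D := Algebra.IsIntegral.of_finite _ _
  have h1 : SDmod (rho φ (MvPolynomial (Fin n) k)) (MvPolynomial (Fin n) k) :=
    (SDmod_iff_SDalong φ _ _).mpr (SDalong_of_ringSD φ _ _ (ringSD_mvPolynomial φ hA n))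
  have htf : ∀ (c : MvPolynomial (Fin n) k) (x : D), c ≠ 0 → c • x = 0 → x = 0 := by
    intro c x hc hx
    rw [Algebra.smul_def] at hx
    rcases mul_eq_zero.mp hx with h | h
    · exact absurd (hinj (by rw [map_zero]; exact h)) hc
    · exact h
  obtain ⟨r, f, hf⟩ := exists_injective_to_free (P := MvPolynomial (Fin n) k) (D := D) htf
  have h3 : SDmod (rho φ (MvPolynomial (Fin n) k)) D :=
    SDmod.of_injective _ f hf (SDmod.pi _ _ h1)
  have h4 := (SDmod_iff_SDalong φ (MvPolynomial (Fin n) k) D).mp h3
  exact (SDring_iff _).mpr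
    (SD.of_SDalong_of_integral _ _ _ h4 (theta_isIntegralElem (MvPolynomial (Fin n) k) D))

/-- finitely generated algebras -/
theorem ringSD_of_finiteType (hA : SDring (fun i => (φ i).toRingHom)) (B : Type u) [CommRing B]
    [Algebra k B] [Algebra.FiniteType k B] : RingSD φ B := by
  haveI : IsNoetherianRing B := Algebra.FiniteType.isNoetherianRing k B
  have hp : ∀ p : PrimeSpectrum B, SDmod (rho φ B) (B ⧸ p.asIdeal) := by
    intro p
    haveI : Algebra.FiniteType k (B ⧸ p.asIdeal) :=
      Algebra.FiniteType.of_surjective (Ideal.Quotient.mkₐ k p.asIdeal)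
        (Ideal.Quotient.mkₐ_surjective k p.asIdeal)
    exact (SDmod_iff_SDalong φ B (B ⧸ p.asIdeal)).mpr
      (SDalong_of_ringSD φ _ _ (ringSD_of_domain φ hA (B ⧸ p.asIdeal)))
  have h := SDmod.of_primes (rho φ B) hp B
  exact ringSD_of_SDalong_self φ B ((SDmod_iff_SDalong φ B B).mp h)

/-- the map induced by a subalgebra -/
noncomputable abbrev incl (B : Type u) [CommRing B] [Algebra k B] (B₀ : Subalgebra k B)
    (A' : Type u) [CommRing A'] [Algebra k A'] : B₀ ⊗[k] A' →ₐ[k] B ⊗[k] A' :=
  Algebra.TensorProduct.map B₀.val (AlgHom.id k A')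

theorem incl_injective (B : Type u) [CommRing B] [Algebra k B] (B₀ : Subalgebra k B)
    (A' : Type u) [CommRing A'] [Algebra k A'] : Function.Injective (incl B B₀ A') := by
  have : Function.Injective (LinearMap.rTensor A' B₀.val.toLinearMap) :=
    Module.Flat.rTensor_preserves_injective_linearMap _ Subtype.val_injective
  exact this

theorem incl_mono (B : Type u) [CommRing B] [Algebra k B] {B₀ B₁ : Subalgebra k B} (h : B₀ ≤ B₁)
    (A' : Type u) [CommRing A'] [Algebra k A'] : (incl B B₀ A').range ≤ (incl B B₁ A').range := by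
  rintro _ ⟨z, rfl⟩
  refine ⟨Algebra.TensorProduct.map (Subalgebra.inclusion h) (AlgHom.id k A') z, ?_⟩
  induction z using TensorProduct.induction_on with
  | zero => simp
  | tmul b a => rfl
  | add x y hx hy => simp only [map_add, hx, hy]

theorem exists_fg_incl (B : Type u) [CommRing B] [Algebra k B] (A' : Type u) [CommRing A']
    [Algebra k A'] (x : B ⊗[k] A') :
    ∃ B₀ : Subalgebra k B, B₀.FG ∧ x ∈ (incl B B₀ A').range := by
  induction x using TensorProduct.induction_on with
  | zero => exact ⟨⊥, Subalgebra.fg_bot, Subalgebra.zero_mem _⟩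
  | tmul b a =>
    refine ⟨Algebra.adjoin k {b}, ?_, ?_⟩
    · have := Subalgebra.fg_adjoin_finset (R := k) ({b} : Finset B)
      simpa using this
    · exact ⟨(⟨b, Algebra.subset_adjoin (Set.mem_singleton b)⟩ : Algebra.adjoin k {b}) ⊗ₜ[k] a, rfl⟩
  | add x y hx hy =>
    obtain ⟨B₁, h₁, hx⟩ := hx
    obtain ⟨B₂, h₂, hy⟩ := hy
    exact ⟨B₁ ⊔ B₂, h₁.sup h₂, Subalgebra.add_mem _ (incl_mono B le_sup_left A' hx)
      (incl_mono B le_sup_right A' hy)⟩

/-- all algebras, `B` on the left -/
theorem ringSD (hA : SDring (fun i => (φ i).toRingHom)) (B : Type u) [CommRing B]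
    [Algebra k B] : RingSD φ B := by
  intro g s hs
  obtain ⟨B₀, hfg, hg, hs'⟩ : ∃ B₀ : Subalgebra k B, B₀.FG ∧ g ∈ (incl B B₀ A).range ∧
      s ∈ (incl B B₀ A).range := by
    obtain ⟨B₁, h₁, hg⟩ := exists_fg_incl B A g
    obtain ⟨B₂, h₂, hs'⟩ := exists_fg_incl B A s
    exact ⟨B₁ ⊔ B₂, h₁.sup h₂, incl_mono B (le_sup_left : B₁ ≤ B₁ ⊔ B₂) A hg,
      incl_mono B (le_sup_right : B₂ ≤ B₁ ⊔ B₂) A hs'⟩
  obtain ⟨g₀, rfl⟩ := hg
  obtain ⟨s₀, rfl⟩ := hs'
  haveI : Algebra.FiniteType k B₀ := (Subalgebra.fg_iff_finiteType B₀).mp hfg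
  have hcomm : ∀ (i : ι) (z : B₀ ⊗[k] A), rho φ B i (incl B B₀ A z)
      = incl B B₀ (C i) (rho φ B₀ i z) := by
    intro i z
    induction z using TensorProduct.induction_on with
    | zero => simp
    | tmul b a => rfl
    | add x y hx hy => simp only [map_add, hx, hy]
  obtain ⟨m, hm⟩ := ringSD_of_finiteType φ hA B₀ g₀ s₀ (fun i => by
    obtain ⟨m, hm⟩ := hs i
    refine ⟨m, incl_injective B B₀ (C i) ?_⟩
    rw [map_zero]
    simp only [AlgHom.toRingHom_eq_coe, RingHom.coe_coe] at hm ⊢
    rw [← hcomm, map_mul, map_pow]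
    exact hm)
  refine ⟨m, ?_⟩
  have := congrArg (incl B B₀ A) hm
  rw [map_mul, map_pow, map_zero] at this
  exact this

/-- the final form, with `B` on the right -/
theorem core (hA : SDring (fun i => (φ i).toRingHom)) (B : Type u) [CommRing B] [Algebra k B] :
    SDring (fun i => (Algebra.TensorProduct.map (φ i) (AlgHom.id k B)).toRingHom) := by
  refine SDring.of_ringEquiv _ (fun i => (rho φ B i).toRingHom)
    (Algebra.TensorProduct.comm k A B).toRingEquiv
    (fun i => (Algebra.TensorProduct.comm k (C i) B).toRingEquiv.toRingHom) ?_ (ringSD φ hA B)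
  intro i x
  induction x using TensorProduct.induction_on with
  | zero => simp
  | tmul a b => rfl
  | add x y hx hy => simp only [map_add, hx, hy]

end Chain

end Groth.Agent.Helper2.SchDom
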