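import Mathlib
import Groth.Agent.Lib.Helper2.SchDom.Alg3

set_option autoImplicit false
set_option backward.isDefEq.respectTransparency.types false
set_option synthInstance.maxHeartbeats 400000
set_option maxHeartbeats 4000000
set_option linter.style.haveILetI false
set_option linter.unusedSectionVars false
set_option linter.unusedVariables false

/-!
# Schematically dominant families and base change over a field: the geometric part
-/

open CategoryTheory AlgebraicGeometry TensorProduct Opposite TopologicalSpace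

namespace Groth.Agent.Helper2.SchDom

universe u

/-- a section vanishing locally (tested along open immersions) vanishes -/
theorem eq_zero_of_locally {Z : Scheme.{u}} (O : Z.Opens) (σ : Γ(Z, O))
    (h : ∀ z ∈ O, ∃ (Y : Scheme.{u}) (γ : Y ⟶ Z) (_ : IsOpenImmersion γ) (W : Y.Opens)
      (e : W ≤ γ ⁻¹ᵁ O), z ∈ γ ''ᵁ W ∧ γ.appLE O W e σ = 0) : σ = 0 := by
  refine TopCat.Presheaf.section_ext Z.sheaf O σ 0 (fun z hz => ?_)
  obtain ⟨Y, γ, hγ, W, e, hzW, hσ⟩ := h z hz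
  obtain ⟨y, hyW, rfl⟩ := hzW
  have hinj : Function.Injective (γ.stalkMap y) :=
    ((ConcreteCategory.isIso_iff_bijective (γ.stalkMap y)).mp inferInstance).1
  have h1 : Y.presheaf.germ W y hyW (γ.appLE O W e σ)
      = Y.presheaf.germ (γ ⁻¹ᵁ O) y (e hyW) (γ.app O σ) :=
    TopCat.Presheaf.germ_res_apply Y.presheaf (homOfLE e) y hyW (γ.app O σ)
  rw [hσ, map_zero] at h1
  have h2 : γ.stalkMap y (Z.presheaf.germ O (γ y) hz σ) = 0 := by
    rw [Scheme.Hom.germ_stalkMap_apply]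
    exact h1.symm
  have h3 : Z.presheaf.germ O (γ y) hz σ = 0 := hinj (by rw [h2, map_zero])
  rw [map_zero]
  exact h3

theorem appLE_algebraMap {R S : CommRingCat.{u}} (θ : R ⟶ S) (U : (Spec R).Opens)
    (W : (Spec S).Opens) (e : W ≤ Spec.map θ ⁻¹ᵁ U) (r : R) :
    (Spec.map θ).appLE U W e (algebraMap R Γ(Spec R, U) r) = algebraMap S Γ(Spec S, W) (θ r) := by
  rw [IsAffineOpen.algebraMap_Spec_obj, IsAffineOpen.algebraMap_Spec_obj]
  have h1 := congr($(Scheme.Hom.map_appLE (Spec.map θ) e (homOfLE (le_top : U ≤ ⊤)).op)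
    ((Scheme.ΓSpecIso R).inv r))
  have h3 := congr($(Scheme.ΓSpecIso_inv_naturality θ) r)
  simp only [CommRingCat.comp_apply] at h1 h3 ⊢
  rw [h1, h3]
  simp [Scheme.Hom.appLE]

/-- the affine criterion -/
theorem affine_crit {R : CommRingCat.{u}} {J : Type*} {Rj : J → CommRingCat.{u}}
    (θ : ∀ j, R ⟶ Rj j) (H : SDring (fun j => (θ j).hom))
    (V : (Spec R).Opens) (t : Γ(Spec R, V))
    (ht : ∀ j, (Spec.map (θ j)).app V t = 0) : t = 0 := by
  refine TopCat.Presheaf.section_ext (Spec R).sheaf V t 0 (fun x hx => ?_)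
  obtain ⟨_, ⟨g, rfl⟩, hxg, hle⟩ :=
    Opens.isBasis_iff_nbhd.mp (PrimeSpectrum.isBasis_basic_opens (R := R)) hx
  have hle' : (PrimeSpectrum.basicOpen g : (Spec R).Opens) ≤ V := hle
  let τ : Γ(Spec R, PrimeSpectrum.basicOpen g) := (Spec R).presheaf.map (homOfLE hle').op t
  suffices h0 : τ = 0 by
    have h6 : (Spec R).presheaf.germ (PrimeSpectrum.basicOpen g) x hxg τ
        = (Spec R).presheaf.germ V x hx t :=
      TopCat.Presheaf.germ_res_apply (Spec R).presheaf (homOfLE hle') x hxg t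
    rw [map_zero]
    refine h6.symm.trans ?_
    rw [h0, map_zero]
    rfl
  obtain ⟨⟨s, ⟨_, n, rfl⟩⟩, hs⟩ := IsLocalization.surj (Submonoid.powers g) τ
  dsimp only at hs
  have hunit : IsUnit (algebraMap R Γ(Spec R, PrimeSpectrum.basicOpen g) (g ^ n)) :=
    IsLocalization.map_units _ (⟨g ^ n, n, rfl⟩ : Submonoid.powers g)
  -- the key: some power of g kills s
  obtain ⟨m, hm⟩ := H g s (fun j => by
    have e : (PrimeSpectrum.basicOpen ((θ j).hom g) : (Spec (Rj j)).Opens)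
        ≤ (Spec.map (θ j)) ⁻¹ᵁ (PrimeSpectrum.basicOpen g) := fun y hy => hy
    have h1 : (Spec.map (θ j)).appLE V (PrimeSpectrum.basicOpen ((θ j).hom g))
        (e.trans ((Spec.map (θ j)).preimage_mono hle')) t = 0 := by
      rw [Scheme.Hom.appLE, CommRingCat.comp_apply, ht j, map_zero]
    have h2 : (Spec.map (θ j)).appLE (PrimeSpectrum.basicOpen g)
        (PrimeSpectrum.basicOpen ((θ j).hom g)) e τ = 0 := by
      have := congr($(Scheme.Hom.map_appLE (Spec.map (θ j)) e (homOfLE hle').op) t)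
      rw [CommRingCat.comp_apply] at this
      exact this.trans h1
    have h4 := congrArg ((Spec.map (θ j)).appLE (PrimeSpectrum.basicOpen g)
        (PrimeSpectrum.basicOpen ((θ j).hom g)) e) hs
    rw [map_mul, h2, zero_mul, appLE_algebraMap] at h4
    obtain ⟨⟨_, m, rfl⟩, hm⟩ := (IsLocalization.map_eq_zero_iff
      (Submonoid.powers ((θ j).hom g)) Γ(Spec (Rj j), PrimeSpectrum.basicOpen ((θ j).hom g)) _).mp
      h4.symm
    exact ⟨m, by rw [map_mul, map_pow]; exact hm⟩)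
  have h5 : algebraMap R Γ(Spec R, PrimeSpectrum.basicOpen g) s = 0 :=
    (IsLocalization.map_eq_zero_iff (Submonoid.powers g) _ s).mpr ⟨⟨g ^ m, m, rfl⟩, hm⟩
  rw [h5] at hs
  exact (hunit.mul_left_eq_zero).mp hs

/-- compatibility of sections along a commutative square -/
theorem sq_appLE {Y Z X Y' : Scheme.{u}} (γ : Y ⟶ Z) (f : Z ⟶ X) (g : Y ⟶ Y') (j : Y' ⟶ X)
    (comm : γ ≫ f = g ≫ j) (V₀ : X.Opens) (σ : Γ(X, V₀)) (D : Y'.Opens) (hD : D ≤ j ⁻¹ᵁ V₀)
    (W : Y.Opens) (hW : W ≤ g ⁻¹ᵁ D) (hW' : W ≤ γ ⁻¹ᵁ (f ⁻¹ᵁ V₀)) :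
    γ.appLE (f ⁻¹ᵁ V₀) W hW' (f.app V₀ σ) = g.appLE D W hW (j.appLE V₀ D hD σ) := by
  have h1 : γ.appLE (f ⁻¹ᵁ V₀) W hW' (f.app V₀ σ) = (γ ≫ f).appLE V₀ W hW' σ := by
    rw [Scheme.Hom.app_eq_appLE, ← CommRingCat.comp_apply, Scheme.Hom.appLE_comp_appLE]
  have h2 : g.appLE D W hW (j.appLE V₀ D hD σ)
      = (g ≫ j).appLE V₀ W (hW.trans (g.preimage_mono hD)) σ := by
    rw [← CommRingCat.comp_apply, Scheme.Hom.appLE_comp_appLE]
  rw [h1, h2]
  have : ∀ (m m' : Y ⟶ X) (e : m = m') (h : W ≤ m ⁻¹ᵁ V₀) (h' : W ≤ m' ⁻¹ᵁ V₀),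
      m.appLE V₀ W h σ = m'.appLE V₀ W h' σ := by
    rintro m _ rfl h h'; rfl
  exact this _ _ comm _ _

/-- affine charts over `k` -/
theorem exists_chart {k : Type u} [Field k] {X : Scheme.{u}} (p : X ⟶ Spec (CommRingCat.of k))
    (x : X) :
    ∃ (A : CommRingCat.{u}) (ψ : CommRingCat.of k ⟶ A) (j : Spec A ⟶ X),
      IsOpenImmersion j ∧ x ∈ Set.range j ∧ j ≫ p = Spec.map ψ := by
  obtain ⟨U, hU, hxU, -⟩ := Opens.isBasis_iff_nbhd.mp X.isBasis_affineOpens
    (show x ∈ (⊤ : X.Opens) from trivial)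
  refine ⟨Γ(X, U), Spec.preimage (IsAffineOpen.fromSpec hU ≫ p), IsAffineOpen.fromSpec hU,
    inferInstance, ?_, (Spec.map_preimage _).symm⟩
  rw [IsAffineOpen.range_fromSpec]
  exact hxU

/-- affine charts of `Zi` mapping into a given affine chart of `X` -/
structure ZChart {X Zi : Scheme.{u}} (fi : Zi ⟶ X) (A : CommRingCat.{u}) (jA : Spec A ⟶ X) where
  /-- the ring -/
  C : CommRingCat.{u}
  /-- the chart -/
  γ : Spec C ⟶ Zi
  /-- it is an open immersion -/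
  [hγ : IsOpenImmersion γ]
  /-- the ring map -/
  φ : A ⟶ C
  /-- compatibility -/
  comm : γ ≫ fi = Spec.map φ ≫ jA

attribute [instance] ZChart.hγ

theorem exists_zchart {X Zi : Scheme.{u}} (fi : Zi ⟶ X) (A : CommRingCat.{u})
    (jA : Spec A ⟶ X) [IsOpenImmersion jA] (z : Zi) (hz : fi z ∈ Set.range jA) :
    ∃ c : ZChart fi A jA, z ∈ Set.range c.γ := by
  obtain ⟨U, hU, hzU, hUle⟩ := Opens.isBasis_iff_nbhd.mp Zi.isBasis_affineOpens
    (show z ∈ fi ⁻¹ᵁ jA.opensRange from hz)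
  have hrange : Set.range (IsAffineOpen.fromSpec hU ≫ fi) ⊆ Set.range jA := by
    rintro _ ⟨y, rfl⟩
    have hy : IsAffineOpen.fromSpec hU y ∈ U := by
      have : IsAffineOpen.fromSpec hU y ∈ Set.range (IsAffineOpen.fromSpec hU) := ⟨y, rfl⟩
      rwa [IsAffineOpen.range_fromSpec] at this
    exact hUle hy
  let l : Spec Γ(Zi, U) ⟶ Spec A :=
    IsOpenImmersion.lift jA (IsAffineOpen.fromSpec hU ≫ fi) hrange
  have hl : l ≫ jA = IsAffineOpen.fromSpec hU ≫ fi := IsOpenImmersion.lift_fac _ _ _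
  refine ⟨{ C := Γ(Zi, U), γ := IsAffineOpen.fromSpec hU, φ := Spec.preimage l, comm := ?_ }, ?_⟩
  · rw [Spec.map_preimage, hl]
  · rw [IsAffineOpen.range_fromSpec]
    exact hzU

/-- the given family induces a separating family of rings on every affine chart -/
theorem SDring_of_schDominant {X : Scheme.{u}} {ι : Type u}
    (Z : ι → Scheme.{u}) (f : ∀ i, Z i ⟶ X)
    (h : ∀ (V : X.Opens) (t : Γ(X, V)), (∀ i, (f i).app V t = 0) → t = 0)
    (A : CommRingCat.{u}) (jA : Spec A ⟶ X) [IsOpenImmersion jA] :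
    SDring (fun j : (Σ i, ZChart (f i) A jA) => (j.2.φ).hom) := by
  intro a t₀ hyp
  let D : (Spec A).Opens := PrimeSpectrum.basicOpen a
  let V₀ : X.Opens := jA ''ᵁ D
  let τ₀ : Γ(Spec A, D) := algebraMap A Γ(Spec A, D) t₀
  let τ : Γ(X, V₀) := (jA.appIso D).inv τ₀
  have hD' : D ≤ jA ⁻¹ᵁ V₀ := by
    show D ≤ jA ⁻¹ᵁ (jA ''ᵁ D)
    rw [Scheme.Hom.preimage_image_eq]
  have hτ' : jA.appLE V₀ D hD' τ = τ₀ := by
    show (jA.appLE (jA ''ᵁ D) D hD') ((jA.appIso D).inv τ₀) = τ₀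
    rw [← CommRingCat.comp_apply, Scheme.Hom.appIso_inv_appLE]
    simp
  have hτ0 : τ = 0 := by
    refine h V₀ τ (fun i => ?_)
    refine eq_zero_of_locally ((f i) ⁻¹ᵁ V₀) _ (fun z hz => ?_)
    have hz' : f i z ∈ Set.range jA := by
      obtain ⟨w, -, hw⟩ := hz
      exact ⟨w, hw⟩
    obtain ⟨c, y, rfl⟩ := exists_zchart (f i) A jA z hz'
    have hcomm : ∀ y' : Spec c.C, f i (c.γ y') = jA (Spec.map c.φ y') := by
      intro y'
      have := congr($(c.comm) y')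
      exact this
    let W : (Spec c.C).Opens := PrimeSpectrum.basicOpen (c.φ.hom a)
    have hW : W ≤ (Spec.map c.φ) ⁻¹ᵁ D := fun y' hy' => hy'
    have hW' : W ≤ c.γ ⁻¹ᵁ ((f i) ⁻¹ᵁ V₀) := by
      intro y' hy'
      show f i (c.γ y') ∈ V₀
      rw [hcomm]
      exact ⟨_, hW hy', rfl⟩
    refine ⟨_, c.γ, inferInstance, W, hW', ?_, ?_⟩
    · refine ⟨y, ?_, rfl⟩
      obtain ⟨w, hwD, hw⟩ := hz
      have hw' : jA w = jA (Spec.map c.φ y) := hw.trans (hcomm y)
      have := jA.isOpenEmbedding.injective hw'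
      have h' : (Spec.map c.φ) y ∈ D := this ▸ hwD
      exact h'
    · rw [sq_appLE c.γ (f i) (Spec.map c.φ) jA c.comm V₀ τ D hD' W hW hW', hτ']
      show (Spec.map c.φ).appLE D W hW (algebraMap A Γ(Spec A, D) t₀) = 0
      rw [appLE_algebraMap]
      obtain ⟨m, hm⟩ := hyp ⟨i, c⟩
      refine (IsLocalization.map_eq_zero_iff (Submonoid.powers (c.φ.hom a))
        Γ(Spec c.C, PrimeSpectrum.basicOpen (c.φ.hom a)) _).mpr
        ⟨⟨(c.φ.hom a) ^ m, m, rfl⟩, ?_⟩
      rw [map_mul, map_pow] at hm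
      exact hm
  have hτ00 : τ₀ = 0 := by
    rw [← hτ', hτ0, map_zero]
  obtain ⟨⟨_, m, rfl⟩, hm⟩ := (IsLocalization.map_eq_zero_iff (Submonoid.powers a)
    Γ(Spec A, PrimeSpectrum.basicOpen a) t₀).mp hτ00
  exact ⟨m, hm⟩

end Groth.Agent.Helper2.SchDom
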