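import Mathlib
import Groth.Agent.Lib.Helper2.SchDom.Glue

set_option autoImplicit false
set_option backward.isDefEq.respectTransparency.types false
set_option synthInstance.maxHeartbeats 400000
set_option maxHeartbeats 4000000
set_option linter.style.haveILetI false
set_option linter.unusedSectionVars false
set_option linter.unusedVariables false

/-!
# Schematically dominant families are stable under base change over a field
-/

open CategoryTheory AlgebraicGeometry TensorProduct Opposite TopologicalSpace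

namespace Groth.Agent.Helper2.SchDom

universe u

theorem main4877 {k : Type u} [Field k] {X S' : Scheme.{u}}
    (p : X ⟶ Spec (CommRingCat.of k)) (q : S' ⟶ Spec (CommRingCat.of k))
    {ι : Type u} (Z : ι → Scheme.{u}) (f : ∀ i, Z i ⟶ X)
    (h : ∀ (V : X.Opens) (t : Γ(X, V)), (∀ i, (f i).app V t = 0) → t = 0) :
    ∀ (V : (Limits.pullback p q).Opens) (t : Γ(Limits.pullback p q, V)),
      (∀ i, (Limits.pullback.map (f i ≫ p) q p q (f i) (𝟙 S') (𝟙 _) (Category.comp_id _)
        ((Category.comp_id _).trans (Category.id_comp _).symm)).app V t = 0) → t = 0 := by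
  intro V t ht
  refine eq_zero_of_locally V t (fun x hxV => ?_)
  obtain ⟨A, ψA, jA, hjA, hxA, hpA⟩ := exists_chart p (Limits.pullback.fst p q x)
  obtain ⟨B, ψB, jB, hjB, hxB, hqB⟩ := exists_chart q (Limits.pullback.snd p q x)
  letI : Algebra k A := ψA.hom.toAlgebra
  letI : Algebra k B := ψB.hom.toAlgebra
  have hpA' : jA ≫ p = Spec.map (CommRingCat.ofHom (algebraMap k A)) := hpA
  have hqB' : jB ≫ q = Spec.map (CommRingCat.ofHom (algebraMap k B)) := hqB
  let α : Limits.pullback (Spec.map (CommRingCat.ofHom (algebraMap k A)))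
      (Spec.map (CommRingCat.ofHom (algebraMap k B))) ⟶ Limits.pullback p q :=
    Limits.pullback.map _ _ p q jA jB (𝟙 _) (by rw [Category.comp_id, hpA'])
      (by rw [Category.comp_id, hqB'])
  let β : Spec (CommRingCat.of (A ⊗[k] B)) ⟶ Limits.pullback p q :=
    (pullbackSpecIso k A B).inv ≫ α
  have hβfst : β ≫ Limits.pullback.fst p q
      = Spec.map (CommRingCat.ofHom Algebra.TensorProduct.includeLeftRingHom) ≫ jA := by
    simp only [β, α, Category.assoc, Limits.pullback.lift_fst, pullbackSpecIso_inv_fst_assoc]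
  have hβsnd : β ≫ Limits.pullback.snd p q
      = Spec.map (CommRingCat.ofHom (RingHomClass.toRingHom
          (Algebra.TensorProduct.includeRight : B →ₐ[k] A ⊗[k] B))) ≫ jB := by
    simp only [β, α, Category.assoc, Limits.pullback.lift_snd, pullbackSpecIso_inv_snd_assoc]
  have hxβ : x ∈ Set.range β := by
    have hα : x ∈ Set.range α := by
      rw [Scheme.Pullback.range_map]
      exact ⟨hxA, hxB⟩
    obtain ⟨w, rfl⟩ := hα
    have hcomp : (pullbackSpecIso k A B).hom ≫ β = α := by
      simp only [β, Iso.hom_inv_id_assoc]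
    exact ⟨(pullbackSpecIso k A B).hom w, by rw [← hcomp]; rfl⟩
  obtain ⟨y, rfl⟩ := hxβ
  refine ⟨_, β, inferInstance, β ⁻¹ᵁ V, le_rfl, ⟨y, hxV, rfl⟩, ?_⟩
  rw [Scheme.Hom.appLE_eq_app]
  -- the family of charts
  letI algC : ∀ j : (Σ i, ZChart (f i) A jA), Algebra k (j.2.C) :=
    fun j => (ψA ≫ j.2.φ).hom.toAlgebra
  let φ' : ∀ j : (Σ i, ZChart (f i) A jA), A →ₐ[k] j.2.C :=
    fun j => { j.2.φ.hom with commutes' := fun r => rfl }
  have hA : SDring (fun j : (Σ i, ZChart (f i) A jA) => (φ' j).toRingHom) :=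
    SDring_of_schDominant Z f h A jA
  have H := core φ' hA B
  refine affine_crit (R := CommRingCat.of (A ⊗[k] B))
    (Rj := fun j : (Σ i, ZChart (f i) A jA) => CommRingCat.of (j.2.C ⊗[k] B))
    (fun j => CommRingCat.ofHom (Algebra.TensorProduct.map (φ' j) (AlgHom.id k B)).toRingHom)
    H (β ⁻¹ᵁ V) (β.app V t) ?_
  rintro ⟨i, c⟩
  letI : Algebra k c.C := algC ⟨i, c⟩
  set θc : CommRingCat.of (A ⊗[k] B) ⟶ CommRingCat.of (c.C ⊗[k] B) :=
    CommRingCat.ofHom (Algebra.TensorProduct.map (φ' ⟨i, c⟩) (AlgHom.id k B)).toRingHom with hθc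
  have hcond : (Spec.map (CommRingCat.ofHom
        (Algebra.TensorProduct.includeLeftRingHom : c.C →+* c.C ⊗[k] B)) ≫ c.γ) ≫ (f i ≫ p)
      = (Spec.map (CommRingCat.ofHom (RingHomClass.toRingHom
          (Algebra.TensorProduct.includeRight : B →ₐ[k] c.C ⊗[k] B))) ≫ jB) ≫ q := by
    rw [Category.assoc, Category.assoc, hqB, ← Category.assoc c.γ, c.comm, Category.assoc, hpA,
      ← Spec.map_comp, ← Spec.map_comp, ← Spec.map_comp]
    congr 1
    ext r
    show (Algebra.TensorProduct.includeLeft : c.C →ₐ[k] c.C ⊗[k] B) (algebraMap k c.C r)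
      = (Algebra.TensorProduct.includeRight : B →ₐ[k] c.C ⊗[k] B) (algebraMap k B r)
    rw [AlgHom.commutes, AlgHom.commutes]
  let δ : Spec (CommRingCat.of (c.C ⊗[k] B)) ⟶ Limits.pullback (f i ≫ p) q :=
    Limits.pullback.lift _ _ hcond
  have key : δ ≫ Limits.pullback.map (f i ≫ p) q p q (f i) (𝟙 S') (𝟙 _) (Category.comp_id _)
      ((Category.comp_id _).trans (Category.id_comp _).symm) = Spec.map θc ≫ β := by
    apply Limits.pullback.hom_ext
    · rw [Category.assoc, Limits.pullback.lift_fst, ← Category.assoc, Limits.pullback.lift_fst,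
        Category.assoc, c.comm, Category.assoc, hβfst, ← Category.assoc, ← Category.assoc,
        ← Spec.map_comp, ← Spec.map_comp]
      congr 2
    · rw [Category.assoc, Limits.pullback.lift_snd, ← Category.assoc, Limits.pullback.lift_snd,
        Category.comp_id, Category.assoc, hβsnd, ← Category.assoc, ← Spec.map_comp]
      congr 2
      ext b
      show (1 : c.C) ⊗ₜ[k] b = (Algebra.TensorProduct.map (φ' ⟨i, c⟩) (AlgHom.id k B))
        ((1 : A) ⊗ₜ[k] b)
      rw [Algebra.TensorProduct.map_tmul, map_one]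
      rfl
  have e1 : (δ ≫ Limits.pullback.map (f i ≫ p) q p q (f i) (𝟙 S') (𝟙 _) (Category.comp_id _)
      ((Category.comp_id _).trans (Category.id_comp _).symm)).app V t = 0 := by
    rw [Scheme.Hom.comp_app]
    show (δ.app _).hom ((Limits.pullback.map (f i ≫ p) q p q (f i) (𝟙 S') (𝟙 _) (Category.comp_id _)
      ((Category.comp_id _).trans (Category.id_comp _).symm)).app V t) = 0
    rw [ht i, map_zero]
  have e2 : (Spec.map θc ≫ β).app V t = 0 := by
    have : ∀ (m m' : Spec (CommRingCat.of (c.C ⊗[k] B)) ⟶ Limits.pullback p q) (e : m = m'),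
        m.app V t = 0 → m'.app V t = 0 := by
      rintro m _ rfl hm; exact hm
    exact this _ _ key e1
  rw [Scheme.Hom.comp_app] at e2
  exact e2

end Groth.Agent.Helper2.SchDom
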