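import Mathlib
import Groth.Agent.Lib.Helper2.SchDom.Glue
import Groth.Agent.Lib.Helper2.SchDom.Flat3

set_option autoImplicit false
set_option backward.isDefEq.respectTransparency.types false
set_option synthInstance.maxHeartbeats 400000
set_option maxHeartbeats 4000000
set_option linter.style.haveILetI false
set_option linter.unusedSectionVars false
set_option linter.unusedVariables false

/-!
# Schematically dominant families are stable under flat base change locally of finite presentation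
-/

open CategoryTheory AlgebraicGeometry TensorProduct Opposite TopologicalSpace

namespace Groth.Agent.Helper2.SchDom

universe u

theorem exists_flat_chart {X X' : Scheme.{u}} (g : X' ⟶ X) [Flat g]
    [LocallyOfFinitePresentation g] (x' : X') :
    ∃ (A A' : CommRingCat.{u}) (jA : Spec A ⟶ X) (jA' : Spec A' ⟶ X') (ψ : A ⟶ A'),
      IsOpenImmersion jA ∧ IsOpenImmersion jA' ∧ x' ∈ Set.range jA' ∧
      jA' ≫ g = Spec.map ψ ≫ jA ∧ ψ.hom.Flat ∧ ψ.hom.FinitePresentation := by
  obtain ⟨U, hU, hxU, -⟩ := Opens.isBasis_iff_nbhd.mp X.isBasis_affineOpens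
    (show g x' ∈ (⊤ : X.Opens) from trivial)
  obtain ⟨U', hU', hxU', hle⟩ := Opens.isBasis_iff_nbhd.mp X'.isBasis_affineOpens
    (show x' ∈ g ⁻¹ᵁ U from hxU)
  refine ⟨Γ(X, U), Γ(X', U'), IsAffineOpen.fromSpec hU, IsAffineOpen.fromSpec hU',
    g.appLE U U' hle, inferInstance, inferInstance, ?_,
    (IsAffineOpen.SpecMap_appLE_fromSpec g hU hU' hle).symm,
    Flat.flat_appLE g hU hU' hle,
    LocallyOfFinitePresentation.finitePresentation_appLE g hU hU' hle⟩
  rw [IsAffineOpen.range_fromSpec]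
  exact hxU'

theorem main4875 {X X' : Scheme.{u}} {ι : Type u} (Z : ι → Scheme.{u})
    (f : ∀ i, Z i ⟶ X) (g : X' ⟶ X) [Flat g] [LocallyOfFinitePresentation g]
    (h : ∀ (V : X.Opens) (t : Γ(X, V)), (∀ i, (f i).app V t = 0) → t = 0) :
    ∀ (V : X'.Opens) (t : Γ(X', V)),
      (∀ i, (Limits.pullback.snd (f i) g).app V t = 0) → t = 0 := by
  intro V t ht
  refine eq_zero_of_locally V t (fun x' hx'V => ?_)
  obtain ⟨A, A', jA, jA', ψ, hjA, hjA', hx', hcomm, hflat, hfp⟩ := exists_flat_chart g x'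
  obtain ⟨y, rfl⟩ := hx'
  refine ⟨_, jA', inferInstance, jA' ⁻¹ᵁ V, le_rfl, ⟨y, hx'V, rfl⟩, ?_⟩
  rw [Scheme.Hom.appLE_eq_app]
  letI : Algebra A A' := ψ.hom.toAlgebra
  letI algC : ∀ j : (Σ i, ZChart (f i) A jA), Algebra A (j.2.C) :=
    fun j => j.2.φ.hom.toAlgebra
  haveI : Module.Flat A A' := hflat
  haveI : Algebra.FinitePresentation A A' := hfp
  have hA : SDring (fun j : (Σ i, ZChart (f i) A jA) => algebraMap A (j.2.C)) :=
    SDring_of_schDominant Z f h A jA
  have H := SDring_includeRight_of_flat_fp (A := A) (A' := A')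
    (fun j : (Σ i, ZChart (f i) A jA) => (j.2.C : Type u)) hA
  refine affine_crit (R := A')
    (Rj := fun j : (Σ i, ZChart (f i) A jA) => CommRingCat.of (j.2.C ⊗[A] A'))
    (fun j => CommRingCat.ofHom
      (Algebra.TensorProduct.includeRight : A' →ₐ[A] j.2.C ⊗[A] A').toRingHom)
    H (jA' ⁻¹ᵁ V) (jA'.app V t) ?_
  rintro ⟨i, c⟩
  letI : Algebra A c.C := algC ⟨i, c⟩
  set θc : A' ⟶ CommRingCat.of (c.C ⊗[A] A') := CommRingCat.ofHom
    (Algebra.TensorProduct.includeRight : A' →ₐ[A] c.C ⊗[A] A').toRingHom with hθc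
  have hcond : (Spec.map (CommRingCat.ofHom
        (Algebra.TensorProduct.includeLeftRingHom : c.C →+* c.C ⊗[A] A')) ≫ c.γ) ≫ f i
      = (Spec.map θc ≫ jA') ≫ g := by
    rw [Category.assoc, Category.assoc, hcomm, c.comm, ← Category.assoc, ← Category.assoc,
      ← Spec.map_comp, ← Spec.map_comp]
    congr 2
    ext a
    show (Algebra.TensorProduct.includeLeft : c.C →ₐ[A] c.C ⊗[A] A') (algebraMap A c.C a)
      = (Algebra.TensorProduct.includeRight : A' →ₐ[A] c.C ⊗[A] A') (algebraMap A A' a)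
    rw [AlgHom.commutes, AlgHom.commutes]
  let δ : Spec (CommRingCat.of (c.C ⊗[A] A')) ⟶ Limits.pullback (f i) g :=
    Limits.pullback.lift _ _ hcond
  have key : δ ≫ Limits.pullback.snd (f i) g = Spec.map θc ≫ jA' :=
    Limits.pullback.lift_snd _ _ _
  have e1 : (δ ≫ Limits.pullback.snd (f i) g).app V t = 0 := by
    rw [Scheme.Hom.comp_app]
    show (δ.app _).hom ((Limits.pullback.snd (f i) g).app V t) = 0
    rw [ht i, map_zero]
  have e2 : (Spec.map θc ≫ jA').app V t = 0 := by
    have : ∀ (m m' : Spec (CommRingCat.of (c.C ⊗[A] A')) ⟶ X') (e : m = m'),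
        m.app V t = 0 → m'.app V t = 0 := by
      rintro m _ rfl hm; exact hm
    exact this _ _ key e1
  rw [Scheme.Hom.comp_app] at e2
  exact e2

end Groth.Agent.Helper2.SchDom
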