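import Mathlib
import Groth.Prelude.Def_CInt
import Groth.Agent.Lib.Helper2.SchDom.FlatMain

set_option autoImplicit false
set_option backward.isDefEq.respectTransparency.types false
set_option synthInstance.maxHeartbeats 400000
set_option maxHeartbeats 4000000
set_option linter.style.haveILetI false
set_option linter.unusedSectionVars false
set_option linter.unusedVariables false

/-!
# Preimages of schematically dense opens under flat morphisms locally of finite presentation
-/

open CategoryTheory CategoryTheory.Limits AlgebraicGeometry TopologicalSpace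

namespace Groth.Agent.Helper2.SchDom

universe u

theorem main3843 {X X' : Scheme.{u}} (f : X' ⟶ X) [Flat f]
    [LocallyOfFinitePresentation f] (V : X.Opens) (hV : CInt.IsSchematicallyDense V) :
    CInt.IsSchematicallyDense (f ⁻¹ᵁ V) := by
  have h : ∀ (W : X.Opens) (t : Γ(X, W)),
      (∀ i : PUnit.{u+1}, (V.ι).app W t = 0) → t = 0 := by
    intro W t ht
    have h1 := ht PUnit.unit
    rw [Scheme.Opens.ι_app] at h1
    apply hV W
    rw [map_zero]
    have hle : W ⊓ V ≤ V.ι ''ᵁ V.ι ⁻¹ᵁ W := by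
      rintro x ⟨hxW, hxV⟩
      exact ⟨⟨x, hxV⟩, hxW, rfl⟩
    have h2 : X.presheaf.map (homOfLE (inf_le_left : W ⊓ V ≤ W)).op
        = X.presheaf.map (homOfLE (x := V.ι ''ᵁ V.ι ⁻¹ᵁ W)
            (Set.image_preimage_subset _ _)).op ≫ X.presheaf.map (homOfLE hle).op := by
      rw [← Functor.map_comp, ← op_comp]
      rfl
    rw [h2, CommRingCat.comp_apply]
    exact (congrArg (X.presheaf.map (homOfLE hle).op).hom h1).trans (map_zero _)
  have H := main4875 (fun _ : PUnit.{u+1} => V.toScheme) (fun _ => V.ι) f h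
  intro W'
  refine (injective_iff_map_eq_zero (X'.presheaf.map
    (homOfLE (inf_le_left : W' ⊓ f ⁻¹ᵁ V ≤ W')).op).hom).mpr (fun t ht0 => ?_)
  apply H W' t
  intro _
  have e' : (pullback.snd V.ι f) ⁻¹ᵁ W' ≤ (pullback.snd V.ι f) ⁻¹ᵁ (W' ⊓ f ⁻¹ᵁ V) := by
    intro y hy
    refine ⟨hy, ?_⟩
    show f (pullback.snd V.ι f y) ∈ V
    have hc : V.ι (pullback.fst V.ι f y) = f (pullback.snd V.ι f y) :=
      congr($(pullback.condition (f := V.ι) (g := f)) y)
    rw [← hc]
    exact (pullback.fst V.ι f y).2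
  have h3 := congr($(Scheme.Hom.map_appLE (pullback.snd V.ι f) e'
    (homOfLE (inf_le_left : W' ⊓ f ⁻¹ᵁ V ≤ W')).op) t)
  rw [CommRingCat.comp_apply] at h3
  rw [Scheme.Hom.app_eq_appLE, ← h3]
  have ht0' : (X'.presheaf.map (homOfLE (inf_le_left : W' ⊓ f ⁻¹ᵁ V ≤ W')).op) t = 0 := ht0
  rw [ht0', map_zero]

end Groth.Agent.Helper2.SchDom
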