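import Mathlib
import Groth.Agent.Lib.Helper2.SchDom.Glue

set_option autoImplicit false
set_option backward.isDefEq.respectTransparency.types false
set_option synthInstance.maxHeartbeats 400000
set_option maxHeartbeats 4000000
set_option linter.style.haveILetI false
set_option linter.unusedSectionVars false
set_option linter.unusedVariables false

/-!
# Charts for base changes of families of morphisms
-/

open CategoryTheory AlgebraicGeometry TensorProduct Opposite TopologicalSpace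

namespace Groth.Agent.Helper2.SchDom

universe u w

/-- a schematically dominant family induces a separating family of rings on every affine chart,
for any covering subfamily of charts -/
theorem SDring_of_schDominant_sub {X : Scheme.{u}} {ι : Type u}
    (Z : ι → Scheme.{u}) (f : ∀ i, Z i ⟶ X)
    (h : ∀ (V : X.Opens) (t : Γ(X, V)), (∀ i, (f i).app V t = 0) → t = 0)
    (A : CommRingCat.{u}) (jA : Spec A ⟶ X) [IsOpenImmersion jA]
    (K : ι → Type w) (chart : ∀ i, K i → ZChart (f i) A jA)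
    (hcov : ∀ (i : ι) (z : Z i), f i z ∈ Set.range jA → ∃ k : K i, z ∈ Set.range (chart i k).γ) :
    SDring (fun j : (Σ i, K i) => ((chart j.1 j.2).φ).hom) := by
  intro a t₀ hyp
  let D : (Spec A).Opens := PrimeSpectrum.basicOpen a
  let V₀ : X.Opens := jA ''ᵁ D
  let τ₀ : Γ(Spec A, D) := algebraMap A Γ(Spec A, D) t₀
  let τ : Γ(X, V₀) := (jA.appIso D).inv τ₀
  have hD' : D ≤ jA ⁻¹ᵁ V₀ := by
    show D ≤ jA ⁻¹ᵁ (jA ''ᵁ D)
    rw [Scheme.Hom.preimage_image_eq]
  have hτ' : jA.appLE V₀ D hD' τ = τ₀ := by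
    show (jA.appLE (jA ''ᵁ D) D hD') ((jA.appIso D).inv τ₀) = τ₀
    rw [← CommRingCat.comp_apply, Scheme.Hom.appIso_inv_appLE]
    simp
  have hτ0 : τ = 0 := by
    refine h V₀ τ (fun i => ?_)
    refine eq_zero_of_locally ((f i) ⁻¹ᵁ V₀) _ (fun z hz => ?_)
    have hz' : f i z ∈ Set.range jA := by
      obtain ⟨w, -, hw⟩ := hz
      exact ⟨w, hw⟩
    obtain ⟨k, hk⟩ := hcov i z hz'
    obtain ⟨c, hc⟩ : ∃ c, c = chart i k := ⟨_, rfl⟩
    rw [← hc] at hk
    obtain ⟨y, rfl⟩ := hk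
    have hcomm : ∀ y' : Spec c.C, f i (c.γ y') = jA (Spec.map c.φ y') := by
      intro y'
      have := congr($(c.comm) y')
      exact this
    let W : (Spec c.C).Opens := PrimeSpectrum.basicOpen (c.φ.hom a)
    have hW : W ≤ (Spec.map c.φ) ⁻¹ᵁ D := fun y' hy' => hy'
    have hW' : W ≤ c.γ ⁻¹ᵁ ((f i) ⁻¹ᵁ V₀) := by
      intro y' hy'
      show f i (c.γ y') ∈ V₀
      rw [hcomm]
      exact ⟨_, hW hy', rfl⟩
    refine ⟨_, c.γ, inferInstance, W, hW', ?_, ?_⟩
    · refine ⟨y, ?_, rfl⟩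
      obtain ⟨w, hwD, hw⟩ := hz
      have hw' : jA w = jA (Spec.map c.φ y) := hw.trans (hcomm y)
      have := jA.isOpenEmbedding.injective hw'
      have h' : (Spec.map c.φ) y ∈ D := this ▸ hwD
      exact h'
    · rw [sq_appLE c.γ (f i) (Spec.map c.φ) jA c.comm V₀ τ D hD' W hW hW', hτ']
      show (Spec.map c.φ).appLE D W hW (algebraMap A Γ(Spec A, D) t₀) = 0
      rw [appLE_algebraMap]
      obtain ⟨m, hm⟩ := hyp ⟨i, k⟩
      change ((chart i k).φ).hom (a ^ m * t₀) = 0 at hm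
      rw [← hc] at hm
      refine (IsLocalization.map_eq_zero_iff (Submonoid.powers (c.φ.hom a))
        Γ(Spec c.C, PrimeSpectrum.basicOpen (c.φ.hom a)) _).mpr
        ⟨⟨(c.φ.hom a) ^ m, m, rfl⟩, ?_⟩
      rw [map_mul, map_pow] at hm
      exact hm
  have hτ00 : τ₀ = 0 := by
    rw [← hτ', hτ0, map_zero]
  obtain ⟨⟨_, m, rfl⟩, hm⟩ := (IsLocalization.map_eq_zero_iff (Submonoid.powers a)
    Γ(Spec A, PrimeSpectrum.basicOpen a) t₀).mp hτ00
  exact ⟨m, hm⟩

end Groth.Agent.Helper2.SchDom
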