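import Mathlib
import Groth.Agent.Lib.Helper2.SchDom.FibGlue1

set_option autoImplicit false
set_option backward.isDefEq.respectTransparency.types false
set_option synthInstance.maxHeartbeats 400000
set_option maxHeartbeats 4000000
set_option linter.style.haveILetI false
set_option linter.unusedSectionVars false
set_option linter.unusedVariables false

/-!
# Affine charts of fibre products
-/

open CategoryTheory AlgebraicGeometry TensorProduct Opposite TopologicalSpace Limits

namespace Groth.Agent.Helper2.SchDom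

universe u w

section Beta

variable {X S S' : Scheme.{u}} (p : X ⟶ S) (g : S' ⟶ S)
  {R A R' : Type u} [CommRing R] [CommRing A] [CommRing R'] [Algebra R A] [Algebra R R']
  (jR : Spec (CommRingCat.of R) ⟶ S) [IsOpenImmersion jR]
  (jA : Spec (CommRingCat.of A) ⟶ X) [IsOpenImmersion jA]
  (jR' : Spec (CommRingCat.of R') ⟶ S') [IsOpenImmersion jR']
  (hA : jA ≫ p = Spec.map (CommRingCat.ofHom (algebraMap R A)) ≫ jR)
  (hR' : jR' ≫ g = Spec.map (CommRingCat.ofHom (algebraMap R R')) ≫ jR)

/-- the chart `Spec (A ⊗[R] R') ⟶ X ×_S S'` -/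
noncomputable def beta : Spec (CommRingCat.of (A ⊗[R] R')) ⟶ pullback p g :=
  (pullbackSpecIso R A R').inv ≫
    pullback.map (Spec.map (CommRingCat.ofHom (algebraMap R A)))
      (Spec.map (CommRingCat.ofHom (algebraMap R R'))) p g jA jR' jR hA.symm hR'.symm

instance : IsOpenImmersion (beta p g jR jA jR' hA hR') := by
  unfold beta
  infer_instance

theorem beta_fst : beta p g jR jA jR' hA hR' ≫ pullback.fst p g
    = Spec.map (CommRingCat.ofHom (Algebra.TensorProduct.includeLeftRingHom : A →+* A ⊗[R] R'))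
      ≫ jA := by
  simp only [beta, Category.assoc, pullback.lift_fst, pullbackSpecIso_inv_fst_assoc]

theorem beta_snd : beta p g jR jA jR' hA hR' ≫ pullback.snd p g
    = Spec.map (CommRingCat.ofHom (RingHomClass.toRingHom
        (Algebra.TensorProduct.includeRight : R' →ₐ[R] A ⊗[R] R'))) ≫ jR' := by
  simp only [beta, Category.assoc, pullback.lift_snd, pullbackSpecIso_inv_snd_assoc]

theorem mem_range_beta (x : ↥(pullback p g)) :
    x ∈ Set.range (beta p g jR jA jR' hA hR') ↔
      pullback.fst p g x ∈ Set.range jA ∧ pullback.snd p g x ∈ Set.range jR' := by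
  constructor
  · rintro ⟨y, rfl⟩
    constructor
    · refine ⟨Spec.map (CommRingCat.ofHom
        (Algebra.TensorProduct.includeLeftRingHom : A →+* A ⊗[R] R')) y, ?_⟩
      have := congr($(beta_fst p g jR jA jR' hA hR') y)
      exact this.symm
    · refine ⟨Spec.map (CommRingCat.ofHom (RingHomClass.toRingHom
        (Algebra.TensorProduct.includeRight : R' →ₐ[R] A ⊗[R] R'))) y, ?_⟩
      have := congr($(beta_snd p g jR jA jR' hA hR') y)
      exact this.symm
  · rintro ⟨h1, h2⟩
    have hα : x ∈ Set.range (pullback.map (Spec.map (CommRingCat.ofHom (algebraMap R A)))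
      (Spec.map (CommRingCat.ofHom (algebraMap R R'))) p g jA jR' jR hA.symm hR'.symm) := by
      rw [Scheme.Pullback.range_map]
      exact ⟨h1, h2⟩
    obtain ⟨w, rfl⟩ := hα
    have hcomp : (pullbackSpecIso R A R').hom ≫ beta p g jR jA jR' hA hR'
        = pullback.map (Spec.map (CommRingCat.ofHom (algebraMap R A)))
          (Spec.map (CommRingCat.ofHom (algebraMap R R'))) p g jA jR' jR hA.symm hR'.symm := by
      simp only [beta, Iso.hom_inv_id_assoc]
    exact ⟨(pullbackSpecIso R A R').hom w, by rw [← hcomp]; rfl⟩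

end Beta

section Family

variable {X S S' : Scheme.{u}} (p : X ⟶ S) (g : S' ⟶ S) {ι : Type u} (Z : ι → Scheme.{u})
  (f : ∀ i, Z i ⟶ X)

/-- the base-changed family -/
noncomputable abbrev bcMap (i : ι) : pullback (f i ≫ p) g ⟶ pullback p g :=
  pullback.map (f i ≫ p) g p g (f i) (𝟙 S') (𝟙 S) (Category.comp_id _)
    ((Category.comp_id _).trans (Category.id_comp _).symm)

variable {R A R' : Type u} [CommRing R] [CommRing A] [CommRing R'] [Algebra R A] [Algebra R R']
  (jR : Spec (CommRingCat.of R) ⟶ S) [IsOpenImmersion jR]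
  (jA : Spec (CommRingCat.of A) ⟶ X) [IsOpenImmersion jA]
  (jR' : Spec (CommRingCat.of R') ⟶ S') [IsOpenImmersion jR']
  (hA : jA ≫ p = Spec.map (CommRingCat.ofHom (algebraMap R A)) ≫ jR)
  (hR' : jR' ≫ g = Spec.map (CommRingCat.ofHom (algebraMap R R')) ≫ jR)

section One

variable {i : ι} (C : Type u) [CommRing C] [Algebra R C] [Algebra A C] [IsScalarTower R A C]
  (γ : Spec (CommRingCat.of C) ⟶ Z i) [IsOpenImmersion γ]
  (hγ : γ ≫ f i = Spec.map (CommRingCat.ofHom (algebraMap A C)) ≫ jA)

include hA hγ in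
theorem chart_comp : γ ≫ (f i ≫ p) = Spec.map (CommRingCat.ofHom (algebraMap R C)) ≫ jR := by
  rw [← Category.assoc, hγ, Category.assoc, hA, ← Category.assoc, ← Spec.map_comp]
  congr 2
  ext r
  exact (IsScalarTower.algebraMap_apply R A C r).symm

/-- the chart of `Z i ×_S S'` -/
noncomputable def delta : Spec (CommRingCat.of (C ⊗[R] R')) ⟶ pullback (f i ≫ p) g :=
  beta (f i ≫ p) g jR γ jR' (chart_comp p Z f jR jA hA C γ hγ) hR'

instance : IsOpenImmersion (delta p g Z f jR jA jR' hA hR' C γ hγ) := by
  unfold delta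
  infer_instance

theorem delta_bcMap : delta p g Z f jR jA jR' hA hR' C γ hγ ≫ bcMap p g Z f i
    = Spec.map (CommRingCat.ofHom (Algebra.TensorProduct.map (IsScalarTower.toAlgHom R A C)
        (AlgHom.id R R')).toRingHom) ≫ beta p g jR jA jR' hA hR' := by
  apply pullback.hom_ext
  · rw [Category.assoc, pullback.lift_fst, ← Category.assoc, delta, beta_fst, Category.assoc, hγ,
      Category.assoc, beta_fst, ← Category.assoc, ← Category.assoc, ← Spec.map_comp,
      ← Spec.map_comp]
    congr 2
  · rw [Category.assoc, pullback.lift_snd, Category.comp_id, delta, beta_snd, Category.assoc,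
      beta_snd, ← Category.assoc, ← Spec.map_comp]
    congr 2
    ext b
    show (1 : C) ⊗ₜ[R] b = (Algebra.TensorProduct.map (IsScalarTower.toAlgHom R A C)
      (AlgHom.id R R')) ((1 : A) ⊗ₜ[R] b)
    rw [Algebra.TensorProduct.map_tmul, map_one]
    rfl

end One

section Many

variable {K : ι → Type w} (C : ∀ i, K i → Type u) [∀ i k, CommRing (C i k)]
  [∀ i k, Algebra R (C i k)] [∀ i k, Algebra A (C i k)] [∀ i k, IsScalarTower R A (C i k)]
  (γ : ∀ i k, Spec (CommRingCat.of (C i k)) ⟶ Z i) [∀ i k, IsOpenImmersion (γ i k)]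
  (hγ : ∀ i k, γ i k ≫ f i = Spec.map (CommRingCat.ofHom (algebraMap A (C i k))) ≫ jA)

include γ hγ in
/-- from the ring-level separating property to vanishing of sections on the chart -/
theorem app_eq_zero_of_SDring
    (H : SDring (fun j : (Σ i, K i) => (Algebra.TensorProduct.map
      (IsScalarTower.toAlgHom R A (C j.1 j.2)) (AlgHom.id R R')).toRingHom))
    (V : (pullback p g).Opens) (t : Γ(pullback p g, V))
    (ht : ∀ i, (bcMap p g Z f i).app V t = 0) :
    (beta p g jR jA jR' hA hR').app V t = 0 := by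
  refine affine_crit (R := CommRingCat.of (A ⊗[R] R'))
    (Rj := fun j : (Σ i, K i) => CommRingCat.of (C j.1 j.2 ⊗[R] R'))
    (fun j => CommRingCat.ofHom (Algebra.TensorProduct.map
      (IsScalarTower.toAlgHom R A (C j.1 j.2)) (AlgHom.id R R')).toRingHom) H _ _ ?_
  rintro ⟨i, k⟩
  have key := delta_bcMap p g Z f jR jA jR' hA hR' (C i k) (γ i k) (hγ i k)
  have e1 : (delta p g Z f jR jA jR' hA hR' (C i k) (γ i k) (hγ i k) ≫ bcMap p g Z f i).app V t
      = 0 := by
    rw [Scheme.Hom.comp_app]
    show ((delta p g Z f jR jA jR' hA hR' (C i k) (γ i k) (hγ i k)).app _).hom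
      ((bcMap p g Z f i).app V t) = 0
    rw [ht i, map_zero]
  have e2 : (Spec.map (CommRingCat.ofHom (Algebra.TensorProduct.map
      (IsScalarTower.toAlgHom R A (C i k)) (AlgHom.id R R')).toRingHom)
      ≫ beta p g jR jA jR' hA hR').app V t = 0 := by
    have : ∀ (m m' : Spec (CommRingCat.of (C i k ⊗[R] R')) ⟶ pullback p g) (e : m = m'),
        m.app V t = 0 → m'.app V t = 0 := by
      rintro m _ rfl hm; exact hm
    exact this _ _ key e1
  rw [Scheme.Hom.comp_app] at e2
  exact e2

include jR jA jR' hA hR' γ hγ in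
/-- from schematic dominance of the base-changed family to the ring-level separating property -/
theorem SDring_of_sd
    (hcov : ∀ (i : ι) (z : Z i), f i z ∈ Set.range jA → ∃ k : K i, z ∈ Set.range (γ i k))
    (hsd : ∀ (V : (pullback p g).Opens) (t : Γ(pullback p g, V)),
      (∀ i, (bcMap p g Z f i).app V t = 0) → t = 0) :
    SDring (fun j : (Σ i, K i) => (Algebra.TensorProduct.map
      (IsScalarTower.toAlgHom R A (C j.1 j.2)) (AlgHom.id R R')).toRingHom) := by
  refine SDring_of_schDominant_sub (fun i => pullback (f i ≫ p) g) (bcMap p g Z f) hsd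
    (CommRingCat.of (A ⊗[R] R')) (beta p g jR jA jR' hA hR') K
    (fun i k => { C := CommRingCat.of (C i k ⊗[R] R')
                  γ := delta p g Z f jR jA jR' hA hR' (C i k) (γ i k) (hγ i k)
                  φ := CommRingCat.ofHom (Algebra.TensorProduct.map
                    (IsScalarTower.toAlgHom R A (C i k)) (AlgHom.id R R')).toRingHom
                  comm := delta_bcMap p g Z f jR jA jR' hA hR' (C i k) (γ i k) (hγ i k) }) ?_
  intro i z hz
  rw [mem_range_beta] at hz
  obtain ⟨h1, h2⟩ := hz
  have e1 : pullback.fst p g (bcMap p g Z f i z) = f i (pullback.fst (f i ≫ p) g z) := by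
    have h : bcMap p g Z f i ≫ pullback.fst p g = pullback.fst (f i ≫ p) g ≫ f i :=
      pullback.lift_fst _ _ _
    show (bcMap p g Z f i ≫ pullback.fst p g) z = (pullback.fst (f i ≫ p) g ≫ f i) z
    rw [h]
  have e2 : pullback.snd p g (bcMap p g Z f i z) = pullback.snd (f i ≫ p) g z := by
    have h : bcMap p g Z f i ≫ pullback.snd p g = pullback.snd (f i ≫ p) g := by
      rw [pullback.lift_snd, Category.comp_id]
    show (bcMap p g Z f i ≫ pullback.snd p g) z = pullback.snd (f i ≫ p) g z
    rw [h]
  rw [e1] at h1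
  rw [e2] at h2
  obtain ⟨k, hk⟩ := hcov i _ h1
  refine ⟨k, ?_⟩
  show z ∈ Set.range (delta p g Z f jR jA jR' hA hR' (C i k) (γ i k) (hγ i k))
  rw [delta, mem_range_beta]
  exact ⟨hk, h2⟩

end Many

end Family

end Groth.Agent.Helper2.SchDom
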