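import Mathlib
import Groth.Prelude.Def_MoreMor
import Groth.Agent.Lib.Helper2.SchDom.Alg3
import Groth.Agent.Lib.Helper2.SchDom.Fib3
import Groth.Agent.Lib.Helper2.SchDom.FibGlue2

set_option autoImplicit false
set_option backward.isDefEq.respectTransparency.types false
set_option synthInstance.maxHeartbeats 400000
set_option maxHeartbeats 4000000
set_option linter.style.haveILetI false
set_option linter.unusedSectionVars false
set_option linter.unusedVariables false

/-!
# Universally schematically dominant families: the fibrewise criterion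
-/

open CategoryTheory AlgebraicGeometry TensorProduct Opposite TopologicalSpace Limits

namespace Groth.Agent.Helper2.SchDom

universe u w

section FIB

variable {X S : Scheme.{u}} (p : X ⟶ S) {ι : Type u} (Z : ι → Scheme.{u}) (f : ∀ i, Z i ⟶ X)
  {R A : Type u} [CommRing R] [CommRing A] [Algebra R A]
  (jR : Spec (CommRingCat.of R) ⟶ S) [IsOpenImmersion jR]
  (jA : Spec (CommRingCat.of A) ⟶ X) [IsOpenImmersion jA]
  (hA : jA ≫ p = Spec.map (CommRingCat.ofHom (algebraMap R A)) ≫ jR)
  {K : ι → Type w} (C : ∀ i, K i → Type u) [∀ i k, CommRing (C i k)]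
  [∀ i k, Algebra R (C i k)] [∀ i k, Algebra A (C i k)] [∀ i k, IsScalarTower R A (C i k)]
  (γ : ∀ i k, Spec (CommRingCat.of (C i k)) ⟶ Z i) [∀ i k, IsOpenImmersion (γ i k)]
  (hγ : ∀ i k, γ i k ≫ f i = Spec.map (CommRingCat.ofHom (algebraMap A (C i k))) ≫ jA)
  (hcov : ∀ (i : ι) (z : Z i), f i z ∈ Set.range jA → ∃ k : K i, z ∈ Set.range (γ i k))

/-- conversion between the two orders of the tensor product -/
theorem ringSD_iff_right (B : Type u) [CommRing B] [Algebra R B] :
    RingSD (fun j : (Σ i, K i) => IsScalarTower.toAlgHom R A (C j.1 j.2)) B ↔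
      SDring (fun j : (Σ i, K i) => (Algebra.TensorProduct.map
        (IsScalarTower.toAlgHom R A (C j.1 j.2)) (AlgHom.id R B)).toRingHom) := by
  constructor
  · intro h
    refine SDring.of_ringEquiv _ (fun j : (Σ i, K i) =>
        (rho (fun j : (Σ i, K i) => IsScalarTower.toAlgHom R A (C j.1 j.2)) B j).toRingHom)
      (Algebra.TensorProduct.comm R A B).toRingEquiv
      (fun j => (Algebra.TensorProduct.comm R (C j.1 j.2) B).toRingEquiv.toRingHom) ?_ h
    intro j x
    induction x using TensorProduct.induction_on with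
    | zero => simp
    | tmul a b => rfl
    | add x y hx hy => simp only [map_add, hx, hy]
  · intro h
    refine SDring.of_ringEquiv (fun j : (Σ i, K i) =>
        (rho (fun j : (Σ i, K i) => IsScalarTower.toAlgHom R A (C j.1 j.2)) B j).toRingHom) _
      (Algebra.TensorProduct.comm R B A).toRingEquiv
      (fun j => (Algebra.TensorProduct.comm R B (C j.1 j.2)).toRingEquiv.toRingHom) ?_ h
    intro j x
    induction x using TensorProduct.induction_on with
    | zero => simp
    | tmul a b => rfl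
    | add x y hx hy => simp only [map_add, hx, hy]

include jR jA hA γ hγ hcov in
/-- the fibrewise hypothesis gives the separating property over every field over `R` -/
theorem ringSD_of_fibres
    (Hfib : ∀ s : S, ∀ (V : (pullback p (S.fromSpecResidueField s)).Opens)
      (t : Γ(pullback p (S.fromSpecResidueField s), V)),
      (∀ i, (bcMap p (S.fromSpecResidueField s) Z f i).app V t = 0) → t = 0)
    (F : Type u) [Field F] [Algebra R F] :
    RingSD (fun j : (Σ i, K i) => IsScalarTower.toAlgHom R A (C j.1 j.2)) F := by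
  let hK : Spec (CommRingCat.of F) ⟶ S := Spec.map (CommRingCat.ofHom (algebraMap R F)) ≫ jR
  let s : S := hK (IsLocalRing.closedPoint F)
  let θ : S.residueField s ⟶ CommRingCat.of F :=
    Scheme.descResidueField (Scheme.stalkClosedPointTo hK)
  have hθ : Spec.map θ ≫ S.fromSpecResidueField s = hK :=
    Scheme.descResidueField_stalkClosedPointTo_fromSpecResidueField F S hK
  have hs : Set.range (S.fromSpecResidueField s) ⊆ Set.range jR := by
    rw [Scheme.range_fromSpecResidueField]
    rintro _ rfl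
    exact ⟨Spec.map (CommRingCat.ofHom (algebraMap R F)) (IsLocalRing.closedPoint F), rfl⟩
  let l : Spec (S.residueField s) ⟶ Spec (CommRingCat.of R) :=
    IsOpenImmersion.lift jR (S.fromSpecResidueField s) hs
  have hl : l ≫ jR = S.fromSpecResidueField s := IsOpenImmersion.lift_fac _ _ _
  let ψκ : CommRingCat.of R ⟶ S.residueField s := Spec.preimage l
  have hψκ : Spec.map ψκ = l := Spec.map_preimage l
  letI : Algebra R (S.residueField s) := ψκ.hom.toAlgebra
  letI : Algebra (S.residueField s) F := θ.hom.toAlgebra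
  haveI : IsScalarTower R (S.residueField s) F := by
    refine IsScalarTower.of_algebraMap_eq' ?_
    have h1 : Spec.map (ψκ ≫ θ) ≫ jR = Spec.map (CommRingCat.ofHom (algebraMap R F)) ≫ jR := by
      rw [Spec.map_comp, Category.assoc, hψκ, hl, hθ]
    have h2 : ψκ ≫ θ = CommRingCat.ofHom (algebraMap R F) :=
      Spec.map_injective ((cancel_mono jR).mp h1)
    exact (congrArg CommRingCat.Hom.hom h2).symm
  have hκ : 𝟙 (Spec (CommRingCat.of (S.residueField s))) ≫ S.fromSpecResidueField s
      = Spec.map (CommRingCat.ofHom (algebraMap R (S.residueField s))) ≫ jR := by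
    rw [Category.id_comp, ← hl, ← hψκ]
    rfl
  -- the separating property over the residue field
  have h1 := SDring_of_sd p (S.fromSpecResidueField s) Z f jR jA
    (𝟙 (Spec (CommRingCat.of (S.residueField s)))) hA hκ C γ hγ hcov (Hfib s)
  have h2 : RingSD (fun j : (Σ i, K i) => IsScalarTower.toAlgHom R A (C j.1 j.2))
      (S.residueField s) := (ringSD_iff_right C (S.residueField s)).mpr h1
  -- extension of the field
  have h3 : RingSD (rho (fun j : (Σ i, K i) => IsScalarTower.toAlgHom R A (C j.1 j.2))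
      (S.residueField s)) F := ringSD _ h2 F
  refine SDring.of_ringEquiv _ _
    (Algebra.TensorProduct.cancelBaseChange R (S.residueField s) F F A).symm.toRingEquiv
    (fun j => (Algebra.TensorProduct.cancelBaseChange R (S.residueField s) F F
      (C j.1 j.2)).symm.toRingEquiv.toRingHom) ?_ h3
  intro j x
  induction x using TensorProduct.induction_on with
  | zero => simp
  | tmul b a =>
    show (Algebra.TensorProduct.cancelBaseChange R (S.residueField s) F F (C j.1 j.2)).symm
        (b ⊗ₜ[R] (IsScalarTower.toAlgHom R A (C j.1 j.2) a))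
      = rho (rho (fun j : (Σ i, K i) => IsScalarTower.toAlgHom R A (C j.1 j.2))
          (S.residueField s)) F j
        ((Algebra.TensorProduct.cancelBaseChange R (S.residueField s) F F A).symm (b ⊗ₜ[R] a))
    rw [Algebra.TensorProduct.cancelBaseChange_symm_tmul,
      Algebra.TensorProduct.cancelBaseChange_symm_tmul]
    rfl
  | add x y hx hy => simp only [map_add, hx, hy]

end FIB

section Main

variable {X S : Scheme.{u}} (p : X ⟶ S) {ι : Type u} (Z : ι → Scheme.{u}) (f : ∀ i, Z i ⟶ X)

theorem fiberMap_eq (i : ι) (s : S) :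
    MoreMor.fiberMap (f i) p s = bcMap p (S.fromSpecResidueField s) Z f i := by
  apply pullback.hom_ext
  · unfold MoreMor.fiberMap
    rw [pullback.lift_fst]
    exact (pullback.lift_fst _ _ _).symm
  · unfold MoreMor.fiberMap
    rw [pullback.lift_snd]
    refine Eq.trans ?_ (pullback.lift_snd _ _ _).symm
    exact (Category.comp_id _).symm

/-- the hard direction -/
theorem sd_of_fibres [IsLocallyNoetherian X] [∀ i, Flat (f i ≫ p)]
    (Hfib : ∀ s : S, ∀ (V : (pullback p (S.fromSpecResidueField s)).Opens)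
      (t : Γ(pullback p (S.fromSpecResidueField s), V)),
      (∀ i, (bcMap p (S.fromSpecResidueField s) Z f i).app V t = 0) → t = 0)
    (S' : Scheme.{u}) (g : S' ⟶ S) (V : (pullback p g).Opens) (t : Γ(pullback p g, V))
    (ht : ∀ i, (bcMap p g Z f i).app V t = 0) : t = 0 := by
  refine eq_zero_of_locally V t (fun x hxV => ?_)
  -- affine charts
  have hcond : p (pullback.fst p g x) = g (pullback.snd p g x) := by
    show (pullback.fst p g ≫ p) x = (pullback.snd p g ≫ g) x
    rw [pullback.condition]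
  obtain ⟨UR, hUR, hxUR, -⟩ := Opens.isBasis_iff_nbhd.mp S.isBasis_affineOpens
    (show p (pullback.fst p g x) ∈ (⊤ : S.Opens) from trivial)
  obtain ⟨UA, hUA, hxUA, hleA⟩ := Opens.isBasis_iff_nbhd.mp X.isBasis_affineOpens
    (show pullback.fst p g x ∈ p ⁻¹ᵁ UR from hxUR)
  obtain ⟨UR', hUR', hxUR', hleR'⟩ := Opens.isBasis_iff_nbhd.mp S'.isBasis_affineOpens
    (show pullback.snd p g x ∈ g ⁻¹ᵁ UR from by
      show g (pullback.snd p g x) ∈ UR
      rw [← hcond]; exact hxUR)
  letI : Algebra Γ(S, UR) Γ(X, UA) := (p.appLE UR UA hleA).hom.toAlgebra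
  letI : Algebra Γ(S, UR) Γ(S', UR') := (g.appLE UR UR' hleR').hom.toAlgebra
  haveI : IsNoetherianRing Γ(X, UA) := IsLocallyNoetherian.component_noetherian ⟨UA, hUA⟩
  have hA : IsAffineOpen.fromSpec hUA ≫ p
      = Spec.map (CommRingCat.ofHom (algebraMap Γ(S, UR) Γ(X, UA))) ≫ IsAffineOpen.fromSpec hUR :=
    (IsAffineOpen.SpecMap_appLE_fromSpec p hUR hUA hleA).symm
  have hR' : IsAffineOpen.fromSpec hUR' ≫ g
      = Spec.map (CommRingCat.ofHom (algebraMap Γ(S, UR) Γ(S', UR'))) ≫ IsAffineOpen.fromSpec hUR :=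
    (IsAffineOpen.SpecMap_appLE_fromSpec g hUR hUR' hleR').symm
  -- the family of charts of the `Z i`
  let K : ι → Type u := fun i => {W : (Z i).Opens // IsAffineOpen W ∧ W ≤ (f i) ⁻¹ᵁ UA}
  have hle2 : ∀ i (k : K i), k.1 ≤ (f i ≫ p) ⁻¹ᵁ UR := fun i k z hz => hleA (k.2.2 hz)
  letI algA : ∀ i (k : K i), Algebra Γ(X, UA) Γ(Z i, k.1) :=
    fun i k => ((f i).appLE UA k.1 k.2.2).hom.toAlgebra
  letI algR : ∀ i (k : K i), Algebra Γ(S, UR) Γ(Z i, k.1) :=
    fun i k => ((f i ≫ p).appLE UR k.1 (hle2 i k)).hom.toAlgebra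
  haveI : ∀ i (k : K i), IsScalarTower Γ(S, UR) Γ(X, UA) Γ(Z i, k.1) := fun i k => by
    refine IsScalarTower.of_algebraMap_eq' ?_
    have := Scheme.Hom.appLE_comp_appLE (f i) p UR UA k.1 hleA k.2.2
    exact (congrArg CommRingCat.Hom.hom this).symm
  haveI : ∀ i (k : K i), Module.Flat Γ(S, UR) Γ(Z i, k.1) := fun i k =>
    Flat.flat_appLE (f i ≫ p) hUR k.2.1 (hle2 i k)
  have hγ : ∀ i (k : K i), IsAffineOpen.fromSpec k.2.1 ≫ f i
      = Spec.map (CommRingCat.ofHom (algebraMap Γ(X, UA) Γ(Z i, k.1))) ≫ IsAffineOpen.fromSpec hUA :=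
    fun i k => (IsAffineOpen.SpecMap_appLE_fromSpec (f i) hUA k.2.1 k.2.2).symm
  have hcov : ∀ (i : ι) (z : Z i), f i z ∈ Set.range (IsAffineOpen.fromSpec hUA) →
      ∃ k : K i, z ∈ Set.range (IsAffineOpen.fromSpec k.2.1) := by
    intro i z hz
    rw [IsAffineOpen.range_fromSpec] at hz
    obtain ⟨W, hW, hzW, hWle⟩ := Opens.isBasis_iff_nbhd.mp (Z i).isBasis_affineOpens
      (show z ∈ (f i) ⁻¹ᵁ UA from hz)
    refine ⟨⟨W, hW, hWle⟩, ?_⟩
    rw [IsAffineOpen.range_fromSpec]
    exact hzW
  -- the algebra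
  have FIB : ∀ (F : Type u) [Field F] [Algebra Γ(S, UR) F],
      RingSD (fun j : (Σ i, K i) => IsScalarTower.toAlgHom Γ(S, UR) Γ(X, UA) Γ(Z j.1, j.2.1)) F :=
    fun F _ _ => ringSD_of_fibres p Z f (IsAffineOpen.fromSpec hUR) (IsAffineOpen.fromSpec hUA) hA
      (fun i (k : K i) => Γ(Z i, k.1)) (fun i k => IsAffineOpen.fromSpec k.2.1) hγ hcov Hfib F
  have hALG : RingSD (fun j : (Σ i, K i) =>
      IsScalarTower.toAlgHom Γ(S, UR) Γ(X, UA) Γ(Z j.1, j.2.1)) Γ(S', UR') :=
    ringSD_of_fibrewise _ FIB Γ(S', UR')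
  have H := (ringSD_iff_right (fun i (k : K i) => Γ(Z i, k.1)) Γ(S', UR')).mp hALG
  -- conclusion
  have hx : x ∈ Set.range (beta p g (IsAffineOpen.fromSpec hUR) (IsAffineOpen.fromSpec hUA)
      (IsAffineOpen.fromSpec hUR') hA hR') := by
    rw [mem_range_beta, IsAffineOpen.range_fromSpec, IsAffineOpen.range_fromSpec]
    exact ⟨hxUA, hxUR'⟩
  obtain ⟨y, rfl⟩ := hx
  refine ⟨_, beta p g (IsAffineOpen.fromSpec hUR) (IsAffineOpen.fromSpec hUA)
    (IsAffineOpen.fromSpec hUR') hA hR', inferInstance, _ ⁻¹ᵁ V, le_rfl, ⟨y, hxV, rfl⟩, ?_⟩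
  rw [Scheme.Hom.appLE_eq_app]
  exact app_eq_zero_of_SDring p g Z f (IsAffineOpen.fromSpec hUR) (IsAffineOpen.fromSpec hUA)
    (IsAffineOpen.fromSpec hUR') hA hR' (fun i (k : K i) => Γ(Z i, k.1))
    (fun i k => IsAffineOpen.fromSpec k.2.1) hγ H V t ht

theorem main4876 [IsLocallyNoetherian X] [∀ i, Flat (f i ≫ p)] :
    (∀ (S' : Scheme.{u}) (g : S' ⟶ S),
      (∀ (V : (Limits.pullback p g).Opens) (t : Γ(Limits.pullback p g, V)),
        (∀ i, (Limits.pullback.map (f i ≫ p) g p g (f i) (𝟙 S') (𝟙 S) (Category.comp_id _)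
          ((Category.comp_id _).trans (Category.id_comp _).symm)).app V t = 0) → t = 0)) ↔
    ∀ s : S, (∀ (V : (p.fiber s).Opens) (t : Γ(p.fiber s, V)),
      (∀ i, (MoreMor.fiberMap (f i) p s).app V t = 0) → t = 0) := by
  constructor
  · intro H s V t ht
    refine H _ (S.fromSpecResidueField s) V t (fun i => ?_)
    have := ht i
    rw [fiberMap_eq] at this
    exact this
  · intro H S' g V t ht
    refine sd_of_fibres p Z f (fun s V t ht => H s V t (fun i => ?_)) S' g V t ht
    rw [fiberMap_eq]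
    exact ht i

end Main

end Groth.Agent.Helper2.SchDom
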