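import Mathlib

set_option autoImplicit false
set_option backward.isDefEq.respectTransparency.types false
set_option synthInstance.maxHeartbeats 400000
set_option maxHeartbeats 4000000
set_option linter.style.haveILetI false
set_option linter.unusedSectionVars false
set_option linter.unusedVariables false

/-!
# Separating families of linear maps: definitions and transfer lemmas

`SDat ψ g` : for a family of `A`-linear maps `ψ i : M → N i` and `g : A`, an element of `M` is
killed by a power of `g` as soon as each of its images is.  `SDlin ψ` : this holds for all `g`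
("the family is separating on all basic opens").  `BCSD ψ A'` : the base change of the family to
the `A`-algebra `A'` has this property.
-/

open TensorProduct

namespace Groth.Agent.Helper2.SchDom

universe u v w

section Defs

variable {A : Type*} [CommRing A] {M : Type*} [AddCommGroup M] [Module A M] {ι : Type*}
  {N : ι → Type*} [∀ i, AddCommGroup (N i)] [∀ i, Module A (N i)]

/-- separating property at `g` -/
def SDat (ψ : ∀ i, M →ₗ[A] N i) (g : A) : Prop :=
  ∀ s : M, (∀ i, ∃ m : ℕ, g ^ m • ψ i s = 0) → ∃ m : ℕ, g ^ m • s = 0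

/-- separating property -/
def SDlin (ψ : ∀ i, M →ₗ[A] N i) : Prop := ∀ g : A, SDat ψ g

/-- the base change of the family to `A'` is separating -/
def BCSD (ψ : ∀ i, M →ₗ[A] N i) (A' : Type*) [CommRing A'] [Algebra A A'] : Prop :=
  SDlin (fun i => (ψ i).baseChange A')

/-- transfer along a surjection compatible with the actions of `g` and `g₂` -/
theorem SDat.transfer {A₂ : Type*} [CommRing A₂] {M₂ : Type*} [AddCommGroup M₂] [Module A₂ M₂]
    {N₂ : ι → Type*} [∀ i, AddCommGroup (N₂ i)] [∀ i, Module A₂ (N₂ i)]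
    (ψ : ∀ i, M →ₗ[A] N i) (ψ₂ : ∀ i, M₂ →ₗ[A₂] N₂ i) (g : A) (g₂ : A₂)
    (e : M →+ M₂) (he : Function.Surjective e)
    (hes : ∀ (m : ℕ) (x : M), e (g ^ m • x) = g₂ ^ m • e x)
    (e' : ∀ i, N i →+ N₂ i) (he' : ∀ i, Function.Injective (e' i))
    (he's : ∀ (i : ι) (m : ℕ) (y : N i), e' i (g ^ m • y) = g₂ ^ m • e' i y)
    (hc : ∀ i x, ψ₂ i (e x) = e' i (ψ i x))
    (h : SDat ψ g) : SDat ψ₂ g₂ := by
  intro s₂ hs
  obtain ⟨x, rfl⟩ := he s₂
  obtain ⟨m, hm⟩ := h x (fun i => by
    obtain ⟨m, hm⟩ := hs i
    refine ⟨m, he' i ?_⟩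
    rw [map_zero, he's, ← hc]
    exact hm)
  exact ⟨m, by rw [← hes, hm, map_zero]⟩

theorem SDat_one_iff (ψ : ∀ i, M →ₗ[A] N i) :
    SDat ψ 1 ↔ ∀ s : M, (∀ i, ψ i s = 0) → s = 0 := by
  constructor
  · intro h s hs
    obtain ⟨m, hm⟩ := h s (fun i => ⟨0, by rw [pow_zero, one_smul]; exact hs i⟩)
    rwa [one_pow, one_smul] at hm
  · intro h s hs
    refine ⟨0, ?_⟩
    rw [pow_zero, one_smul]
    refine h s (fun i => ?_)
    obtain ⟨m, hm⟩ := hs i
    rwa [one_pow, one_smul] at hm

end Defs

section Iso

variable {A : Type u} [CommRing A] {M : Type u} [AddCommGroup M] [Module A M] {ι : Type w}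
  {N : ι → Type u} [∀ i, AddCommGroup (N i)] [∀ i, Module A (N i)] (ψ : ∀ i, M →ₗ[A] N i)

/-- invariance under isomorphisms of algebras -/
theorem SDat_baseChange_algEquiv {A' A'' : Type u} [CommRing A'] [Algebra A A'] [CommRing A'']
    [Algebra A A''] (ε : A' ≃ₐ[A] A'') (g : A')
    (h : SDat (fun i => (ψ i).baseChange A') g) :
    SDat (fun i => (ψ i).baseChange A'') (ε g) := by
  have key : ∀ (P : Type u) [AddCommGroup P] [Module A P] (m : ℕ) (x : A' ⊗[A] P),
      (LinearMap.rTensor P ε.toLinearMap) (g ^ m • x)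
        = (ε g) ^ m • (LinearMap.rTensor P ε.toLinearMap) x := by
    intro P _ _ m x
    induction x using TensorProduct.induction_on with
    | zero => simp
    | tmul a p =>
      rw [TensorProduct.smul_tmul', LinearMap.rTensor_tmul, LinearMap.rTensor_tmul,
        TensorProduct.smul_tmul', smul_eq_mul, smul_eq_mul]
      simp only [AlgEquiv.toLinearMap_apply, map_mul, map_pow]
    | add x y hx hy => simp only [smul_add, map_add, hx, hy]
  have hbij : ∀ (P : Type u) [AddCommGroup P] [Module A P],
      Function.Bijective (LinearMap.rTensor P ε.toLinearMap) := by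
    intro P _ _
    have : (LinearMap.rTensor P ε.toLinearMap)
        = (TensorProduct.congr ε.toLinearEquiv (LinearEquiv.refl A P)).toLinearMap := by
      ext a p
      simp
    rw [this]
    exact (TensorProduct.congr ε.toLinearEquiv (LinearEquiv.refl A P)).bijective
  refine SDat.transfer _ _ g (ε g) (LinearMap.rTensor M ε.toLinearMap).toAddMonoidHom
    (hbij M).2 (key M) (fun i => (LinearMap.rTensor (N i) ε.toLinearMap).toAddMonoidHom)
    (fun i => (hbij (N i)).1) (fun i => key (N i)) ?_ h
  intro i x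
  show (ψ i).baseChange A'' (LinearMap.rTensor M ε.toLinearMap x)
    = LinearMap.rTensor (N i) ε.toLinearMap ((ψ i).baseChange A' x)
  induction x using TensorProduct.induction_on with
  | zero => simp
  | tmul a p => simp
  | add x y hx hy => simp only [map_add, hx, hy]

theorem BCSD.of_algEquiv {A' A'' : Type u} [CommRing A'] [Algebra A A'] [CommRing A'']
    [Algebra A A''] (ε : A' ≃ₐ[A] A'') (h : BCSD ψ A') : BCSD ψ A'' := by
  intro g
  have := SDat_baseChange_algEquiv ψ ε (ε.symm g) (h (ε.symm g))
  rwa [AlgEquiv.apply_symm_apply] at this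

/-- transitivity of base change -/
theorem SDat_baseChange_trans {A₁ A' : Type u} [CommRing A₁] [Algebra A A₁] [CommRing A']
    [Algebra A A'] [Algebra A₁ A'] [IsScalarTower A A₁ A'] (g : A') :
    SDat (fun i => ((ψ i).baseChange A₁).baseChange A') g ↔
      SDat (fun i => (ψ i).baseChange A') g := by
  have hnat : ∀ (i : ι) (x : A' ⊗[A₁] (A₁ ⊗[A] M)),
      AlgebraTensorModule.cancelBaseChange A A₁ A' A' (N i) (((ψ i).baseChange A₁).baseChange A' x)
        = (ψ i).baseChange A' (AlgebraTensorModule.cancelBaseChange A A₁ A' A' M x) := by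
    intro i x
    induction x using TensorProduct.induction_on with
    | zero => simp
    | tmul a y =>
      induction y using TensorProduct.induction_on with
      | zero => simp
      | tmul b m => simp
      | add y z hy hz => simp only [tmul_add, map_add, hy, hz]
    | add x y hx hy => simp only [map_add, hx, hy]
  constructor
  · intro h
    refine SDat.transfer _ _ g g
      (AlgebraTensorModule.cancelBaseChange A A₁ A' A' M).toLinearMap.toAddMonoidHom
      (AlgebraTensorModule.cancelBaseChange A A₁ A' A' M).surjective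
      (fun m x => (AlgebraTensorModule.cancelBaseChange A A₁ A' A' M).map_smul _ _)
      (fun i => (AlgebraTensorModule.cancelBaseChange A A₁ A' A' (N i)).toLinearMap.toAddMonoidHom)
      (fun i => (AlgebraTensorModule.cancelBaseChange A A₁ A' A' (N i)).injective)
      (fun i m y => (AlgebraTensorModule.cancelBaseChange A A₁ A' A' (N i)).map_smul _ _)
      (fun i x => (hnat i x).symm) h
  · intro h
    refine SDat.transfer _ _ g g
      (AlgebraTensorModule.cancelBaseChange A A₁ A' A' M).symm.toLinearMap.toAddMonoidHom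
      (AlgebraTensorModule.cancelBaseChange A A₁ A' A' M).symm.surjective
      (fun m x => (AlgebraTensorModule.cancelBaseChange A A₁ A' A' M).symm.map_smul _ _)
      (fun i => (AlgebraTensorModule.cancelBaseChange A A₁ A' A'
        (N i)).symm.toLinearMap.toAddMonoidHom)
      (fun i => (AlgebraTensorModule.cancelBaseChange A A₁ A' A' (N i)).symm.injective)
      (fun i m y => (AlgebraTensorModule.cancelBaseChange A A₁ A' A' (N i)).symm.map_smul _ _) ?_ h
    intro i x
    show ((ψ i).baseChange A₁).baseChange A'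
        ((AlgebraTensorModule.cancelBaseChange A A₁ A' A' M).symm x)
      = (AlgebraTensorModule.cancelBaseChange A A₁ A' A' (N i)).symm ((ψ i).baseChange A' x)
    rw [LinearEquiv.eq_symm_apply, hnat, LinearEquiv.apply_symm_apply]

end Iso

section Right

variable {R : Type u} [CommRing R] {A : Type u} [CommRing A] [Algebra R A]
  {M : Type u} [AddCommGroup M] [Module A M] [Module R M] [IsScalarTower R A M]
  {ι : Type w} {N : ι → Type u} [∀ i, AddCommGroup (N i)] [∀ i, Module A (N i)]
  [∀ i, Module R (N i)] [∀ i, IsScalarTower R A (N i)] (ψ : ∀ i, M →ₗ[A] N i)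

variable (R) in
/-- the family `ψ i ⊗ Q` -/
noncomputable abbrev vQm (Q : Type u) [AddCommGroup Q] [Module R Q] (i : ι) :
    M ⊗[R] Q →ₗ[A] N i ⊗[R] Q := AlgebraTensorModule.map (ψ i) LinearMap.id

variable (R) in
/-- the family `ψ i ⊗ Q` is separating at `g₀` -/
def MSDg (g₀ : A) (Q : Type u) [AddCommGroup Q] [Module R Q] : Prop :=
  SDat (vQm R ψ Q) g₀

variable (R A M) in
/-- `(A ⊗ Q) ⊗_A M = M ⊗ Q` -/
noncomputable def c1 (Q : Type u) [AddCommGroup Q] [Module R Q] :
    (A ⊗[R] Q) ⊗[A] M ≃ₗ[A] M ⊗[R] Q :=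
  (TensorProduct.comm A (A ⊗[R] Q) M).trans (AlgebraTensorModule.cancelBaseChange R A A M Q)

theorem c1_tmul (Q : Type u) [AddCommGroup Q] [Module R Q] (a : A) (q : Q) (m : M) :
    c1 R A M Q ((a ⊗ₜ[R] q) ⊗ₜ[A] m) = (a • m) ⊗ₜ[R] q := by
  simp [c1]

theorem c1_nat (Q : Type u) [CommRing Q] [Algebra R Q] (i : ι) (x : (A ⊗[R] Q) ⊗[A] M) :
    c1 R A (N i) Q ((ψ i).baseChange (A ⊗[R] Q) x) = vQm R ψ Q i (c1 R A M Q x) := by
  induction x using TensorProduct.induction_on with
  | zero => simp
  | tmul y m =>
    induction y using TensorProduct.induction_on with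
    | zero => simp
    | tmul a q =>
      rw [LinearMap.baseChange_tmul, c1_tmul, c1_tmul, AlgebraTensorModule.map_tmul, map_smul]
      rfl
    | add y z hy hz => simp only [add_tmul, map_add, hy, hz]
  | add x y hx hy => simp only [map_add, hx, hy]

/-- the separating property of the base change to `A ⊗ Q` at an element of `A` -/
theorem SDat_baseChange_iff_MSDg (Q : Type u) [CommRing Q] [Algebra R Q] (g₀ : A) :
    SDat (fun i => (ψ i).baseChange (A ⊗[R] Q)) (algebraMap A (A ⊗[R] Q) g₀) ↔
      MSDg R ψ g₀ Q := by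
  have hs : ∀ (P : Type u) [AddCommGroup P] [Module A P] (m : ℕ) (x : (A ⊗[R] Q) ⊗[A] P),
      (algebraMap A (A ⊗[R] Q) g₀) ^ m • x = g₀ ^ m • x := by
    intro P _ _ m x
    rw [← map_pow, algebraMap_smul]
  constructor
  · intro h
    refine SDat.transfer _ _ (algebraMap A (A ⊗[R] Q) g₀) g₀
      (c1 R A M Q).toLinearMap.toAddMonoidHom (c1 R A M Q).surjective
      (fun m x => by rw [hs]; exact (c1 R A M Q).map_smul _ _)
      (fun i => (c1 R A (N i) Q).toLinearMap.toAddMonoidHom)
      (fun i => (c1 R A (N i) Q).injective)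
      (fun i m y => by rw [hs]; exact (c1 R A (N i) Q).map_smul _ _)
      (fun i x => (c1_nat ψ Q i x).symm) h
  · intro h
    refine SDat.transfer _ _ g₀ (algebraMap A (A ⊗[R] Q) g₀)
      (c1 R A M Q).symm.toLinearMap.toAddMonoidHom (c1 R A M Q).symm.surjective
      (fun m x => by rw [hs]; exact (c1 R A M Q).symm.map_smul _ _)
      (fun i => (c1 R A (N i) Q).symm.toLinearMap.toAddMonoidHom)
      (fun i => (c1 R A (N i) Q).symm.injective)
      (fun i m y => by rw [hs]; exact (c1 R A (N i) Q).symm.map_smul _ _) ?_ h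
    intro i x
    show (ψ i).baseChange (A ⊗[R] Q) ((c1 R A M Q).symm x)
      = (c1 R A (N i) Q).symm (vQm R ψ Q i x)
    rw [LinearEquiv.eq_symm_apply, c1_nat, LinearEquiv.apply_symm_apply]

end Right

end Groth.Agent.Helper2.SchDom
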