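import Mathlib
import Groth.Agent.Lib.Helper2.SchDom.ModAlg1
import Groth.Agent.Lib.Helper2.SchDom.Fib2

set_option autoImplicit false
set_option backward.isDefEq.respectTransparency.types false
set_option synthInstance.maxHeartbeats 400000
set_option maxHeartbeats 4000000
set_option linter.style.haveILetI false
set_option linter.unusedSectionVars false
set_option linter.unusedVariables false

/-!
# Fibrewise separating families of modules are universally separating (algebra, part 1)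

Module version of `Fib1`: `R` a ring, `A` an `R`-algebra, `ψ i : M → N i` a family of `A`-linear
maps, `g₀ : A`.  `MSDg R ψ g₀ Q` says that the family `ψ i ⊗ Q` is separating up to `g₀`-power
torsion.
-/

open TensorProduct

namespace Groth.Agent.Helper2.SchDom

universe u w

section LemmaB

variable {R : Type u} [CommRing R] {A : Type u} [CommRing A] [Algebra R A]
  {M : Type u} [AddCommGroup M] [Module A M] [Module R M] [IsScalarTower R A M]
  {ι : Type w} {N : ι → Type u} [∀ i, AddCommGroup (N i)] [∀ i, Module A (N i)]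
  [∀ i, Module R (N i)] [∀ i, IsScalarTower R A (N i)] {ψ : ∀ i, M →ₗ[A] N i} {g₀ : A}

theorem vQm_nat {Q Q' : Type u} [AddCommGroup Q] [Module R Q]
    [AddCommGroup Q'] [Module R Q'] (φ : Q →ₗ[R] Q') (i : ι) (x : M ⊗[R] Q) :
    FQ A (N i) φ (vQm R ψ Q i x) = vQm R ψ Q' i (FQ A M φ x) := by
  induction x using TensorProduct.induction_on with
  | zero => simp
  | tmul a q => simp [AlgebraTensorModule.map_tmul]
  | add x y hx hy => simp only [map_add, hx, hy]

theorem MSDg_iff (Q : Type u) [AddCommGroup Q] [Module R Q] :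
    MSDg R ψ g₀ Q ↔ ∀ x : M ⊗[R] Q, (∀ i, ∃ m : ℕ, g₀ ^ m • vQm R ψ Q i x = 0) →
      ∃ m : ℕ, g₀ ^ m • x = 0 := Iff.rfl

/-- the hypothesis is natural -/
theorem mhyp_nat {Q Q' : Type u} [AddCommGroup Q] [Module R Q]
    [AddCommGroup Q'] [Module R Q'] (φ : Q →ₗ[R] Q') (x : M ⊗[R] Q)
    (hx : ∀ i, ∃ m : ℕ, g₀ ^ m • vQm R ψ Q i x = 0) :
    ∀ i, ∃ m : ℕ, g₀ ^ m • vQm R ψ Q' i (FQ A M φ x) = 0 := by
  intro i
  obtain ⟨m, hm⟩ := hx i
  refine ⟨m, ?_⟩
  rw [← vQm_nat, ← map_smul, hm, map_zero]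

theorem MSDg.of_injective {Q Q' : Type u} [AddCommGroup Q] [Module R Q]
    [AddCommGroup Q'] [Module R Q'] (φ : Q →ₗ[R] Q')
    (hφ : Function.Injective (FQ A M φ)) (h : MSDg R ψ g₀ Q') : MSDg R ψ g₀ Q := by
  intro x hx
  obtain ⟨m, hm⟩ := h (FQ A M φ x) (mhyp_nat φ x hx)
  refine ⟨m, hφ ?_⟩
  rw [map_smul, hm, map_zero]

theorem MSDg.of_equiv {Q Q' : Type u} [AddCommGroup Q] [Module R Q]
    [AddCommGroup Q'] [Module R Q'] (e : Q ≃ₗ[R] Q') (h : MSDg R ψ g₀ Q') : MSDg R ψ g₀ Q := by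
  refine MSDg.of_injective e.toLinearMap ?_ h
  have : Function.LeftInverse (FQ A M e.symm.toLinearMap) (FQ A M e.toLinearMap) := by
    intro x
    induction x using TensorProduct.induction_on with
    | zero => simp
    | tmul a q => simp [AlgebraTensorModule.map_tmul]
    | add x y hx hy => simp only [map_add, hx, hy]
  exact this.injective

/-- free modules -/
theorem MSDg.finsupp (K : Type u) [AddCommGroup K] [Module R K] (h : MSDg R ψ g₀ K)
    (κ : Type u) : MSDg R ψ g₀ (κ →₀ K) := by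
  classical
  intro x hx
  have hcoord : ∀ i : κ, ∃ m : ℕ, g₀ ^ m • FQ A M (Finsupp.lapply i : (κ →₀ K) →ₗ[R] K) x = 0 :=
    fun i => h _ (mhyp_nat _ x hx)
  choose mi hmi using hcoord
  let E := TensorProduct.finsuppRight R A M K κ
  let m := (E x).support.sup mi
  refine ⟨m, E.injective ?_⟩
  rw [map_smul, map_zero]
  ext i
  rw [Finsupp.smul_apply, Finsupp.zero_apply]
  by_cases hi : i ∈ (E x).support
  · have hle : mi i ≤ m := Finset.le_sup hi
    have h1 : E x i = FQ A M (Finsupp.lapply i : (κ →₀ K) →ₗ[R] K) x :=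
      TensorProduct.finsuppRight_apply x i
    rw [h1, ← Nat.sub_add_cancel hle, pow_add, mul_smul, hmi i, smul_zero]
  · rw [Finsupp.notMem_support_iff.mp hi, smul_zero]

/-- trivial modules -/
theorem MSDg.of_forall_eq_zero (Q : Type u) [AddCommGroup Q] [Module R Q] (hQ : ∀ q : Q, q = 0) :
    MSDg R ψ g₀ Q := by
  have h0 : ∀ x : M ⊗[R] Q, x = 0 := by
    intro x
    induction x using TensorProduct.induction_on with
    | zero => rfl
    | tmul a q => rw [hQ q, tmul_zero]
    | add x y hx hy => rw [hx, hy, add_zero]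
  intro x _
  exact ⟨0, by rw [pow_zero, one_smul]; exact h0 x⟩

/-- extensions -/
theorem MSDg.of_exact [∀ i, Module.Flat R (N i)] {Q₁ Q₂ Q₃ : Type u}
    [AddCommGroup Q₁] [Module R Q₁] [AddCommGroup Q₂] [Module R Q₂] [AddCommGroup Q₃] [Module R Q₃]
    (incl : Q₁ →ₗ[R] Q₂) (π : Q₂ →ₗ[R] Q₃) (hincl : Function.Injective incl)
    (hπ : Function.Surjective π) (hex : Function.Exact incl π)
    (h₁ : MSDg R ψ g₀ Q₁) (h₃ : MSDg R ψ g₀ Q₃) : MSDg R ψ g₀ Q₂ := by
  intro x hx
  obtain ⟨m, hm⟩ := h₃ (FQ A M π x) (mhyp_nat π x hx)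
  have hex' : Function.Exact (LinearMap.lTensor M incl) (LinearMap.lTensor M π) :=
    lTensor_exact M hex hπ
  have h1 : LinearMap.lTensor M π (g₀ ^ m • x) = 0 := by
    show FQ A M π (g₀ ^ m • x) = 0
    rw [map_smul, hm]
  obtain ⟨x', hx'⟩ := (hex' _).mp h1
  have hx'' : FQ A M incl x' = g₀ ^ m • x := hx'
  have hinj : ∀ i, Function.Injective (FQ A (N i) incl) := by
    intro i
    exact Module.Flat.lTensor_preserves_injective_linearMap (M := N i) incl hincl
  obtain ⟨m', hm'⟩ := h₁ x' (fun i => by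
    obtain ⟨mi, hmi⟩ := hx i
    refine ⟨mi, hinj i ?_⟩
    rw [map_zero, map_smul, vQm_nat, hx'', map_smul, smul_comm, hmi, smul_zero])
  refine ⟨m' + m, ?_⟩
  rw [pow_add, mul_smul, ← hx'', ← map_smul, hm', map_zero]

/-- modules over the localization at a prime killed by a power of the prime -/
theorem MSDg.of_nilpotent [∀ i, Module.Flat R (N i)]
    (FIB : ∀ (K : Type u) [Field K] [Algebra R K], MSDg R ψ g₀ K)
    (𝔭 : Ideal R) [𝔭.IsPrime] (n : ℕ) : ∀ (Q : Type u) [AddCommGroup Q] [Module R Q]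
    [Module (Localization.AtPrime 𝔭) Q] [IsScalarTower R (Localization.AtPrime 𝔭) Q],
    (∀ r ∈ 𝔭 ^ n, ∀ q : Q, r • q = 0) → MSDg R ψ g₀ Q := by
  induction n with
  | zero =>
    intro Q _ _ _ _ hQ
    refine MSDg.of_forall_eq_zero Q (fun q => ?_)
    have := hQ 1 (by rw [pow_zero, Ideal.one_eq_top]; trivial) q
    rwa [one_smul] at this
  | succ n ih =>
    intro Q _ _ _ _ hQ
    let V : Submodule (Localization.AtPrime 𝔭) Q :=
      { carrier := {q | ∀ r ∈ 𝔭, r • q = 0}
        add_mem' := by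
          intro a b ha hb r hr
          rw [smul_add, ha r hr, hb r hr, add_zero]
        zero_mem' := by
          intro r _
          rw [smul_zero]
        smul_mem' := by
          intro c q hq r hr
          rw [smul_comm, hq r hr, smul_zero] }
    have hVmem : ∀ q : Q, q ∈ V ↔ ∀ r ∈ 𝔭, r • q = 0 := fun q => Iff.rfl
    -- V is killed by the maximal ideal
    have hVm : Module.IsTorsionBySet (Localization.AtPrime 𝔭) V
        (IsLocalRing.maximalIdeal (Localization.AtPrime 𝔭) : Set (Localization.AtPrime 𝔭)) := by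
      intro q c
      obtain ⟨r, s, hrs⟩ := IsLocalization.exists_mk'_eq 𝔭.primeCompl (c : Localization.AtPrime 𝔭)
      have hr : r ∈ 𝔭 := by
        have := c.2
        rw [← hrs] at this
        exact (IsLocalization.AtPrime.mk'_mem_maximal_iff (Localization.AtPrime 𝔭) 𝔭 r s).mp this
      have hspec := IsLocalization.mk'_spec' (Localization.AtPrime 𝔭) r s
      rw [hrs] at hspec
      have hunit : IsUnit (algebraMap R (Localization.AtPrime 𝔭) (s : R)) :=
        IsLocalization.map_units _ s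
      apply Subtype.ext
      show (c : Localization.AtPrime 𝔭) • (q : Q) = 0
      have h1 : (algebraMap R (Localization.AtPrime 𝔭) (s : R)) • ((c : Localization.AtPrime 𝔭) • (q : Q))
          = 0 := by
        rw [smul_smul, hspec, algebraMap_smul]
        exact q.2 r hr
      obtain ⟨w, hw⟩ := hunit.exists_left_inv
      have h2 := congrArg (fun y => w • y) h1
      simp only [smul_zero] at h2
      rw [smul_smul, hw, one_smul] at h2
      exact h2
    letI : Module (IsLocalRing.ResidueField (Localization.AtPrime 𝔭)) V := hVm.module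
    haveI : IsScalarTower R (IsLocalRing.ResidueField (Localization.AtPrime 𝔭)) V :=
      hVm.isScalarTower
    -- V satisfies MSDg
    have hSDV : MSDg R ψ g₀ V := by
      let e := (Module.Free.chooseBasis (IsLocalRing.ResidueField (Localization.AtPrime 𝔭)) V).repr
      exact MSDg.of_equiv (e.restrictScalars R)
        (MSDg.finsupp _ (FIB (IsLocalRing.ResidueField (Localization.AtPrime 𝔭))) _)
    -- the quotient
    have hQbar : ∀ r ∈ 𝔭 ^ n, ∀ q : Q ⧸ V, r • q = 0 := by
      intro r hr q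
      obtain ⟨q, rfl⟩ := V.mkQ_surjective q
      have : r • q ∈ V := by
        intro r' hr'
        rw [smul_smul]
        exact hQ _ (by rw [pow_succ']; exact Ideal.mul_mem_mul hr' hr) q
      have h2 : r • V.mkQ q = V.mkQ (r • q) := rfl
      rw [h2]
      exact (Submodule.Quotient.mk_eq_zero V).mpr this
    have hSDQ : MSDg R ψ g₀ (Q ⧸ V) := ih (Q ⧸ V) hQbar
    exact MSDg.of_exact (V.subtype.restrictScalars R) (V.mkQ.restrictScalars R)
      (Submodule.subtype_injective V) V.mkQ_surjective (LinearMap.exact_subtype_mkQ V) hSDV hSDQ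

end LemmaB

section Krull

variable {R : Type u} [CommRing R] {A : Type u} [CommRing A] [Algebra R A]
  {M : Type u} [AddCommGroup M] [Module A M] [Module R M] [IsScalarTower R A M]

/-- the image of `M ⊗ 𝔭ⁿQ` in `M ⊗ Q` lies in `(𝔭A)ⁿ (M ⊗ Q)` -/
theorem lTensor_pow_smul_le' (𝔭 : Ideal R) (n : ℕ) (Q : Type u) [AddCommGroup Q] [Module R Q]
    (z : M ⊗[R] (𝔭 ^ n • ⊤ : Submodule R Q)) :
    LinearMap.lTensor M (𝔭 ^ n • ⊤ : Submodule R Q).subtype z
      ∈ ((𝔭.map (algebraMap R A)) ^ n • ⊤ : Submodule A (M ⊗[R] Q)) := by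
  induction z using TensorProduct.induction_on with
  | zero => simp
  | tmul a q =>
    rw [LinearMap.lTensor_tmul]
    obtain ⟨q, hq⟩ := q
    show a ⊗ₜ[R] q ∈ _
    refine Submodule.smul_induction_on hq ?_ ?_
    · intro r hr y _
      rw [tmul_smul, ← algebraMap_smul A r (a ⊗ₜ[R] y)]
      refine Submodule.smul_mem_smul ?_ Submodule.mem_top
      rw [← Ideal.map_pow]
      exact Ideal.mem_map_of_mem _ hr
    · intro y₁ y₂ h₁ h₂
      rw [tmul_add]
      exact Submodule.add_mem _ h₁ h₂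
  | add z₁ z₂ h₁ h₂ =>
    rw [map_add]
    exact Submodule.add_mem _ h₁ h₂

/-- the kernel of `M ⊗ Q̄ → M ⊗ Q̄_𝔭` consists of torsion elements -/
theorem kernel_of_localized' (𝔭 : Ideal R) [𝔭.IsPrime] (Qb : Type u) [AddCommGroup Qb]
    [Module R Qb] (y : M ⊗[R] Qb)
    (hy : LinearMap.lTensor M (LocalizedModule.mkLinearMap 𝔭.primeCompl Qb) y = 0) :
    ∃ s : R, s ∉ 𝔭 ∧ s • y = 0 := by
  let mk := LocalizedModule.mkLinearMap 𝔭.primeCompl Qb
  have hnat : ∀ y : M ⊗[R] Qb,
      AlgebraTensorModule.rTensor R M mk (TensorProduct.comm R M Qb y)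
        = TensorProduct.comm R M _ (LinearMap.lTensor M mk y) := by
    intro y
    induction y using TensorProduct.induction_on with
    | zero => simp
    | tmul a q => simp
    | add y₁ y₂ h₁ h₂ => simp only [map_add, h₁, h₂]
  have h1 : AlgebraTensorModule.rTensor R M mk (TensorProduct.comm R M Qb y) = 0 := by
    rw [hnat, hy, map_zero]
  obtain ⟨⟨s, hs⟩, hsy⟩ := (IsLocalizedModule.eq_zero_iff 𝔭.primeCompl
    (AlgebraTensorModule.rTensor R M mk)).mp h1
  refine ⟨s, hs, (TensorProduct.comm R M Qb).injective ?_⟩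
  rw [map_smul, map_zero]
  exact hsy

end Krull

section Main

/-- `M ⊗ Q` is finite over `A` -/
theorem finite_tensor {R : Type u} [CommRing R] {A : Type u} [CommRing A] [Algebra R A]
    (M : Type u) [AddCommGroup M] [Module A M] [Module R M] [IsScalarTower R A M]
    [Module.Finite A M] (Q : Type u) [AddCommGroup Q] [Module R Q] [Module.Finite R Q] :
    Module.Finite A (M ⊗[R] Q) := by
  obtain ⟨n, f, hf⟩ := Module.Finite.exists_fin' R Q
  have hsurj : Function.Surjective (FQ A M f) := by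
    have : Function.Surjective (LinearMap.lTensor M f) := LinearMap.lTensor_surjective M hf
    exact this
  exact Module.Finite.of_surjective
    ((FQ A M f).comp (TensorProduct.piScalarRight R A M (Fin n)).symm.toLinearMap)
    (hsurj.comp (TensorProduct.piScalarRight R A M (Fin n)).symm.surjective)

variable {R : Type u} [CommRing R] {A : Type u} [CommRing A] [Algebra R A]
  {M : Type u} [AddCommGroup M] [Module A M] [Module R M] [IsScalarTower R A M]
  {ι : Type w} {N : ι → Type u} [∀ i, AddCommGroup (N i)] [∀ i, Module A (N i)]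
  [∀ i, Module R (N i)] [∀ i, IsScalarTower R A (N i)] {ψ : ∀ i, M →ₗ[A] N i} {g₀ : A}

theorem MSDg.of_finite [IsNoetherianRing A] [Module.Finite A M] [∀ i, Module.Flat R (N i)]
    (FIB : ∀ (K : Type u) [Field K] [Algebra R K], MSDg R ψ g₀ K)
    (Q : Type u) [AddCommGroup Q] [Module R Q] [Module.Finite R Q] : MSDg R ψ g₀ Q := by
  intro x hx
  by_contra hcon
  push Not at hcon
  let I : Ideal A := LinearMap.ker (LinearMap.toSpanSingleton A (M ⊗[R] Q) x)
  have hI : ∀ a, a ∈ I ↔ a • x = 0 := fun a => by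
    simp [I, LinearMap.mem_ker, LinearMap.toSpanSingleton_apply]
  have hdisj : Disjoint (I : Set A) (Submonoid.powers g₀ : Set A) := by
    rw [Set.disjoint_left]
    rintro a ha ⟨m, rfl⟩
    exact hcon m ((hI _).mp ha)
  obtain ⟨𝔮, h𝔮, hI𝔮, h𝔮g⟩ := Ideal.exists_le_prime_disjoint I (Submonoid.powers g₀) hdisj
  haveI := h𝔮
  have hg𝔮 : ∀ m : ℕ, g₀ ^ m ∉ 𝔮 := fun m hm => Set.disjoint_left.mp h𝔮g hm ⟨m, rfl⟩
  let 𝔭 := 𝔮.comap (algebraMap R A)
  haveI : 𝔭.IsPrime := Ideal.comap_isPrime _ _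
  have hJ : 𝔭.map (algebraMap R A) ≤ 𝔮 := Ideal.map_comap_le
  haveI : Module.Finite A (M ⊗[R] Q) := finite_tensor M Q
  suffices hkey : ∀ n : ℕ, ∃ a : A, a ∉ 𝔮 ∧ a • x ∈
      ((𝔭.map (algebraMap R A)) ^ n • ⊤ : Submodule A (M ⊗[R] Q)) by
    obtain ⟨a, ha, hax⟩ := exists_smul_eq_zero_of_forall_mem_pow (M ⊗[R] Q) 𝔮
      (𝔭.map (algebraMap R A)) hJ x hkey
    exact ha (hI𝔮 ((hI a).mpr hax))
  intro n
  · let Qn := LocalizedModule 𝔭.primeCompl (Q ⧸ (𝔭 ^ n • ⊤ : Submodule R Q))
    have hQn : ∀ r ∈ 𝔭 ^ n, ∀ y : Qn, r • y = 0 := by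
      intro r hr y
      induction y using LocalizedModule.induction_on with
      | h q t =>
        rw [LocalizedModule.smul'_mk]
        obtain ⟨q, rfl⟩ := (𝔭 ^ n • ⊤ : Submodule R Q).mkQ_surjective q
        have : r • (𝔭 ^ n • ⊤ : Submodule R Q).mkQ q = 0 := by
          rw [← map_smul]
          exact (Submodule.Quotient.mk_eq_zero _).mpr (Submodule.smul_mem_smul hr Submodule.mem_top)
        rw [this, LocalizedModule.zero_mk]
    have hSD : MSDg R ψ g₀ Qn := MSDg.of_nilpotent FIB 𝔭 n Qn hQn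
    let mkQ : Q →ₗ[R] Q ⧸ (𝔭 ^ n • ⊤ : Submodule R Q) := (𝔭 ^ n • ⊤ : Submodule R Q).mkQ
    let mk : (Q ⧸ (𝔭 ^ n • ⊤ : Submodule R Q)) →ₗ[R] Qn :=
      LocalizedModule.mkLinearMap 𝔭.primeCompl _
    obtain ⟨m, hm⟩ := hSD (FQ A M (mk ∘ₗ mkQ) x) (mhyp_nat _ x hx)
    have h1 : LinearMap.lTensor M mk (LinearMap.lTensor M mkQ (g₀ ^ m • x)) = 0 := by
      rw [← LinearMap.comp_apply, ← LinearMap.lTensor_comp]
      show FQ A M (mk ∘ₗ mkQ) (g₀ ^ m • x) = 0
      rw [map_smul, hm]
    obtain ⟨s, hs, hsy⟩ := kernel_of_localized' 𝔭 _ _ h1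
    have h2 : LinearMap.lTensor M mkQ (s • g₀ ^ m • x) = 0 := by
      rw [map_smul]
      exact hsy
    have hex := lTensor_exact M (LinearMap.exact_subtype_mkQ (𝔭 ^ n • ⊤ : Submodule R Q))
      (Submodule.mkQ_surjective _)
    obtain ⟨z, hz⟩ := (hex _).mp h2
    refine ⟨algebraMap R A s * g₀ ^ m, ?_, ?_⟩
    · intro hmem
      rcases h𝔮.mem_or_mem hmem with h | h
      · exact hs h
      · exact hg𝔮 m h
    · rw [mul_smul, algebraMap_smul, ← hz]
      exact lTensor_pow_smul_le' 𝔭 n Q z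

/-- filtered unions of submodules -/
theorem MSDg.of_directed [∀ i, Module.Flat R (N i)] (Q : Type u) [AddCommGroup Q] [Module R Q]
    (H : ∀ Q₀ : Submodule R Q, Module.Finite R Q₀ →
      ∃ Q₁ : Submodule R Q, Q₀ ≤ Q₁ ∧ MSDg R ψ g₀ Q₁) : MSDg R ψ g₀ Q := by
  intro x hx
  obtain ⟨Q₀, hQ₀fin, hxQ₀⟩ := TensorProduct.exists_finite_submodule_right_of_setFinite
    ({x} : Set (M ⊗[R] Q)) (Set.finite_singleton x)
  obtain ⟨x₀, hx₀⟩ := hxQ₀ (Set.mem_singleton x)
  obtain ⟨Q₁, hle, hQ₁⟩ := H Q₀ hQ₀fin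
  let x₁ : M ⊗[R] Q₁ := FQ A M (Submodule.inclusion hle) x₀
  have hx₁ : FQ A M Q₁.subtype x₁ = x := by
    have h0 : FQ A M Q₀.subtype x₀ = x := hx₀
    rw [← h0]
    show FQ A M Q₁.subtype (FQ A M (Submodule.inclusion hle) x₀) = FQ A M Q₀.subtype x₀
    generalize x₀ = y
    induction y using TensorProduct.induction_on with
    | zero => simp
    | tmul a q => simp [AlgebraTensorModule.map_tmul]
    | add y z hy hz => simp only [map_add, hy, hz]
  have hinj : ∀ i, Function.Injective (FQ A (N i) Q₁.subtype) := fun i =>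
    Module.Flat.lTensor_preserves_injective_linearMap (M := N i) Q₁.subtype
      (Submodule.subtype_injective Q₁)
  have hyp₁ : ∀ i, ∃ m : ℕ, g₀ ^ m • vQm R ψ Q₁ i x₁ = 0 := by
    intro i
    obtain ⟨m, hm⟩ := hx i
    refine ⟨m, hinj i ?_⟩
    rw [map_zero, map_smul, vQm_nat, hx₁, hm]
  obtain ⟨m, hm⟩ := hQ₁ x₁ hyp₁
  exact ⟨m, by rw [← hx₁, ← map_smul, hm, map_zero]⟩

theorem MSDg.all [IsNoetherianRing A] [Module.Finite A M] [∀ i, Module.Flat R (N i)]
    (FIB : ∀ (K : Type u) [Field K] [Algebra R K], MSDg R ψ g₀ K)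
    (Q : Type u) [AddCommGroup Q] [Module R Q] : MSDg R ψ g₀ Q := by
  refine MSDg.of_directed Q (fun Q₀ hfin => ⟨Q₀, le_rfl, ?_⟩)
  haveI := hfin
  exact MSDg.of_finite FIB Q₀

end Main

end Groth.Agent.Helper2.SchDom
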