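import Mathlib
import Groth.Agent.Lib.Helper2.SchDom.ModFib1

set_option autoImplicit false
set_option backward.isDefEq.respectTransparency.types false
set_option synthInstance.maxHeartbeats 400000
set_option maxHeartbeats 4000000
set_option linter.style.haveILetI false
set_option linter.unusedSectionVars false
set_option linter.unusedVariables false

/-!
# Fibrewise separating families of modules are universally separating (algebra, part 2)
-/

open TensorProduct

namespace Groth.Agent.Helper2.SchDom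

universe u w

section Iff

variable {A : Type u} [CommRing A] {M : Type u} [AddCommGroup M] [Module A M] {ι : Type w}
  {N : ι → Type u} [∀ i, AddCommGroup (N i)] [∀ i, Module A (N i)] (ψ : ∀ i, M →ₗ[A] N i)

theorem SDat_baseChange_algEquiv_iff {A' A'' : Type u} [CommRing A'] [Algebra A A'] [CommRing A'']
    [Algebra A A''] (ε : A' ≃ₐ[A] A'') (g : A') :
    SDat (fun i => (ψ i).baseChange A') g ↔ SDat (fun i => (ψ i).baseChange A'') (ε g) := by
  constructor
  · exact SDat_baseChange_algEquiv ψ ε g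
  · intro h
    have := SDat_baseChange_algEquiv ψ ε.symm (ε g) h
    rwa [AlgEquiv.symm_apply_apply] at this

end Iff

section CC

variable {R : Type u} [CommRing R] {A : Type u} [CommRing A] [Algebra R A]
  {M : Type u} [AddCommGroup M] [Module A M] [Module R M] [IsScalarTower R A M]
  {ι : Type w} {N : ι → Type u} [∀ i, AddCommGroup (N i)] [∀ i, Module A (N i)]
  [∀ i, Module R (N i)] [∀ i, IsScalarTower R A (N i)] (ψ : ∀ i, M →ₗ[A] N i)

attribute [local instance] Algebra.TensorProduct.rightAlgebra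

/-- descent of the coefficients -/
theorem MSDg_baseChange_iff (R₁ : Type u) [CommRing R₁] [Algebra R R₁] (Q : Type u) [CommRing Q]
    [Algebra R Q] [Algebra R₁ Q] [IsScalarTower R R₁ Q] (g₁ : A ⊗[R] R₁) :
    MSDg R₁ (fun i => (ψ i).baseChange (A ⊗[R] R₁)) g₁ Q ↔
      SDat (fun i => (ψ i).baseChange (A ⊗[R] Q))
        (Algebra.TensorProduct.map (AlgHom.id R A) (IsScalarTower.toAlgHom R R₁ Q) g₁) := by
  let ε := Algebra.IsPushout.cancelBaseChangeAlg R A R₁ (A ⊗[R] R₁) Q
  have hε : ε (algebraMap (A ⊗[R] R₁) ((A ⊗[R] R₁) ⊗[R₁] Q) g₁)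
      = Algebra.TensorProduct.map (AlgHom.id R A) (IsScalarTower.toAlgHom R R₁ Q) g₁ := by
    induction g₁ using TensorProduct.induction_on with
    | zero => simp
    | tmul a r =>
      rw [← AlgEquiv.eq_symm_apply, Algebra.TensorProduct.map_tmul]
      show _ = ε.symm (a ⊗ₜ[R] algebraMap R₁ Q r)
      rw [Algebra.IsPushout.cancelBaseChangeAlg_symm_tmul, Algebra.TensorProduct.algebraMap_apply]
      have h1 : (a ⊗ₜ[R] r : A ⊗[R] R₁) = r • (algebraMap A (A ⊗[R] R₁) a) := by
        rw [Algebra.smul_def, Algebra.TensorProduct.right_algebraMap_apply,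
          Algebra.TensorProduct.algebraMap_apply, Algebra.TensorProduct.tmul_mul_tmul]
        simp
      rw [Algebra.algebraMap_self, RingHom.id_apply, h1, TensorProduct.smul_tmul,
        ← Algebra.algebraMap_eq_smul_one r]
    | add x y hx hy => simp only [map_add, hx, hy]
  rw [← hε, ← SDat_baseChange_algEquiv_iff ψ ε,
    ← SDat_baseChange_trans ψ (A₁ := A ⊗[R] R₁) (A' := (A ⊗[R] R₁) ⊗[R₁] Q)]
  exact (SDat_baseChange_iff_MSDg (R := R₁) (A := A ⊗[R] R₁)
    (fun i => (ψ i).baseChange (A ⊗[R] R₁)) Q g₁).symm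

theorem map_inclusion (R' : Type u) [CommRing R'] [Algebra R R'] {R₁ R₃ : Subalgebra R R'}
    (h : R₁ ≤ R₃) (g₁ : A ⊗[R] R₁) :
    Algebra.TensorProduct.map (AlgHom.id R A) R₃.val
        (Algebra.TensorProduct.map (AlgHom.id R A) (Subalgebra.inclusion h) g₁)
      = Algebra.TensorProduct.map (AlgHom.id R A) R₁.val g₁ := by
  induction g₁ using TensorProduct.induction_on with
  | zero => simp
  | tmul a r => rfl
  | add x y hx hy => rw [map_add, map_add, map_add, hx, hy]

theorem exists_fg_right (R' : Type u) [CommRing R'] [Algebra R R'] (g' : A ⊗[R] R') :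
    ∃ (R₁ : Subalgebra R R') (_ : R₁.FG) (g₁ : A ⊗[R] R₁),
      Algebra.TensorProduct.map (AlgHom.id R A) R₁.val g₁ = g' := by
  induction g' using TensorProduct.induction_on with
  | zero => exact ⟨⊥, Subalgebra.fg_bot, 0, map_zero _⟩
  | tmul a r' =>
    refine ⟨Algebra.adjoin R {r'}, ⟨{r'}, by rw [Finset.coe_singleton]⟩,
      a ⊗ₜ[R] (⟨r', Algebra.subset_adjoin rfl⟩ : Algebra.adjoin R {r'}), rfl⟩
  | add x y hx hy =>
    obtain ⟨R₁, h₁, g₁, rfl⟩ := hx
    obtain ⟨R₂, h₂, g₂, rfl⟩ := hy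
    refine ⟨R₁ ⊔ R₂, h₁.sup h₂,
      Algebra.TensorProduct.map (AlgHom.id R A) (Subalgebra.inclusion (le_sup_left : R₁ ≤ R₁ ⊔ R₂)) g₁
      + Algebra.TensorProduct.map (AlgHom.id R A)
          (Subalgebra.inclusion (le_sup_right : R₂ ≤ R₁ ⊔ R₂)) g₂, ?_⟩
    rw [map_add, map_inclusion, map_inclusion]

/-- flatness of the base changed modules over the new base -/
theorem flat_baseChange_right (R₁ : Type u) [CommRing R₁] [Algebra R R₁] (P : Type u)
    [AddCommGroup P] [Module A P] [Module R P] [IsScalarTower R A P] [Module.Flat R P] :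
    Module.Flat R₁ ((A ⊗[R] R₁) ⊗[A] P) :=
  Module.Flat.of_linearEquiv (Algebra.IsPushout.cancelBaseChange R R₁ A (A ⊗[R] R₁) P)

/-- **fibrewise separating families of modules are universally separating** -/
theorem BCSD_of_fibrewise [IsNoetherianRing A] [Module.Finite A M] [∀ i, Module.Flat R (N i)]
    (FIB : ∀ (K : Type u) [Field K] [Algebra R K], BCSD ψ (A ⊗[R] K))
    (R' : Type u) [CommRing R'] [Algebra R R'] : BCSD ψ (A ⊗[R] R') := by
  intro g'
  obtain ⟨R₁, hfg, g₁, rfl⟩ := exists_fg_right (A := A) R' g'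
  haveI : Algebra.FiniteType R R₁ := ⟨(Subalgebra.fg_top R₁).mpr hfg⟩
  haveI : IsNoetherianRing (A ⊗[R] R₁) := Algebra.FiniteType.isNoetherianRing A (A ⊗[R] R₁)
  haveI : ∀ i, Module.Flat R₁ ((A ⊗[R] R₁) ⊗[A] N i) := fun i => flat_baseChange_right R₁ (N i)
  refine (MSDg_baseChange_iff ψ R₁ R' g₁).mp ?_
  refine MSDg.all (fun K _ _ => ?_) R'
  letI : Algebra R K := ((algebraMap R₁ K).comp (algebraMap R R₁)).toAlgebra
  haveI : IsScalarTower R R₁ K := IsScalarTower.of_algebraMap_eq (fun _ => rfl)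
  exact (MSDg_baseChange_iff ψ R₁ K g₁).mpr (FIB K _)

/-- passage to the union of the finitely generated subalgebras -/
theorem BCSD_of_forall_fg [∀ i, Module.Flat R (N i)] (R' : Type u) [CommRing R'] [Algebra R R']
    (H : ∀ (B : Type u) [CommRing B] [Algebra R B] (b : B →ₐ[R] R'), Function.Injective b →
      Algebra.FiniteType R B → BCSD ψ (A ⊗[R] B)) : BCSD ψ (A ⊗[R] R') := by
  classical
  intro g'
  obtain ⟨R₁, hfg, g₁, rfl⟩ := exists_fg_right (A := A) R' g'
  haveI : Algebra.FiniteType R R₁ := ⟨(Subalgebra.fg_top R₁).mpr hfg⟩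
  haveI : ∀ i, Module.Flat R₁ ((A ⊗[R] R₁) ⊗[A] N i) := fun i => flat_baseChange_right R₁ (N i)
  refine (MSDg_baseChange_iff ψ R₁ R' g₁).mp ?_
  refine MSDg.of_directed R' (fun Q₀ hfin => ?_)
  obtain ⟨s, hs⟩ := hfin.1
  let R₂ : Subalgebra R₁ R' := Algebra.adjoin R₁ ((s.image Subtype.val : Finset R') : Set R')
  have hle : Q₀ ≤ Subalgebra.toSubmodule R₂ := by
    intro q hq
    have hq' : (⟨q, hq⟩ : Q₀) ∈ Submodule.span R₁ (s : Set Q₀) := by rw [hs]; trivial
    have : q ∈ Submodule.span R₁ ((s.image Subtype.val : Finset R') : Set R') := by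
      have h1 := Submodule.mem_map_of_mem (f := Q₀.subtype) hq'
      rw [Submodule.map_span] at h1
      simpa using h1
    exact Algebra.span_le_adjoin R₁ _ this
  refine ⟨Subalgebra.toSubmodule R₂, hle, ?_⟩
  refine MSDg.of_equiv (Subalgebra.toSubmoduleEquiv R₂) ?_
  haveI : Algebra.FiniteType R₁ R₂ :=
    ⟨(Subalgebra.fg_top R₂).mpr (Subalgebra.fg_adjoin_finset _)⟩
  have hft : Algebra.FiniteType R R₂ := Algebra.FiniteType.trans (S := R₁) inferInstance inferInstance
  refine (MSDg_baseChange_iff ψ R₁ R₂ g₁).mpr ?_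
  exact H R₂ (R₂.val.restrictScalars R) Subtype.val_injective hft _

end CC

section Nilp

variable {R : Type u} [CommRing R] {A : Type u} [CommRing A] [Algebra R A]
  {M : Type u} [AddCommGroup M] [Module A M] [Module R M] [IsScalarTower R A M]
  {ι : Type w} {N : ι → Type u} [∀ i, AddCommGroup (N i)] [∀ i, Module A (N i)]
  [∀ i, Module R (N i)] [∀ i, IsScalarTower R A (N i)] (ψ : ∀ i, M →ₗ[A] N i)

theorem SDat_of_MSDg_self (g₀ : A) (h : MSDg R ψ g₀ R) : SDat ψ g₀ := by
  refine SDat.transfer _ _ g₀ g₀ (AlgebraTensorModule.rid R A M).toLinearMap.toAddMonoidHom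
    (AlgebraTensorModule.rid R A M).surjective
    (fun m x => (AlgebraTensorModule.rid R A M).map_smul _ _)
    (fun i => (AlgebraTensorModule.rid R A (N i)).toLinearMap.toAddMonoidHom)
    (fun i => (AlgebraTensorModule.rid R A (N i)).injective)
    (fun i m y => (AlgebraTensorModule.rid R A (N i)).map_smul _ _) ?_ h
  intro i x
  show ψ i (AlgebraTensorModule.rid R A M x) = AlgebraTensorModule.rid R A (N i) (vQm R ψ R i x)
  induction x using TensorProduct.induction_on with
  | zero => simp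
  | tmul m r => simp
  | add x y hx hy => simp only [map_add, hx, hy]

/-- the graded pieces of the `J`-adic filtration of `R` -/
theorem MSDg_quot_pow [∀ i, Module.Flat R (N i)] (J : Ideal R)
    (hfree : ∀ k : ℕ, Module.Free (R ⧸ J) ((R ⧸ J) ⊗[R] ↥(J ^ k))) (g₀ : A)
    (h1 : MSDg R ψ g₀ (R ⧸ J)) (n : ℕ) : MSDg R ψ g₀ (R ⧸ J ^ n) := by
  induction n with
  | zero =>
    refine MSDg.of_forall_eq_zero _ (fun q => ?_)
    obtain ⟨r, rfl⟩ := Ideal.Quotient.mk_surjective q
    rw [Ideal.Quotient.eq_zero_iff_mem, pow_zero, Ideal.one_eq_top]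
    trivial
  | succ n ih =>
    have hle : J ^ (n + 1) ≤ J ^ n := Ideal.pow_le_pow_right (Nat.le_succ n)
    let π : (R ⧸ J ^ (n + 1)) →ₗ[R] (R ⧸ J ^ n) :=
      Submodule.mapQ (J ^ (n + 1)) (J ^ n) LinearMap.id hle
    have hπ : Function.Surjective π := by
      intro q
      obtain ⟨r, rfl⟩ := Submodule.mkQ_surjective _ q
      exact ⟨Submodule.mkQ _ r, rfl⟩
    -- the kernel
    let f : ↥(J ^ n) →ₗ[R] LinearMap.ker π :=
      LinearMap.codRestrict (LinearMap.ker π) ((Submodule.mkQ (J ^ (n + 1))).comp (J ^ n).subtype)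
        (fun a => by
          rw [LinearMap.mem_ker]
          show Submodule.mkQ (J ^ n) (a : R) = 0
          rw [Submodule.mkQ_apply, Submodule.Quotient.mk_eq_zero]
          exact a.2)
    have hf : Function.Surjective f := by
      rintro ⟨q, hq⟩
      obtain ⟨r, rfl⟩ := Submodule.mkQ_surjective _ q
      have hr : r ∈ J ^ n := by
        rw [LinearMap.mem_ker] at hq
        have : Submodule.mkQ (J ^ n) r = 0 := hq
        rwa [Submodule.mkQ_apply, Submodule.Quotient.mk_eq_zero] at this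
      exact ⟨⟨r, hr⟩, rfl⟩
    have hker : LinearMap.ker f = (J • ⊤ : Submodule R ↥(J ^ n)) := by
      ext a
      rw [LinearMap.mem_ker, Submodule.mem_smul_top_iff]
      have h2 : f a = 0 ↔ (a : R) ∈ J ^ (n + 1) := by
        rw [← Submodule.coe_eq_zero]
        show Submodule.mkQ (J ^ (n + 1)) (a : R) = 0 ↔ _
        rw [Submodule.mkQ_apply, Submodule.Quotient.mk_eq_zero]
      rw [h2, pow_succ', Ideal.smul_eq_mul]
    have e1 : (↥(J ^ n) ⧸ (J • ⊤ : Submodule R ↥(J ^ n))) ≃ₗ[R] LinearMap.ker π :=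
      (Submodule.quotEquivOfEq _ _ hker.symm).trans (LinearMap.quotKerEquivOfSurjective f hf)
    have e2 : ((R ⧸ J) ⊗[R] ↥(J ^ n)) ≃ₗ[R] (↥(J ^ n) ⧸ (J • ⊤ : Submodule R ↥(J ^ n))) :=
      TensorProduct.quotTensorEquivQuotSMul ↥(J ^ n) J
    haveI := hfree n
    let e3 := (Module.Free.chooseBasis (R ⧸ J) ((R ⧸ J) ⊗[R] ↥(J ^ n))).repr
    have hK : MSDg R ψ g₀ (LinearMap.ker π) := by
      refine MSDg.of_equiv e1.symm (MSDg.of_equiv e2.symm ?_)
      exact MSDg.of_equiv (e3.restrictScalars R) (MSDg.finsupp _ h1 _)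
    exact MSDg.of_exact (LinearMap.ker π).subtype π (Submodule.subtype_injective _) hπ
      (LinearMap.exact_subtype_ker_map π) hK ih

/-- **lifting the separating property along a nilpotent ideal with free graded pieces** -/
theorem SDlin_of_nilpotent [∀ i, Module.Flat R (N i)] (J : Ideal R) (hJ : IsNilpotent J)
    (hfree : ∀ k : ℕ, Module.Free (R ⧸ J) ((R ⧸ J) ⊗[R] ↥(J ^ k)))
    (H : BCSD ψ (A ⊗[R] (R ⧸ J))) : SDlin ψ := by
  intro g₀
  have h1 : MSDg R ψ g₀ (R ⧸ J) := (SDat_baseChange_iff_MSDg ψ (R ⧸ J) g₀).mp (H _)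
  obtain ⟨n, hn⟩ := hJ
  have h2 := MSDg_quot_pow ψ J hfree g₀ h1 n
  have hbot : J ^ n = ⊥ := hn
  have h3 : MSDg R ψ g₀ R :=
    MSDg.of_equiv (Submodule.quotEquivOfEqBot (J ^ n) hbot).symm h2
  exact SDat_of_MSDg_self ψ g₀ h3

end Nilp

end Groth.Agent.Helper2.SchDom
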