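import Mathlib
import Groth.Agent.Lib.Helper2.SchDom.ModAlg1
import Groth.Agent.Lib.Helper2.SchDom.Alg3

set_option autoImplicit false
set_option backward.isDefEq.respectTransparency.types false
set_option synthInstance.maxHeartbeats 400000
set_option maxHeartbeats 4000000
set_option linter.style.haveILetI false
set_option linter.unusedSectionVars false
set_option linter.unusedVariables false

/-!
# Separating families of modules over a field are universally separating

By idealization (`TrivSqZeroExt`) the statement is reduced to the statement for rings.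
-/

open TensorProduct

namespace Groth.Agent.Helper2.SchDom

universe u w

section Idl

variable {A : Type u} [CommRing A]
  {M : Type u} [AddCommGroup M] [Module A M] [Module Aᵐᵒᵖ M] [IsCentralScalar A M]
  {ι : Type w} {N : ι → Type u} [∀ i, AddCommGroup (N i)] [∀ i, Module A (N i)]
  [∀ i, Module Aᵐᵒᵖ (N i)] [∀ i, IsCentralScalar A (N i)] (ψ : ∀ i, M →ₗ[A] N i)

theorem tsze_mul_inr (P : Type u) [AddCommGroup P] [Module A P] [Module Aᵐᵒᵖ P]
    [IsCentralScalar A P] (x : TrivSqZeroExt A P) (y : P) :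
    x * TrivSqZeroExt.inr y = TrivSqZeroExt.inr (x.fst • y) := by
  apply TrivSqZeroExt.ext
  · simp
  · simp

/-- the idealization of a separating family of modules is a separating family of rings -/
theorem SDring_idl [Nonempty ι] (h : SDlin ψ) :
    SDring (fun i => (TrivSqZeroExt.map (ψ i)).toRingHom) := by
  intro g s hyp
  obtain ⟨i₀⟩ := ‹Nonempty ι›
  obtain ⟨m₀, hm₀⟩ := hyp i₀
  have hfst : (g ^ m₀ * s).fst = 0 := by
    have := congrArg TrivSqZeroExt.fst hm₀
    simpa using this
  set y : M := (g ^ m₀ * s).snd with hy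
  have hs' : g ^ m₀ * s = TrivSqZeroExt.inr y := by
    apply TrivSqZeroExt.ext
    · rw [hfst, TrivSqZeroExt.fst_inr]
    · rw [TrivSqZeroExt.snd_inr]
  have hpow : ∀ m : ℕ, g ^ m * (g ^ m₀ * s) = TrivSqZeroExt.inr (g.fst ^ m • y) := by
    intro m
    rw [hs', tsze_mul_inr, TrivSqZeroExt.fst_pow]
  obtain ⟨m, hm⟩ := h g.fst y (fun i => by
    obtain ⟨mi, hmi⟩ := hyp i
    refine ⟨mi, ?_⟩
    have h1 : (TrivSqZeroExt.map (ψ i)) (g ^ mi * (g ^ m₀ * s)) = 0 := by
      have h2 : g ^ mi * (g ^ m₀ * s) = g ^ m₀ * (g ^ mi * s) := by ring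
      rw [h2, map_mul]
      have h3 : (TrivSqZeroExt.map (ψ i)) (g ^ mi * s) = 0 := hmi
      rw [h3, mul_zero]
    rw [hpow, TrivSqZeroExt.map_inr] at h1
    have h4 := congrArg TrivSqZeroExt.snd h1
    rw [TrivSqZeroExt.snd_inr, TrivSqZeroExt.snd_zero, map_smul] at h4
    exact h4)
  refine ⟨m + m₀, ?_⟩
  rw [pow_add, mul_assoc, hpow, hm, TrivSqZeroExt.inr_zero]

end Idl

section Field

variable {k : Type u} [Field k] {A : Type u} [CommRing A] [Algebra k A]
  {M : Type u} [AddCommGroup M] [Module A M] [Module k M] [IsScalarTower k A M]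
  [Module Aᵐᵒᵖ M] [IsCentralScalar A M] [IsScalarTower k Aᵐᵒᵖ M]
  {ι : Type w} {N : ι → Type u} [∀ i, AddCommGroup (N i)] [∀ i, Module A (N i)]
  [∀ i, Module k (N i)] [∀ i, IsScalarTower k A (N i)]
  [∀ i, Module Aᵐᵒᵖ (N i)] [∀ i, IsCentralScalar A (N i)] [∀ i, IsScalarTower k Aᵐᵒᵖ (N i)]
  (ψ : ∀ i, M →ₗ[A] N i)

/-- `inl` as a morphism of `k`-algebras -/
noncomputable def inlK (P : Type u) [AddCommGroup P] [Module A P] [Module k P]
    [IsScalarTower k A P] [Module Aᵐᵒᵖ P] [IsCentralScalar A P] [IsScalarTower k Aᵐᵒᵖ P] :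
    A →ₐ[k] TrivSqZeroExt A P :=
  { TrivSqZeroExt.inlHom A P with
    commutes' := fun r => (TrivSqZeroExt.algebraMap_eq_inl' k A P r).symm }

theorem inlK_apply (P : Type u) [AddCommGroup P] [Module A P] [Module k P]
    [IsScalarTower k A P] [Module Aᵐᵒᵖ P] [IsCentralScalar A P] [IsScalarTower k Aᵐᵒᵖ P] (a : A) :
    inlK (k := k) P a = TrivSqZeroExt.inl a := rfl

/-- `inr` as a `k`-linear map -/
noncomputable def inrK (P : Type u) [AddCommGroup P] [Module A P] [Module k P]
    [IsScalarTower k A P] [Module Aᵐᵒᵖ P] [IsCentralScalar A P] [IsScalarTower k Aᵐᵒᵖ P] :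
    P →ₗ[k] TrivSqZeroExt A P where
  toFun := TrivSqZeroExt.inr
  map_add' := TrivSqZeroExt.inr_add _
  map_smul' r p := TrivSqZeroExt.inr_smul _ r p

/-- `snd` as a `k`-linear map -/
noncomputable def sndK (P : Type u) [AddCommGroup P] [Module A P] [Module k P]
    [IsScalarTower k A P] [Module Aᵐᵒᵖ P] [IsCentralScalar A P] [IsScalarTower k Aᵐᵒᵖ P] :
    TrivSqZeroExt A P →ₗ[k] P where
  toFun := TrivSqZeroExt.snd
  map_add' := TrivSqZeroExt.snd_add
  map_smul' r x := TrivSqZeroExt.snd_smul r x

theorem sndK_inrK (P : Type u) [AddCommGroup P] [Module A P] [Module k P]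
    [IsScalarTower k A P] [Module Aᵐᵒᵖ P] [IsCentralScalar A P] [IsScalarTower k Aᵐᵒᵖ P] :
    (sndK (k := k) (A := A) P).comp (inrK P) = LinearMap.id := by
  ext p
  rfl

/-- the morphism of `k`-algebras induced on the idealizations -/
noncomputable def mapK (i : ι) : TrivSqZeroExt A M →ₐ[k] TrivSqZeroExt A (N i) :=
  { (TrivSqZeroExt.map (ψ i)).toRingHom with
    commutes' := fun r => by
      show TrivSqZeroExt.map (ψ i) (algebraMap k (TrivSqZeroExt A M) r) = _
      rw [TrivSqZeroExt.algebraMap_eq_inl', TrivSqZeroExt.algebraMap_eq_inl',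
        TrivSqZeroExt.map_inl] }

theorem mapK_apply (i : ι) (x : TrivSqZeroExt A M) :
    mapK (k := k) ψ i x = TrivSqZeroExt.map (ψ i) x := rfl

/-- the embedding of the base changed module in the base changed idealization -/
noncomputable def Jm (B : Type u) [CommRing B] [Algebra k B] (P : Type u) [AddCommGroup P]
    [Module A P] [Module k P] [IsScalarTower k A P] [Module Aᵐᵒᵖ P] [IsCentralScalar A P]
    [IsScalarTower k Aᵐᵒᵖ P] :
    (A ⊗[k] B) ⊗[A] P →+ (TrivSqZeroExt A P) ⊗[k] B :=
  (LinearMap.rTensor B (inrK (k := k) (A := A) P)).toAddMonoidHom.comp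
    (c1 k A P B).toLinearMap.toAddMonoidHom

theorem Jm_tmul (B : Type u) [CommRing B] [Algebra k B] (P : Type u) [AddCommGroup P]
    [Module A P] [Module k P] [IsScalarTower k A P] [Module Aᵐᵒᵖ P] [IsCentralScalar A P]
    [IsScalarTower k Aᵐᵒᵖ P] (a : A) (b : B) (p : P) :
    Jm (k := k) B P ((a ⊗ₜ[k] b) ⊗ₜ[A] p)
      = (TrivSqZeroExt.inr (a • p) : TrivSqZeroExt A P) ⊗ₜ[k] b := by
  show LinearMap.rTensor B (inrK (k := k) (A := A) P) (c1 k A P B ((a ⊗ₜ[k] b) ⊗ₜ[A] p)) = _
  rw [c1_tmul, LinearMap.rTensor_tmul]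
  rfl

theorem Jm_injective (B : Type u) [CommRing B] [Algebra k B] (P : Type u) [AddCommGroup P]
    [Module A P] [Module k P] [IsScalarTower k A P] [Module Aᵐᵒᵖ P] [IsCentralScalar A P]
    [IsScalarTower k Aᵐᵒᵖ P] :
    Function.Injective (Jm (k := k) (A := A) B P) := by
  have h1 : Function.Injective (LinearMap.rTensor B (inrK (k := k) (A := A) P)) := by
    have : Function.LeftInverse (LinearMap.rTensor B (sndK (k := k) (A := A) P))
        (LinearMap.rTensor B (inrK (k := k) (A := A) P)) := by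
      intro x
      rw [← LinearMap.comp_apply, ← LinearMap.rTensor_comp, sndK_inrK, LinearMap.rTensor_id,
        LinearMap.id_apply]
    exact this.injective
  exact h1.comp (c1 k A P B).injective

theorem Jm_smul (B : Type u) [CommRing B] [Algebra k B] (P : Type u) [AddCommGroup P]
    [Module A P] [Module k P] [IsScalarTower k A P] [Module Aᵐᵒᵖ P] [IsCentralScalar A P]
    [IsScalarTower k Aᵐᵒᵖ P] (g : A ⊗[k] B) (x : (A ⊗[k] B) ⊗[A] P) :
    Jm (k := k) B P (g • x)
      = Algebra.TensorProduct.map (inlK (k := k) P) (AlgHom.id k B) g * Jm (k := k) B P x := by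
  induction x using TensorProduct.induction_on with
  | zero => simp
  | tmul y p =>
    induction g using TensorProduct.induction_on with
    | zero => simp
    | tmul a b =>
      induction y using TensorProduct.induction_on with
      | zero => simp
      | tmul a' b' =>
        rw [TensorProduct.smul_tmul', smul_eq_mul, Algebra.TensorProduct.tmul_mul_tmul, Jm_tmul,
          Jm_tmul, Algebra.TensorProduct.map_tmul, Algebra.TensorProduct.tmul_mul_tmul]
        congr 1
        show TrivSqZeroExt.inr ((a * a') • p) = TrivSqZeroExt.inl a * TrivSqZeroExt.inr (a' • p)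
        rw [TrivSqZeroExt.inl_mul_inr, mul_smul]
      | add y z hy hz => simp only [add_tmul, smul_add, map_add, mul_add, hy, hz]
    | add g₁ g₂ h₁ h₂ => simp only [add_smul, map_add, add_mul, h₁, h₂]
  | add x y hx hy => simp only [smul_add, map_add, mul_add, hx, hy]

theorem Jm_nat (B : Type u) [CommRing B] [Algebra k B] (i : ι) (x : (A ⊗[k] B) ⊗[A] M) :
    Algebra.TensorProduct.map (mapK (k := k) ψ i) (AlgHom.id k B) (Jm (k := k) B M x)
      = Jm (k := k) B (N i) ((ψ i).baseChange (A ⊗[k] B) x) := by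
  induction x using TensorProduct.induction_on with
  | zero => simp
  | tmul y p =>
    induction y using TensorProduct.induction_on with
    | zero => simp
    | tmul a b =>
      rw [LinearMap.baseChange_tmul, Jm_tmul, Jm_tmul, Algebra.TensorProduct.map_tmul]
      congr 1
      show TrivSqZeroExt.map (ψ i) (TrivSqZeroExt.inr (a • p)) = _
      rw [TrivSqZeroExt.map_inr, map_smul]
    | add y z hy hz => simp only [add_tmul, map_add, hy, hz]
  | add x y hx hy => simp only [map_add, hx, hy]

theorem BCSD_field_aux [Nonempty ι] (h : SDlin ψ) (B : Type u) [CommRing B] [Algebra k B] :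
    BCSD ψ (A ⊗[k] B) := by
  have hcore := core (k := k) (A := TrivSqZeroExt A M) (C := fun i => TrivSqZeroExt A (N i))
    (mapK (k := k) ψ) (SDring_idl ψ h) B
  intro g x hyp
  obtain ⟨m, hm⟩ := hcore (Algebra.TensorProduct.map (inlK (k := k) M) (AlgHom.id k B) g)
    (Jm (k := k) B M x) (fun i => by
      obtain ⟨m, hm⟩ := hyp i
      refine ⟨m, ?_⟩
      show Algebra.TensorProduct.map (mapK (k := k) ψ i) (AlgHom.id k B) _ = 0
      rw [← map_pow, ← Jm_smul, Jm_nat, map_smul, hm, map_zero])
  refine ⟨m, Jm_injective (k := k) B M ?_⟩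
  rw [map_zero, Jm_smul, map_pow]
  exact hm

end Field

section Final

variable {k : Type u} [Field k] {A : Type u} [CommRing A] [Algebra k A]
  {M : Type u} [AddCommGroup M] [Module A M] [Module k M] [IsScalarTower k A M]
  {ι : Type w} {N : ι → Type u} [∀ i, AddCommGroup (N i)] [∀ i, Module A (N i)]
  [∀ i, Module k (N i)] [∀ i, IsScalarTower k A (N i)] (ψ : ∀ i, M →ₗ[A] N i)

/-- **separating families of modules over a field are universally separating** -/
theorem BCSD_field (h : SDlin ψ) (B : Type u) [CommRing B] [Algebra k B] :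
    BCSD ψ (A ⊗[k] B) := by
  by_cases hι : Nonempty ι
  · letI : Module Aᵐᵒᵖ M :=
      Module.compHom M ((RingHom.id A).fromOpposite (fun x y => mul_comm x y))
    haveI : IsCentralScalar A M := ⟨fun a m => rfl⟩
    haveI : IsScalarTower k Aᵐᵒᵖ M := ⟨fun r a m => by
      show (MulOpposite.unop (r • a)) • m = r • (MulOpposite.unop a • m)
      rw [MulOpposite.unop_smul, smul_assoc]⟩
    letI : ∀ i, Module Aᵐᵒᵖ (N i) := fun i =>
      Module.compHom (N i) ((RingHom.id A).fromOpposite (fun x y => mul_comm x y))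
    haveI : ∀ i, IsCentralScalar A (N i) := fun i => ⟨fun a m => rfl⟩
    haveI : ∀ i, IsScalarTower k Aᵐᵒᵖ (N i) := fun i => ⟨fun r a m => by
      show (MulOpposite.unop (r • a)) • m = r • (MulOpposite.unop a • m)
      rw [MulOpposite.unop_smul, smul_assoc]⟩
    exact BCSD_field_aux ψ h B
  · have hM : ∀ s : M, s = 0 := by
      intro s
      obtain ⟨m, hm⟩ := h 1 s (fun i => (hι ⟨i⟩).elim)
      rwa [one_pow, one_smul] at hm
    have h0 : ∀ x : (A ⊗[k] B) ⊗[A] M, x = 0 := by
      intro x
      induction x using TensorProduct.induction_on with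
      | zero => rfl
      | tmul a q => rw [hM q, tmul_zero]
      | add x y hx hy => rw [hx, hy, add_zero]
    intro g x _
    exact ⟨0, by rw [pow_zero, one_smul]; exact h0 x⟩

end Final

end Groth.Agent.Helper2.SchDom
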