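import Mathlib
import Groth.Agent.Lib.Helper2.SchDom.ModField
import Groth.Agent.Lib.Helper2.SchDom.ModFib2

set_option autoImplicit false
set_option backward.isDefEq.respectTransparency.types false
set_option synthInstance.maxHeartbeats 400000
set_option maxHeartbeats 4000000
set_option linter.style.haveILetI false
set_option linter.unusedSectionVars false
set_option linter.unusedVariables false

/-!
# Extension of the field of coefficients
-/

open TensorProduct

namespace Groth.Agent.Helper2.SchDom

universe u w

section Ext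

variable {R : Type u} [CommRing R] {A : Type u} [CommRing A] [Algebra R A]
  {M : Type u} [AddCommGroup M] [Module A M] [Module R M] [IsScalarTower R A M]
  {ι : Type w} {N : ι → Type u} [∀ i, AddCommGroup (N i)] [∀ i, Module A (N i)]
  [∀ i, Module R (N i)] [∀ i, IsScalarTower R A (N i)] (ψ : ∀ i, M →ₗ[A] N i)

attribute [local instance] Algebra.TensorProduct.rightAlgebra

/-- if the base change to a field `κ` over `R` is separating, so is the base change to every
`κ`-algebra -/
theorem BCSD_field_ext (κ : Type u) [Field κ] [Algebra R κ] (K : Type u) [CommRing K]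
    [Algebra R K] [Algebra κ K] [IsScalarTower R κ K] (h : BCSD ψ (A ⊗[R] κ)) :
    BCSD ψ (A ⊗[R] K) := by
  have h1 : BCSD (fun i => (ψ i).baseChange (A ⊗[R] κ)) ((A ⊗[R] κ) ⊗[κ] K) :=
    BCSD_field (k := κ) (A := A ⊗[R] κ) (fun i => (ψ i).baseChange (A ⊗[R] κ)) h K
  let ε := Algebra.IsPushout.cancelBaseChangeAlg R A κ (A ⊗[R] κ) K
  refine BCSD.of_algEquiv ψ ε ?_
  intro g
  exact (SDat_baseChange_trans ψ (A₁ := A ⊗[R] κ) (A' := (A ⊗[R] κ) ⊗[κ] K) g).mp (h1 g)

end Ext

end Groth.Agent.Helper2.SchDom
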