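import Mathlib
import Groth.Agent.Lib.Helper2.SchDom.ModAlg1
import Groth.Agent.Lib.Helper2.SchDom.Flat2

set_option autoImplicit false
set_option backward.isDefEq.respectTransparency.types false
set_option synthInstance.maxHeartbeats 400000
set_option maxHeartbeats 4000000
set_option linter.style.haveILetI false
set_option linter.unusedSectionVars false
set_option linter.unusedVariables false

/-!
# Separating families of modules are stable under flat finitely presented base change
-/

open TensorProduct

namespace Groth.Agent.Helper2.SchDom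

universe u w

section

variable {A : Type u} [CommRing A] {M : Type u} [AddCommGroup M] [Module A M] {ι : Type w}
  {N : ι → Type u} [∀ i, AddCommGroup (N i)] [∀ i, Module A (N i)] (ψ : ∀ i, M →ₗ[A] N i)

/-- global form: the base changed family is jointly injective -/
theorem JI_of_SDlin_of_flat_fp {A'' : Type u} [CommRing A''] [Algebra A A'']
    [Algebra.FinitePresentation A A''] [Module.Flat A A''] (h : SDlin ψ) :
    SDat (fun i => (ψ i).baseChange A'') 1 := by
  let P := Algebra.Presentation.ofFinitePresentation A A''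
  let A₀ := P.Core
  let B₀ := P.ModelOfHasCoeffs A₀
  let e : A ⊗[A₀] B₀ ≃ₐ[A] A'' := P.tensorModelOfHasCoeffsEquiv A₀
  haveI : IsNoetherianRing A₀ := Algebra.FiniteType.isNoetherianRing ℤ A₀
  haveI : Module.Flat A (A ⊗[A₀] B₀) := Module.Flat.of_linearEquiv e.toLinearEquiv
  letI : Module A₀ M := Module.compHom M (algebraMap A₀ A)
  haveI : IsScalarTower A₀ A M := IsScalarTower.of_algebraMap_smul (fun _ _ => rfl)
  letI : ∀ i, Module A₀ (N i) := fun i => Module.compHom (N i) (algebraMap A₀ A)
  haveI : ∀ i, IsScalarTower A₀ A (N i) := fun i =>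
    IsScalarTower.of_algebraMap_smul (fun _ _ => rfl)
  have hP := propI_all (A₀ := A₀) (B₀ := B₀) (A := A) ι ⊥
  have h1 : MSDg A₀ ψ (1 : A) B₀ := by
    unfold MSDg
    rw [SDat_one_iff]
    intro s hs
    refine hP M N ψ ?_ ?_ s (fun i => ?_)
    · intro c hc x
      rw [Ideal.mem_bot.mp hc, zero_smul]
    · intro g x hx
      obtain ⟨m, hm⟩ := h (algebraMap A₀ A g) x (fun i => by
        obtain ⟨m, hm⟩ := hx i
        refine ⟨m, ?_⟩
        rw [← map_pow]
        exact hm)
      refine ⟨m, ?_⟩
      rw [← map_pow] at hm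
      exact hm
    · have := hs i
      have e2 : ∀ z : M ⊗[A₀] B₀, ((ψ i).restrictScalars A₀).rTensor B₀ z = vQm A₀ ψ B₀ i z := by
        intro z
        induction z using TensorProduct.induction_on with
        | zero => simp
        | tmul m b => rfl
        | add z₁ z₂ h₁ h₂ => simp only [map_add, h₁, h₂]
      rw [e2]
      exact this
  have h2 := (SDat_baseChange_iff_MSDg (R := A₀) ψ B₀ (1 : A)).mpr h1
  rw [map_one] at h2
  have h3 := SDat_baseChange_algEquiv ψ e 1 h2
  rwa [map_one] at h3

/-- local form -/
theorem BCSD_of_flat_fp {A' : Type u} [CommRing A'] [Algebra A A']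
    [Algebra.FinitePresentation A A'] [Module.Flat A A'] (h : SDlin ψ) : BCSD ψ A' := by
  intro g' s' hyp
  let A'' := Localization.Away g'
  haveI : Algebra.FinitePresentation A' A'' := IsLocalization.Away.finitePresentation g'
  haveI : Algebra.FinitePresentation A A'' := Algebra.FinitePresentation.trans A A' A''
  haveI : Module.Flat A' A'' := IsLocalization.flat A'' (Submonoid.powers g')
  haveI : Module.Flat A A'' := Module.Flat.trans A A' A''
  have hJI := (SDat_one_iff _).mp (JI_of_SDlin_of_flat_fp (A'' := A'') ψ h)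
  let ρ : ∀ (P : Type u) [AddCommGroup P] [Module A P], A' ⊗[A] P →ₗ[A'] A'' ⊗[A] P :=
    fun P _ _ => AlgebraTensorModule.rTensor A P (Algebra.linearMap A' A'')
  haveI hloc : ∀ (P : Type u) [AddCommGroup P] [Module A P],
      IsLocalizedModule (Submonoid.powers g') (ρ P) := fun P _ _ => inferInstance
  have hnat : ∀ (i : ι) (x : A' ⊗[A] M),
      (ψ i).baseChange A'' (ρ M x) = ρ (N i) ((ψ i).baseChange A' x) := by
    intro i x
    induction x using TensorProduct.induction_on with
    | zero => simp
    | tmul a m => rfl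
    | add x y hx hy => simp only [map_add, hx, hy]
  have h0 : ρ M s' = 0 := by
    refine hJI _ (fun i => ?_)
    rw [hnat]
    obtain ⟨m, hm⟩ := hyp i
    have h1 : g' ^ m • ρ (N i) ((ψ i).baseChange A' s') = 0 := by
      rw [← map_smul, hm, map_zero]
    have hinj := IsLocalizedModule.smul_injective (ρ (N i))
      (⟨g' ^ m, m, rfl⟩ : Submonoid.powers g')
    apply hinj
    show g' ^ m • ρ (N i) ((ψ i).baseChange A' s') = g' ^ m • 0
    rw [h1, smul_zero]
  obtain ⟨⟨_, m, rfl⟩, hm⟩ := (IsLocalizedModule.eq_zero_iff (Submonoid.powers g') (ρ M)).mp h0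
  exact ⟨m, hm⟩

end

end Groth.Agent.Helper2.SchDom
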