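import Mathlib
import Groth.Prelude.Def_Coh
import Groth.Agent.Lib.Lead.SD2
import Groth.Agent.Lib.Lead.BCU3
import Groth.Agent.Lib.Lead.LimZ3
import Groth.Agent.Lib.Helper2.SchDom.ModAlg1

set_option autoImplicit false
set_option backward.isDefEq.respectTransparency.types false
set_option synthInstance.maxHeartbeats 400000
set_option maxHeartbeats 4000000
set_option linter.style.haveILetI false
set_option linter.unusedSectionVars false
set_option linter.unusedVariables false

/-!
# Separating families of homomorphisms of quasi-coherent modules: from sheaves to algebra and back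
-/

open CategoryTheory AlgebraicGeometry TensorProduct Opposite TopologicalSpace

namespace Groth.Agent.Helper2.SchDom

universe u w

open Scheme.Modules Groth.Agent.Lead.BCU Groth.Agent.Lead.LimZ Groth.Agent.Lead.SD

/-- a family of homomorphisms of modules is separating -/
def Sep {X : Scheme.{u}} {F : X.Modules} {ι : Type w} {G : ι → X.Modules} (v : ∀ i, F ⟶ G i) :
    Prop :=
  ∀ (V : X.Opens) (t : Γ(F, V)), (∀ i, (v i).app V t = 0) → t = 0

/-- a morphism of modules as a linear map on sections -/
noncomputable def appLin {X : Scheme.{u}} {M N : X.Modules} (φ : M ⟶ N) (U : X.Opens) :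
    Γ(M, U) →ₗ[Γ(X, U)] Γ(N, U) where
  toFun m := φ.app U m
  map_add' a b := map_add _ a b
  map_smul' r m := Hom.app_smul φ r m

theorem appLin_apply {X : Scheme.{u}} {M N : X.Modules} (φ : M ⟶ N) (U : X.Opens) (m : Γ(M, U)) :
    appLin φ U m = φ.app U m := rfl

attribute [local instance] basicOpenModule

section G1

variable {X : Scheme.{u}} {F : X.Modules} [F.IsQuasicoherent] {ι : Type w} {G : ι → X.Modules}
  (v : ∀ i, F ⟶ G i)

theorem resₗ_app {M N : X.Modules} (φ : M ⟶ N) {U : X.Opens} (g : Γ(X, U)) (s : Γ(M, U)) :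
    φ.app (X.basicOpen g) (resₗ M g s) = resₗ N g (φ.app U s) :=
  app_res φ (X.basicOpen_le g) s

/-- units act injectively on the sections over the basic open -/
theorem smul_basicOpen_injective (N : X.Modules) {U : X.Opens} (g : Γ(X, U)) (m : ℕ)
    (y : Γ(N, X.basicOpen g)) (hy : g ^ m • y = 0) : y = 0 := by
  have hu : IsUnit ((X.presheaf.map (homOfLE (X.basicOpen_le g)).op).hom g) :=
    X.toRingedSpace.isUnit_res_basicOpen g
  rw [smul_basicOpen_def, map_pow] at hy
  obtain ⟨w, hw⟩ := (hu.pow m).exists_left_inv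
  have := congrArg (fun z => w • z) hy
  simp only [smul_zero] at this
  rwa [smul_smul, hw, one_smul] at this

/-- a separating family induces separating families of linear maps on the affine opens -/
theorem SDlin_of_sep (h : Sep v) {U : X.Opens} (hU : IsAffineOpen U) :
    SDlin (fun i => appLin (v i) U) := by
  intro g s hs
  haveI := isLocalizedModule_res F hU g
  have h0 : resₗ F g s = 0 := by
    refine h (X.basicOpen g) _ (fun i => ?_)
    obtain ⟨m, hm⟩ := hs i
    rw [resₗ_app]
    refine smul_basicOpen_injective (G i) g m _ ?_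
    rw [← (resₗ (G i) g).map_smul]
    have : g ^ m • (v i).app U s = 0 := hm
    rw [this, _root_.map_zero]
  obtain ⟨⟨_, m, rfl⟩, hm⟩ := (IsLocalizedModule.eq_zero_iff (Submonoid.powers g) (resₗ F g)).mp h0
  exact ⟨m, hm⟩

end G1

section G2

variable {X : Scheme.{u}} {F : X.Modules} [F.IsQuasicoherent] {ι : Type w} {G : ι → X.Modules}
  [∀ i, (G i).IsQuasicoherent] (v : ∀ i, F ⟶ G i)

/-- a family which is separating on the members of an affine open cover is separating -/
theorem sep_of_SDlin_cover
    (hcov : ∀ x : X, ∃ O : X.Opens, IsAffineOpen O ∧ x ∈ O ∧ SDlin (fun i => appLin (v i) O)) :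
    Sep v := by
  intro V t ht
  apply F.isSheaf.section_ext (U := Opposite.op V)
  intro x hx
  obtain ⟨O, hO, hxO, hSD⟩ := hcov x
  obtain ⟨f, hle, hxf⟩ := hO.exists_basicOpen_le ⟨x, hx⟩ hxO
  refine ⟨X.basicOpen f, hle, hxf, ?_⟩
  rw [_root_.map_zero]
  haveI := isLocalizedModule_res F hO f
  obtain ⟨⟨s, ⟨_, n, rfl⟩⟩, hs⟩ := IsLocalizedModule.surj (Submonoid.powers f) (resₗ F f)
    (res F hle t)
  have hs' : f ^ n • res F hle t = resₗ F f s := hs
  obtain ⟨m, hm⟩ := hSD f s (fun i => by
    haveI := isLocalizedModule_res (G i) hO f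
    have h1 : resₗ (G i) f ((v i).app O s) = 0 := by
      rw [← resₗ_app, ← hs', smul_basicOpen_def, Hom.app_smul, app_res, ht i]
      have h0 : res (G i) hle (0 : Γ(G i, V)) = 0 := _root_.map_zero _
      rw [h0, smul_zero]
    obtain ⟨⟨_, m, rfl⟩, hm⟩ :=
      (IsLocalizedModule.eq_zero_iff (Submonoid.powers f) (resₗ (G i) f)).mp h1
    exact ⟨m, hm⟩)
  have h2 : resₗ F f s = 0 := by
    refine smul_basicOpen_injective F f m _ ?_
    rw [← (resₗ F f).map_smul, hm, _root_.map_zero]
  rw [h2] at hs'
  exact smul_basicOpen_injective F f n _ hs'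

end G2

section G3

variable {A A'' : Type u} [CommRing A] [CommRing A''] (φ : A →+* A'')
  {M : Type u} [AddCommGroup M] [Module A M] {ι : Type w} {N : ι → Type u}
  [∀ i, AddCommGroup (N i)] [∀ i, Module A (N i)] (ψ : ∀ i, M →ₗ[A] N i)
  {M'' : Type u} [AddCommGroup M''] [Module A'' M''] {N'' : ι → Type u}
  [∀ i, AddCommGroup (N'' i)] [∀ i, Module A'' (N'' i)] (ψ'' : ∀ i, M'' →ₗ[A''] N'' i)

/-- the separating property of a family which is a base change of `ψ` -/
theorem SDlin_iff_BCSD_of_isBC (l : M → M'') (hl : IsBC φ l) (li : ∀ i, N i → N'' i)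
    (hli : ∀ i, IsBC φ (li i)) (hc : ∀ i m, ψ'' i (l m) = li i (ψ i m)) :
    letI := φ.toAlgebra
    SDlin ψ'' ↔ BCSD ψ A'' := by
  letI alg : Algebra A A'' := φ.toAlgebra
  letI mM : Module A M'' := Module.compHom M'' φ
  haveI tM : IsScalarTower A A'' M'' := ⟨fun a a' n => by
    change (φ a * a') • n = φ a • a' • n
    exact mul_smul _ _ _⟩
  letI mN : ∀ i, Module A (N'' i) := fun i => Module.compHom (N'' i) φ
  haveI tN : ∀ i, IsScalarTower A A'' (N'' i) := fun i => ⟨fun a a' n => by
    change (φ a * a') • n = φ a • a' • n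
    exact mul_smul _ _ _⟩
  obtain ⟨l', hl', hb⟩ := hl
  choose li' hli' hbi using hli
  have key : ∀ (i : ι) (t : A'' ⊗[A] M),
      (hbi i).equiv ((ψ i).baseChange A'' t) = ψ'' i (hb.equiv t) := by
    intro i t
    induction t using TensorProduct.induction_on with
    | zero => simp
    | tmul b m =>
      rw [LinearMap.baseChange_tmul, IsBaseChange.equiv_tmul, IsBaseChange.equiv_tmul,
        _root_.map_smul, hl', hc, hli']
    | add x y hx hy => simp only [_root_.map_add, hx, hy]
  show SDlin ψ'' ↔ SDlin (fun i => (ψ i).baseChange A'')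
  constructor
  · intro h g
    refine SDat.transfer ψ'' _ g g hb.equiv.symm.toLinearMap.toAddMonoidHom hb.equiv.symm.surjective
      (fun m x => hb.equiv.symm.map_smul _ _)
      (fun i => (hbi i).equiv.symm.toLinearMap.toAddMonoidHom)
      (fun i => (hbi i).equiv.symm.injective)
      (fun i m y => (hbi i).equiv.symm.map_smul _ _) ?_ (h g)
    intro i x
    show (ψ i).baseChange A'' (hb.equiv.symm x) = (hbi i).equiv.symm (ψ'' i x)
    rw [LinearEquiv.eq_symm_apply, key, LinearEquiv.apply_symm_apply]
  · intro h g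
    refine SDat.transfer _ ψ'' g g hb.equiv.toLinearMap.toAddMonoidHom hb.equiv.surjective
      (fun m x => hb.equiv.map_smul _ _)
      (fun i => (hbi i).equiv.toLinearMap.toAddMonoidHom)
      (fun i => (hbi i).equiv.injective)
      (fun i m y => (hbi i).equiv.map_smul _ _) (fun i x => (key i x).symm) (h g)

end G3

section Pull

variable {Y X : Scheme.{u}} (h : Y ⟶ X) {F : X.Modules} [F.IsQuasicoherent] {ι : Type w}
  {G : ι → X.Modules} [∀ i, (G i).IsQuasicoherent] (v : ∀ i, F ⟶ G i)

/-- on a pair of affine charts, the pulled back family is the base change of the family -/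
theorem SDlin_pullback_iff {U : X.Opens} (hU : IsAffineOpen U) {O : Y.Opens} (hO : IsAffineOpen O)
    (e : O ≤ h ⁻¹ᵁ U) :
    letI := (h.appLE U O e).hom.toAlgebra
    SDlin (fun i => appLin ((Scheme.Modules.pullback h).map (v i)) O) ↔
      BCSD (fun i => appLin (v i) U) Γ(Y, O) := by
  refine SDlin_iff_BCSD_of_isBC (h.appLE U O e).hom (fun i => appLin (v i) U)
    (fun i => appLin ((Scheme.Modules.pullback h).map (v i)) O) (unitRes h F e)
    (isBC_unitRes h F hU hO e) (fun i => unitRes h (G i) e)
    (fun i => isBC_unitRes h (G i) hU hO e) ?_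
  intro i m
  exact unitRes_naturality h (v i) e m

end Pull

end Groth.Agent.Helper2.SchDom
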