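import Mathlib
import Groth.Agent.Lib.Helper1.QcLoc
import Groth.Agent.Lib.Helper2.SchDom.ModGlue1
import Groth.Agent.Lib.Helper2.SchDom.FibGlue2

set_option autoImplicit false
set_option backward.isDefEq.respectTransparency.types false
set_option synthInstance.maxHeartbeats 400000
set_option maxHeartbeats 4000000
set_option linter.style.haveILetI false
set_option linter.unusedSectionVars false
set_option linter.unusedVariables false

/-!
# Affine charts of fibre products and pulled back modules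
-/

open CategoryTheory AlgebraicGeometry TensorProduct Opposite TopologicalSpace Limits

namespace Groth.Agent.Helper2.SchDom

universe u w

section Chart

variable {X S S' : Scheme.{u}} (p : X ⟶ S) (g : S' ⟶ S)
  {R R' : Type u} [CommRing R] [CommRing R'] [Algebra R R']
  (jR : Spec (CommRingCat.of R) ⟶ S) [IsOpenImmersion jR]
  (jR' : Spec (CommRingCat.of R') ⟶ S') [IsOpenImmersion jR']
  {UA : X.Opens} (hUA : IsAffineOpen UA) [Algebra R Γ(X, UA)]
  (hA : hUA.fromSpec ≫ p = Spec.map (CommRingCat.ofHom (algebraMap R Γ(X, UA))) ≫ jR)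
  (hR' : jR' ≫ g = Spec.map (CommRingCat.ofHom (algebraMap R R')) ≫ jR)

/-- the chart of the fibre product -/
noncomputable abbrev chartβ :
    Spec (CommRingCat.of (Γ(X, UA) ⊗[R] R')) ⟶ pullback p g :=
  beta p g jR hUA.fromSpec jR' hA hR'

/-- the affine open of the fibre product -/
noncomputable abbrev chartO : (pullback p g).Opens :=
  (chartβ p g jR jR' hUA hA hR') ''ᵁ ⊤

theorem isAffineOpen_chartO : IsAffineOpen (chartO p g jR jR' hUA hA hR') :=
  (isAffineOpen_top _).image_of_isOpenImmersion _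

theorem mem_chartO (x : ↥(pullback p g)) :
    x ∈ chartO p g jR jR' hUA hA hR' ↔
      pullback.fst p g x ∈ UA ∧ pullback.snd p g x ∈ Set.range jR' := by
  have h1 : x ∈ chartO p g jR jR' hUA hA hR' ↔
      x ∈ Set.range (chartβ p g jR jR' hUA hA hR') := by
    show x ∈ (chartβ p g jR jR' hUA hA hR') '' (⊤ : Set _) ↔ _
    rw [Set.top_eq_univ, Set.image_univ]
  rw [h1, mem_range_beta, hUA.range_fromSpec]
  rfl

theorem chartO_le : chartO p g jR jR' hUA hA hR' ≤ (pullback.fst p g) ⁻¹ᵁ UA :=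
  fun x hx => ((mem_chartO p g jR jR' hUA hA hR' x).mp hx).1

/-- the ring of sections over the chart -/
noncomputable def chartIso :
    Γ(pullback p g, chartO p g jR jR' hUA hA hR') ≅ CommRingCat.of (Γ(X, UA) ⊗[R] R') :=
  (chartβ p g jR jR' hUA hA hR').appIso ⊤ ≪≫ Scheme.ΓSpecIso _

theorem appLE_congr {Y Z : Scheme.{u}} {m m' : Y ⟶ Z} (e : m = m') (V : Z.Opens) (W : Y.Opens)
    (h : W ≤ m ⁻¹ᵁ V) (h' : W ≤ m' ⁻¹ᵁ V) : m.appLE V W h = m'.appLE V W h' := by
  subst e
  rfl

theorem chartIso_comm :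
    (pullback.fst p g).appLE UA (chartO p g jR jR' hUA hA hR')
        (chartO_le p g jR jR' hUA hA hR') ≫ (chartIso p g jR jR' hUA hA hR').hom
    = CommRingCat.ofHom (Algebra.TensorProduct.includeLeftRingHom :
        Γ(X, UA) →+* Γ(X, UA) ⊗[R] R') := by
  have hfst := beta_fst p g jR hUA.fromSpec jR' hA hR'
  unfold chartIso
  rw [Iso.trans_hom, Scheme.Hom.appIso_hom', ← Category.assoc, Scheme.Hom.appLE_comp_appLE]
  have h1 := appLE_congr hfst UA ⊤
    (by
      intro y _
      exact chartO_le p g jR jR' hUA hA hR' ⟨y, trivial, rfl⟩)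
    (by
      intro y _
      show hUA.fromSpec (Spec.map _ y) ∈ UA
      have : hUA.fromSpec (Spec.map (CommRingCat.ofHom (Algebra.TensorProduct.includeLeftRingHom :
        Γ(X, UA) →+* Γ(X, UA) ⊗[R] R')) y) ∈ Set.range hUA.fromSpec := ⟨_, rfl⟩
      rwa [hUA.range_fromSpec] at this)
  rw [h1, ← Scheme.Hom.appLE_comp_appLE _ _ UA ⊤ ⊤ (Groth.Agent.Helper1.QcLoc.le_preimage hUA)
    (fun _ _ => trivial), Groth.Agent.Helper1.QcLoc.star, Category.assoc]
  rw [Iso.inv_comp_eq]
  have h2 : (Spec.map (CommRingCat.ofHom (Algebra.TensorProduct.includeLeftRingHom :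
      Γ(X, UA) →+* Γ(X, UA) ⊗[R] R'))).appLE ⊤ ⊤ (fun _ _ => trivial)
      = (Spec.map (CommRingCat.ofHom (Algebra.TensorProduct.includeLeftRingHom :
      Γ(X, UA) →+* Γ(X, UA) ⊗[R] R'))).appTop := by
    simp [Scheme.Hom.appLE, Scheme.Hom.appTop]
  rw [h2]
  exact Scheme.ΓSpecIso_naturality _

end Chart

section ChartMod

variable {X S S' : Scheme.{u}} (p : X ⟶ S) (g : S' ⟶ S)
  {R R' : Type u} [CommRing R] [CommRing R'] [Algebra R R']
  (jR : Spec (CommRingCat.of R) ⟶ S) [IsOpenImmersion jR]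
  (jR' : Spec (CommRingCat.of R') ⟶ S') [IsOpenImmersion jR']
  {UA : X.Opens} (hUA : IsAffineOpen UA) [Algebra R Γ(X, UA)]
  (hA : hUA.fromSpec ≫ p = Spec.map (CommRingCat.ofHom (algebraMap R Γ(X, UA))) ≫ jR)
  (hR' : jR' ≫ g = Spec.map (CommRingCat.ofHom (algebraMap R R')) ≫ jR)
  {F : X.Modules} [F.IsQuasicoherent] {ι : Type w}
  {G : ι → X.Modules} [∀ i, (G i).IsQuasicoherent] (v : ∀ i, F ⟶ G i)

/-- on the chart of the fibre product, the pulled back family is the base change of the family to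
the tensor product -/
theorem SDlin_chart_iff :
    SDlin (fun i => appLin ((Scheme.Modules.pullback (pullback.fst p g)).map (v i))
      (chartO p g jR jR' hUA hA hR')) ↔
      BCSD (fun i => appLin (v i) UA) (Γ(X, UA) ⊗[R] R') := by
  letI alg : Algebra Γ(X, UA) Γ(pullback p g, chartO p g jR jR' hUA hA hR') :=
    ((pullback.fst p g).appLE UA _ (chartO_le p g jR jR' hUA hA hR')).hom.toAlgebra
  rw [SDlin_pullback_iff (pullback.fst p g) v hUA
    (isAffineOpen_chartO p g jR jR' hUA hA hR') (chartO_le p g jR jR' hUA hA hR')]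
  let ε : Γ(pullback p g, chartO p g jR jR' hUA hA hR') ≃ₐ[Γ(X, UA)] (Γ(X, UA) ⊗[R] R') :=
    { (chartIso p g jR jR' hUA hA hR').commRingCatIsoToRingEquiv with
      commutes' := fun a => by
        have := congr($(chartIso_comm p g jR jR' hUA hA hR') a)
        exact this }
  exact ⟨fun h => BCSD.of_algEquiv _ ε h, fun h => BCSD.of_algEquiv _ ε.symm h⟩

include jR jR' hUA hA hR' in
/-- the separating property of the pulled back family gives the algebraic property on charts -/
theorem BCSD_of_sep_pullback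
    (h : Sep (fun i => (Scheme.Modules.pullback (pullback.fst p g)).map (v i))) :
    BCSD (fun i => appLin (v i) UA) (Γ(X, UA) ⊗[R] R') := by
  haveI : ((Scheme.Modules.pullback (pullback.fst p g)).obj F).IsQuasicoherent :=
    Groth.Agent.Lead.PB.isQuasicoherent_pullback _ F
  exact (SDlin_chart_iff p g jR jR' hUA hA hR' v).mp
    (SDlin_of_sep _ h (isAffineOpen_chartO p g jR jR' hUA hA hR'))

end ChartMod

section Cover

variable {X S S' : Scheme.{u}} (p : X ⟶ S) (g : S' ⟶ S)
  {F : X.Modules} [F.IsQuasicoherent] {ι : Type w}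
  {G : ι → X.Modules} [∀ i, (G i).IsQuasicoherent] (v : ∀ i, F ⟶ G i)

/-- the algebraic property on all affine charts gives the separating property of the pulled back
family -/
theorem sep_pullback_of_BCSD
    (H : ∀ (UR : S.Opens) (hUR : IsAffineOpen UR) (UA : X.Opens) (hUA : IsAffineOpen UA)
      (UR' : S'.Opens) (hUR' : IsAffineOpen UR') (hleA : UA ≤ p ⁻¹ᵁ UR) (hleR' : UR' ≤ g ⁻¹ᵁ UR),
      letI := (p.appLE UR UA hleA).hom.toAlgebra
      letI := (g.appLE UR UR' hleR').hom.toAlgebra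
      BCSD (fun i => appLin (v i) UA) (Γ(X, UA) ⊗[Γ(S, UR)] Γ(S', UR'))) :
    Sep (fun i => (Scheme.Modules.pullback (pullback.fst p g)).map (v i)) := by
  haveI : ((Scheme.Modules.pullback (pullback.fst p g)).obj F).IsQuasicoherent :=
    Groth.Agent.Lead.PB.isQuasicoherent_pullback _ F
  haveI : ∀ i, ((Scheme.Modules.pullback (pullback.fst p g)).obj (G i)).IsQuasicoherent :=
    fun i => Groth.Agent.Lead.PB.isQuasicoherent_pullback _ (G i)
  refine sep_of_SDlin_cover _ (fun x => ?_)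
  have hcond : p (pullback.fst p g x) = g (pullback.snd p g x) := by
    show (pullback.fst p g ≫ p) x = (pullback.snd p g ≫ g) x
    rw [pullback.condition]
  obtain ⟨UR, hUR, hxUR, -⟩ := Opens.isBasis_iff_nbhd.mp S.isBasis_affineOpens
    (show p (pullback.fst p g x) ∈ (⊤ : S.Opens) from trivial)
  obtain ⟨UA, hUA, hxUA, hleA⟩ := Opens.isBasis_iff_nbhd.mp X.isBasis_affineOpens
    (show pullback.fst p g x ∈ p ⁻¹ᵁ UR from hxUR)
  obtain ⟨UR', hUR', hxUR', hleR'⟩ := Opens.isBasis_iff_nbhd.mp S'.isBasis_affineOpens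
    (show pullback.snd p g x ∈ g ⁻¹ᵁ UR from by
      show g (pullback.snd p g x) ∈ UR
      rw [← hcond]; exact hxUR)
  letI : Algebra Γ(S, UR) Γ(X, UA) := (p.appLE UR UA hleA).hom.toAlgebra
  letI : Algebra Γ(S, UR) Γ(S', UR') := (g.appLE UR UR' hleR').hom.toAlgebra
  have hA : IsAffineOpen.fromSpec hUA ≫ p
      = Spec.map (CommRingCat.ofHom (algebraMap Γ(S, UR) Γ(X, UA))) ≫ IsAffineOpen.fromSpec hUR :=
    (IsAffineOpen.SpecMap_appLE_fromSpec p hUR hUA hleA).symm
  have hR' : IsAffineOpen.fromSpec hUR' ≫ g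
      = Spec.map (CommRingCat.ofHom (algebraMap Γ(S, UR) Γ(S', UR'))) ≫ IsAffineOpen.fromSpec hUR :=
    (IsAffineOpen.SpecMap_appLE_fromSpec g hUR hUR' hleR').symm
  refine ⟨chartO p g hUR.fromSpec hUR'.fromSpec hUA hA hR',
    isAffineOpen_chartO p g hUR.fromSpec hUR'.fromSpec hUA hA hR', ?_, ?_⟩
  · rw [mem_chartO, hUR'.range_fromSpec]
    exact ⟨hxUA, hxUR'⟩
  · exact (SDlin_chart_iff p g hUR.fromSpec hUR'.fromSpec hUA hA hR' v).mpr
      (H UR hUR UA hUA UR' hUR' hleA hleR')

end Cover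

end Groth.Agent.Helper2.SchDom
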