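import Mathlib
import Groth.Prelude.Def_Coh
import Groth.Agent.Lib.Helper2.SchDom.ModGlue1
import Groth.Agent.Lib.Helper2.SchDom.ModFlat

set_option autoImplicit false
set_option backward.isDefEq.respectTransparency.types false
set_option synthInstance.maxHeartbeats 400000
set_option maxHeartbeats 4000000
set_option linter.style.haveILetI false
set_option linter.unusedSectionVars false
set_option linter.unusedVariables false

/-!
# Separating families of homomorphisms of quasi-coherent modules: flat pullback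
-/

open CategoryTheory AlgebraicGeometry TensorProduct Opposite TopologicalSpace

namespace Groth.Agent.Helper2.SchDom

universe u

/-- the statement's formulation of the separating property -/
theorem sep_iff {X : Scheme.{u}} {F : X.Modules} {ι : Type u} {G : ι → X.Modules}
    (v : ∀ i, F ⟶ G i) :
    Sep v ↔ ∀ (V : X.Opens) (t : ↑(F.presheaf.obj (Opposite.op V))),
      (∀ i, (Scheme.Modules.Hom.mapPresheaf (v i)).app (Opposite.op V) t = 0) → t = 0 := Iff.rfl

theorem sep_pullback_of_flat_lfp {X X' : Scheme.{u}} (F : X.Modules) [F.IsQuasicoherent]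
    {ι : Type u} (G : ι → X.Modules) [∀ i, (G i).IsQuasicoherent] (v : ∀ i, F ⟶ G i)
    (g : X' ⟶ X) [Flat g] [LocallyOfFinitePresentation g] (h : Sep v) :
    Sep (fun i => (Scheme.Modules.pullback g).map (v i)) := by
  haveI : ((Scheme.Modules.pullback g).obj F).IsQuasicoherent :=
    Groth.Agent.Lead.PB.isQuasicoherent_pullback g F
  haveI : ∀ i, ((Scheme.Modules.pullback g).obj (G i)).IsQuasicoherent := fun i =>
    Groth.Agent.Lead.PB.isQuasicoherent_pullback g (G i)
  refine sep_of_SDlin_cover _ (fun x' => ?_)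
  obtain ⟨_, ⟨U, hU, rfl⟩, hxU, -⟩ := X.isBasis_affineOpens.exists_subset_of_mem_open
    (Set.mem_univ (g x')) isOpen_univ
  obtain ⟨_, ⟨O, hO, rfl⟩, hxO, hOsub⟩ := X'.isBasis_affineOpens.exists_subset_of_mem_open
    (show x' ∈ ((g ⁻¹ᵁ U : X'.Opens) : Set X') from hxU) (g ⁻¹ᵁ U).isOpen
  have e : O ≤ g ⁻¹ᵁ U := hOsub
  refine ⟨O, hO, hxO, ?_⟩
  letI := (g.appLE U O e).hom.toAlgebra
  refine (SDlin_pullback_iff g v hU hO e).mpr ?_
  haveI : Module.Flat Γ(X, U) Γ(X', O) :=
    HasRingHomProperty.appLE (P := @Flat) g inferInstance ⟨U, hU⟩ ⟨O, hO⟩ e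
  haveI : Algebra.FinitePresentation Γ(X, U) Γ(X', O) :=
    LocallyOfFinitePresentation.finitePresentation_appLE g hU hO e
  exact BCSD_of_flat_fp _ (SDlin_of_sep v h hU)

theorem main4909 {X X' : Scheme.{u}} (F : X.Modules) [Coh.IsQCoh F] {ι : Type u}
    (G : ι → X.Modules) [∀ i, Coh.IsQCoh (G i)] (u : ∀ i, F ⟶ G i) (g : X' ⟶ X) [Flat g] [LocallyOfFinitePresentation g]
    (h : (∀ (V : (X).Opens) (t : ↑((F).presheaf.obj (Opposite.op V))), (∀ i, (Scheme.Modules.Hom.mapPresheaf (u i)).app (Opposite.op V) t = 0) → t = 0)) :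
    (∀ (V : (X').Opens) (t : ↑(((Scheme.Modules.pullback g).obj F).presheaf.obj (Opposite.op V))), (∀ i, (Scheme.Modules.Hom.mapPresheaf ((Scheme.Modules.pullback g).map (u i))).app (Opposite.op V) t = 0) → t = 0) := by
  haveI : F.IsQuasicoherent := ‹Coh.IsQCoh F›
  haveI : ∀ i, (G i).IsQuasicoherent := fun i => ‹∀ i, Coh.IsQCoh (G i)› i
  exact sep_pullback_of_flat_lfp F G u g h

end Groth.Agent.Helper2.SchDom
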