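import Mathlib
import Groth.Prelude.Def_Coh
import Groth.Prelude.Def_FlatMod2
import Groth.Agent.Lib.Lead.FO1
import Groth.Agent.Lib.Helper1.FinPush
import Groth.Agent.Lib.Helper2.SchDom.ModGlue2
import Groth.Agent.Lib.Helper2.SchDom.ModFieldExt

set_option autoImplicit false
set_option backward.isDefEq.respectTransparency.types false
set_option synthInstance.maxHeartbeats 400000
set_option maxHeartbeats 4000000
set_option linter.style.haveILetI false
set_option linter.unusedSectionVars false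
set_option linter.unusedVariables false

/-!
# Separating families of homomorphisms of quasi-coherent modules: base change theorems
-/

open CategoryTheory AlgebraicGeometry TensorProduct Opposite TopologicalSpace Limits

namespace Groth.Agent.Helper2.SchDom

universe u

section AffBase

variable {X : Scheme.{u}} {A : CommRingCat.{u}} (p : X ⟶ Spec A) {UA : X.Opens}
  (hUA : IsAffineOpen UA)

/-- the structure map of the sections over an open of a scheme over `Spec A` -/
noncomputable abbrev algOver (UA : X.Opens) : A ⟶ Γ(X, UA) :=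
  (Scheme.ΓSpecIso A).inv ≫ p.appLE ⊤ UA (fun _ _ => trivial)

theorem specMap_algOver : Spec.map (algOver p UA) = hUA.fromSpec ≫ p := by
  have := IsAffineOpen.SpecMap_appLE_fromSpec p (isAffineOpen_top (Spec A)) hUA
    (fun _ _ => trivial)
  rw [IsAffineOpen.fromSpec_top, Scheme.isoSpec_Spec_inv, ← Spec.map_comp] at this
  exact this

include hUA in
open Groth.Agent.Lead.FO in
theorem flat_sections_algOver {F : X.Modules} [F.IsQuasicoherent]
    (hfl : FlatMod.IsFlatOver p F) :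
    @Module.Flat A Γ(F, UA) _ _ (Module.compHom _ (algOver p UA).hom) := by
  have h1 := flat_sectionsOver_of_isFlatOverAt p F hUA (isAffineOpen_top (Spec A))
    (fun _ _ => trivial) (fun z => hfl z.1)
  letI alg : Algebra A Γ(Spec A, ⊤) := (Scheme.ΓSpecIso A).inv.hom.toAlgebra
  letI m1 : Module Γ(Spec A, ⊤) Γ(F, UA) :=
    sectionsOver p F (V := ⊤) (U := UA) (fun _ _ => trivial)
  letI m2 : Module A Γ(F, UA) := Module.compHom _ (algOver p UA).hom
  haveI : IsScalarTower A Γ(Spec A, ⊤) Γ(F, UA) :=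
    IsScalarTower.of_algebraMap_smul fun r m => rfl
  haveI : Module.Flat Γ(Spec A, ⊤) Γ(F, UA) := h1
  haveI : Module.Flat A Γ(Spec A, ⊤) := by
    let e : A ≃ₗ[A] Γ(Spec A, ⊤) :=
      LinearEquiv.ofBijective (Algebra.linearMap A Γ(Spec A, ⊤))
        (ConcreteCategory.bijective_of_isIso (Scheme.ΓSpecIso A).inv)
    exact Module.Flat.of_linearEquiv e.symm
  exact Module.Flat.trans A Γ(Spec A, ⊤) Γ(F, UA)

end AffBase

section S4911

theorem main4911 {k : Type u} [Field k] {X S' : Scheme.{u}}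
    (p : X ⟶ Spec (CommRingCat.of k)) (q : S' ⟶ Spec (CommRingCat.of k))
    (F : X.Modules) [Coh.IsQCoh F] {ι : Type u} (G : ι → X.Modules) [∀ i, Coh.IsQCoh (G i)] (u : ∀ i, F ⟶ G i)
    (h : (∀ (V : (X).Opens) (t : ↑((F).presheaf.obj (Opposite.op V))), (∀ i, (Scheme.Modules.Hom.mapPresheaf (u i)).app (Opposite.op V) t = 0) → t = 0)) :
    (∀ (V : (pullback p q).Opens) (t : ↑(((Scheme.Modules.pullback (pullback.fst p q)).obj F).presheaf.obj (Opposite.op V))), (∀ i, (Scheme.Modules.Hom.mapPresheaf ((Scheme.Modules.pullback (pullback.fst p q)).map (u i))).app (Opposite.op V) t = 0) → t = 0) := by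
  haveI : F.IsQuasicoherent := ‹Coh.IsQCoh F›
  haveI : ∀ i, (G i).IsQuasicoherent := fun i => ‹∀ i, Coh.IsQCoh (G i)› i
  have hsep : Sep u := h
  haveI : ((Scheme.Modules.pullback (pullback.fst p q)).obj F).IsQuasicoherent :=
    Groth.Agent.Lead.PB.isQuasicoherent_pullback _ F
  haveI : ∀ i, ((Scheme.Modules.pullback (pullback.fst p q)).obj (G i)).IsQuasicoherent :=
    fun i => Groth.Agent.Lead.PB.isQuasicoherent_pullback _ (G i)
  suffices hs : Sep (fun i => (Scheme.Modules.pullback (pullback.fst p q)).map (u i)) from hs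
  refine sep_of_SDlin_cover _ (fun x => ?_)
  obtain ⟨UA, hUA, hxUA, -⟩ := Opens.isBasis_iff_nbhd.mp X.isBasis_affineOpens
    (show pullback.fst p q x ∈ (⊤ : X.Opens) from trivial)
  obtain ⟨UR', hUR', hxUR', -⟩ := Opens.isBasis_iff_nbhd.mp S'.isBasis_affineOpens
    (show pullback.snd p q x ∈ (⊤ : S'.Opens) from trivial)
  letI : Algebra k Γ(X, UA) := (algOver p UA).hom.toAlgebra
  letI : Algebra k Γ(S', UR') := (algOver q UR').hom.toAlgebra
  have hA : hUA.fromSpec ≫ p = Spec.map (CommRingCat.ofHom (algebraMap k Γ(X, UA)))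
      ≫ 𝟙 (Spec (CommRingCat.of k)) := by
    rw [Category.comp_id]
    exact (specMap_algOver p hUA).symm
  have hR' : hUR'.fromSpec ≫ q = Spec.map (CommRingCat.ofHom (algebraMap k Γ(S', UR')))
      ≫ 𝟙 (Spec (CommRingCat.of k)) := by
    rw [Category.comp_id]
    exact (specMap_algOver q hUR').symm
  refine ⟨chartO p q (𝟙 _) hUR'.fromSpec hUA hA hR',
    isAffineOpen_chartO p q (𝟙 _) hUR'.fromSpec hUA hA hR', ?_, ?_⟩
  · rw [mem_chartO, hUR'.range_fromSpec]
    exact ⟨hxUA, hxUR'⟩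
  · refine (SDlin_chart_iff p q (𝟙 _) hUR'.fromSpec hUA hA hR' u).mpr ?_
    letI : Module k Γ(F, UA) := Module.compHom _ (algebraMap k Γ(X, UA))
    haveI : IsScalarTower k Γ(X, UA) Γ(F, UA) := IsScalarTower.of_algebraMap_smul fun _ _ => rfl
    letI : ∀ i, Module k Γ(G i, UA) := fun i => Module.compHom _ (algebraMap k Γ(X, UA))
    haveI : ∀ i, IsScalarTower k Γ(X, UA) Γ(G i, UA) := fun i =>
      IsScalarTower.of_algebraMap_smul fun _ _ => rfl
    exact BCSD_field _ (SDlin_of_sep u hsep hUA) Γ(S', UR')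

end S4911

section S4910

variable {X S : Scheme.{u}} (p : X ⟶ S) {F : X.Modules} [F.IsQuasicoherent] {ι : Type u}
  {G : ι → X.Modules} [∀ i, (G i).IsQuasicoherent] (u : ∀ i, F ⟶ G i)

/-- the fibrewise hypothesis gives the separating property over every field over `Γ(S, UR)` -/
theorem BCSD_of_fibre {UR : S.Opens} (hUR : IsAffineOpen UR) {UA : X.Opens} (hUA : IsAffineOpen UA)
    (hleA : UA ≤ p ⁻¹ᵁ UR)
    (Hfib : ∀ s : S, Sep (fun i =>
      (Scheme.Modules.pullback (pullback.fst p (S.fromSpecResidueField s))).map (u i)))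
    (K : Type u) [Field K] [Algebra Γ(S, UR) K] :
    letI := (p.appLE UR UA hleA).hom.toAlgebra
    BCSD (fun i => appLin (u i) UA) (Γ(X, UA) ⊗[Γ(S, UR)] K) := by
  letI algA : Algebra Γ(S, UR) Γ(X, UA) := (p.appLE UR UA hleA).hom.toAlgebra
  have hA : IsAffineOpen.fromSpec hUA ≫ p
      = Spec.map (CommRingCat.ofHom (algebraMap Γ(S, UR) Γ(X, UA))) ≫ IsAffineOpen.fromSpec hUR :=
    (IsAffineOpen.SpecMap_appLE_fromSpec p hUR hUA hleA).symm
  let hK : Spec (CommRingCat.of K) ⟶ S :=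
    Spec.map (CommRingCat.ofHom (algebraMap Γ(S, UR) K)) ≫ hUR.fromSpec
  let s : S := hK (IsLocalRing.closedPoint K)
  let θ : S.residueField s ⟶ CommRingCat.of K :=
    Scheme.descResidueField (Scheme.stalkClosedPointTo hK)
  have hθ : Spec.map θ ≫ S.fromSpecResidueField s = hK :=
    Scheme.descResidueField_stalkClosedPointTo_fromSpecResidueField K S hK
  have hs : Set.range (S.fromSpecResidueField s) ⊆ Set.range hUR.fromSpec := by
    rw [Scheme.range_fromSpecResidueField]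
    rintro _ rfl
    exact ⟨Spec.map (CommRingCat.ofHom (algebraMap Γ(S, UR) K)) (IsLocalRing.closedPoint K), rfl⟩
  let l : Spec (S.residueField s) ⟶ Spec Γ(S, UR) :=
    IsOpenImmersion.lift hUR.fromSpec (S.fromSpecResidueField s) hs
  have hl : l ≫ hUR.fromSpec = S.fromSpecResidueField s := IsOpenImmersion.lift_fac _ _ _
  let ψκ : Γ(S, UR) ⟶ S.residueField s := Spec.preimage l
  have hψκ : Spec.map ψκ = l := Spec.map_preimage l
  letI : Algebra Γ(S, UR) (S.residueField s) := ψκ.hom.toAlgebra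
  letI : Algebra (S.residueField s) K := θ.hom.toAlgebra
  haveI : IsScalarTower Γ(S, UR) (S.residueField s) K := by
    refine IsScalarTower.of_algebraMap_eq' ?_
    have h1 : Spec.map (ψκ ≫ θ) ≫ hUR.fromSpec
        = Spec.map (CommRingCat.ofHom (algebraMap Γ(S, UR) K)) ≫ hUR.fromSpec := by
      rw [Spec.map_comp, Category.assoc, hψκ, hl, hθ]
    have h2 : ψκ ≫ θ = CommRingCat.ofHom (algebraMap Γ(S, UR) K) :=
      Spec.map_injective ((cancel_mono hUR.fromSpec).mp h1)
    exact (congrArg CommRingCat.Hom.hom h2).symm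
  have hκ : 𝟙 (Spec (CommRingCat.of (S.residueField s))) ≫ S.fromSpecResidueField s
      = Spec.map (CommRingCat.ofHom (algebraMap Γ(S, UR) (S.residueField s))) ≫ hUR.fromSpec := by
    rw [Category.id_comp, ← hl, ← hψκ]
    rfl
  have h1 : BCSD (fun i => appLin (u i) UA) (Γ(X, UA) ⊗[Γ(S, UR)] (S.residueField s)) :=
    BCSD_of_sep_pullback p (S.fromSpecResidueField s) hUR.fromSpec
      (𝟙 (Spec (CommRingCat.of (S.residueField s)))) hUA hA hκ u (Hfib s)
  letI : Module Γ(S, UR) Γ(F, UA) := Module.compHom _ (algebraMap Γ(S, UR) Γ(X, UA))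
  haveI : IsScalarTower Γ(S, UR) Γ(X, UA) Γ(F, UA) :=
    IsScalarTower.of_algebraMap_smul fun _ _ => rfl
  letI : ∀ i, Module Γ(S, UR) Γ(G i, UA) := fun i =>
    Module.compHom _ (algebraMap Γ(S, UR) Γ(X, UA))
  haveI : ∀ i, IsScalarTower Γ(S, UR) Γ(X, UA) Γ(G i, UA) := fun i =>
    IsScalarTower.of_algebraMap_smul fun _ _ => rfl
  exact BCSD_field_ext _ (S.residueField s) K h1

open Groth.Agent.Lead.FO in
/-- the hard direction -/
theorem sep_of_fibres [IsLocallyNoetherian X] (hF : Coh.IsCoh F)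
    (hG : ∀ i, FlatMod.IsFlatOver p (G i))
    (Hfib : ∀ s : S, Sep (fun i =>
      (Scheme.Modules.pullback (pullback.fst p (S.fromSpecResidueField s))).map (u i)))
    (S' : Scheme.{u}) (g : S' ⟶ S) :
    Sep (fun i => (Scheme.Modules.pullback (pullback.fst p g)).map (u i)) := by
  refine sep_pullback_of_BCSD p g u (fun UR hUR UA hUA UR' hUR' hleA hleR' => ?_)
  letI algA : Algebra Γ(S, UR) Γ(X, UA) := (p.appLE UR UA hleA).hom.toAlgebra
  letI algR' : Algebra Γ(S, UR) Γ(S', UR') := (g.appLE UR UR' hleR').hom.toAlgebra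
  show BCSD (fun i => appLin (u i) UA) (Γ(X, UA) ⊗[Γ(S, UR)] Γ(S', UR'))
  haveI : IsNoetherianRing Γ(X, UA) := IsLocallyNoetherian.component_noetherian ⟨UA, hUA⟩
  haveI : Module.Finite Γ(X, UA) Γ(F, UA) :=
    Groth.Agent.Helper1.FinPush.finite_sections F hF hUA
  letI : Module Γ(S, UR) Γ(F, UA) := Module.compHom _ (algebraMap Γ(S, UR) Γ(X, UA))
  haveI : IsScalarTower Γ(S, UR) Γ(X, UA) Γ(F, UA) :=
    IsScalarTower.of_algebraMap_smul fun _ _ => rfl
  letI : ∀ i, Module Γ(S, UR) Γ(G i, UA) := fun i =>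
    Module.compHom _ (algebraMap Γ(S, UR) Γ(X, UA))
  haveI : ∀ i, IsScalarTower Γ(S, UR) Γ(X, UA) Γ(G i, UA) := fun i =>
    IsScalarTower.of_algebraMap_smul fun _ _ => rfl
  haveI : ∀ i, Module.Flat Γ(S, UR) Γ(G i, UA) := fun i =>
    flat_sectionsOver_of_isFlatOverAt p (G i) hUA hUR hleA (fun z => hG i z.1)
  refine BCSD_of_fibrewise _ (fun K _ _ => ?_) Γ(S', UR')
  exact BCSD_of_fibre p u hUR hUA hleA Hfib K

end S4910

theorem main4910 {X S : Scheme.{u}} [IsLocallyNoetherian X]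
    (p : X ⟶ S) (F : X.Modules) (hF : Coh.IsCoh F) {ι : Type u} (G : ι → X.Modules) [∀ i, Coh.IsQCoh (G i)]
    (hG : ∀ i, FlatMod.IsFlatOver p (G i)) (u : ∀ i, F ⟶ G i) :
    (∀ (S' : Scheme.{u}) (g : S' ⟶ S),
      (∀ (V : (pullback p g).Opens) (t : ↑(((Scheme.Modules.pullback (pullback.fst p g)).obj F).presheaf.obj (Opposite.op V))), (∀ i, (Scheme.Modules.Hom.mapPresheaf ((Scheme.Modules.pullback (pullback.fst p g)).map (u i))).app (Opposite.op V) t = 0) → t = 0)) ↔
    ∀ s : S, (∀ (V : (p.fiber s).Opens) (t : ↑(((Scheme.Modules.pullback (p.fiberι s)).obj F).presheaf.obj (Opposite.op V))), (∀ i, (Scheme.Modules.Hom.mapPresheaf ((Scheme.Modules.pullback (p.fiberι s)).map (u i))).app (Opposite.op V) t = 0) → t = 0) := by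
  haveI : F.IsQuasicoherent := hF.1
  haveI : ∀ i, (G i).IsQuasicoherent := fun i => ‹∀ i, Coh.IsQCoh (G i)› i
  constructor
  · intro H s
    exact H _ (S.fromSpecResidueField s)
  · intro Hfib S' g
    exact sep_of_fibres p u hF hG (fun s => Hfib s) S' g

section S5916

theorem main5916 {X : Scheme.{u}} (A A' : CommRingCat.{u}) (φ : A ⟶ A')
    (p : X ⟶ Spec A) (F : X.Modules) [Coh.IsQCoh F] {ι : Type u} (G : ι → X.Modules) [∀ i, Coh.IsQCoh (G i)]
    (hG : ∀ i, FlatMod.IsFlatOver p (G i)) (u : ∀ i, F ⟶ G i)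
    (h : ∀ (V : (X).Opens) (t : ↑((F).presheaf.obj (Opposite.op V))), (∀ i, (Scheme.Modules.Hom.mapPresheaf (u i)).app (Opposite.op V) t = 0) → t = 0)
    (hfg : ∀ (B : CommRingCat.{u}) (a : A ⟶ B) (b : B ⟶ A'), a ≫ b = φ → Function.Injective b.hom → a.hom.FiniteType →
      ∀ (V : (pullback p (Spec.map a)).Opens) (t : ↑(((Scheme.Modules.pullback (pullback.fst p (Spec.map a))).obj F).presheaf.obj (Opposite.op V))), (∀ i, (Scheme.Modules.Hom.mapPresheaf ((Scheme.Modules.pullback (pullback.fst p (Spec.map a))).map (u i))).app (Opposite.op V) t = 0) → t = 0) :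
    ∀ (V : (pullback p (Spec.map φ)).Opens) (t : ↑(((Scheme.Modules.pullback (pullback.fst p (Spec.map φ))).obj F).presheaf.obj (Opposite.op V))), (∀ i, (Scheme.Modules.Hom.mapPresheaf ((Scheme.Modules.pullback (pullback.fst p (Spec.map φ))).map (u i))).app (Opposite.op V) t = 0) → t = 0 := by
  haveI : F.IsQuasicoherent := ‹Coh.IsQCoh F›
  haveI : ∀ i, (G i).IsQuasicoherent := fun i => ‹∀ i, Coh.IsQCoh (G i)› i
  haveI : ((Scheme.Modules.pullback (pullback.fst p (Spec.map φ))).obj F).IsQuasicoherent :=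
    Groth.Agent.Lead.PB.isQuasicoherent_pullback _ F
  haveI : ∀ i, ((Scheme.Modules.pullback (pullback.fst p (Spec.map φ))).obj (G i)).IsQuasicoherent :=
    fun i => Groth.Agent.Lead.PB.isQuasicoherent_pullback _ (G i)
  suffices hs : Sep (fun i => (Scheme.Modules.pullback (pullback.fst p (Spec.map φ))).map (u i))
    from hs
  refine sep_of_SDlin_cover _ (fun x => ?_)
  obtain ⟨UA, hUA, hxUA, -⟩ := Opens.isBasis_iff_nbhd.mp X.isBasis_affineOpens
    (show pullback.fst p (Spec.map φ) x ∈ (⊤ : X.Opens) from trivial)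
  letI algA : Algebra A Γ(X, UA) := (algOver p UA).hom.toAlgebra
  letI algA' : Algebra A A' := φ.hom.toAlgebra
  have hA : hUA.fromSpec ≫ p = Spec.map (CommRingCat.ofHom (algebraMap A Γ(X, UA)))
      ≫ 𝟙 (Spec A) :=
    (specMap_algOver p hUA).symm.trans (Category.comp_id (Spec.map (algOver p UA))).symm
  have hR' : 𝟙 (Spec A') ≫ Spec.map φ = Spec.map (CommRingCat.ofHom (algebraMap A A'))
      ≫ 𝟙 (Spec A) :=
    (Category.id_comp (Spec.map φ)).trans (Category.comp_id (Spec.map φ)).symm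
  refine ⟨chartO p (Spec.map φ) (𝟙 (Spec A)) (𝟙 (Spec A')) hUA hA hR',
    isAffineOpen_chartO p (Spec.map φ) (𝟙 (Spec A)) (𝟙 (Spec A')) hUA hA hR', ?_, ?_⟩
  · rw [mem_chartO]
    exact ⟨hxUA, ⟨_, rfl⟩⟩
  · refine (SDlin_chart_iff p (Spec.map φ) (𝟙 (Spec A)) (𝟙 (Spec A')) hUA hA hR' u).mpr ?_
    letI : Module A Γ(F, UA) := Module.compHom _ (algebraMap A Γ(X, UA))
    haveI : IsScalarTower A Γ(X, UA) Γ(F, UA) := IsScalarTower.of_algebraMap_smul fun _ _ => rfl
    letI : ∀ i, Module A Γ(G i, UA) := fun i => Module.compHom _ (algebraMap A Γ(X, UA))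
    haveI : ∀ i, IsScalarTower A Γ(X, UA) Γ(G i, UA) := fun i =>
      IsScalarTower.of_algebraMap_smul fun _ _ => rfl
    haveI : ∀ i, Module.Flat A Γ(G i, UA) := fun i => flat_sections_algOver p hUA (hG i)
    refine BCSD_of_forall_fg _ A' (fun B _ _ b hb hft => ?_)
    have hsepB := hfg (CommRingCat.of B) (CommRingCat.ofHom (algebraMap A B))
      (CommRingCat.ofHom b.toRingHom) (by ext a; exact b.commutes a) hb
      (RingHom.finiteType_algebraMap.mpr hft)
    have hB : 𝟙 (Spec (CommRingCat.of B)) ≫ Spec.map (CommRingCat.ofHom (algebraMap A B))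
        = Spec.map (CommRingCat.ofHom (algebraMap A B)) ≫ 𝟙 (Spec A) :=
      (Category.id_comp (Spec.map (CommRingCat.ofHom (algebraMap A B)))).trans
        (Category.comp_id (Spec.map (CommRingCat.ofHom (algebraMap A B)))).symm
    exact BCSD_of_sep_pullback p (Spec.map (CommRingCat.ofHom (algebraMap A B))) (𝟙 (Spec A))
      (𝟙 (Spec (CommRingCat.of B))) hUA hA hB u hsepB

end S5916

section S5910

theorem main5910 {X : Scheme.{u}} (A : CommRingCat.{u}) (p : X ⟶ Spec A)
    (J : Ideal ↑A) (hJ : IsNilpotent J) (hfree : ∀ k : ℕ, Module.Free (↑A ⧸ J) ((↑A ⧸ J) ⊗[↑A] ↥(J ^ k)))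
    (F : X.Modules) [Coh.IsQCoh F] {ι : Type u} (G : ι → X.Modules) [∀ i, Coh.IsQCoh (G i)]
    (hG : ∀ i, FlatMod.IsFlatOver p (G i)) (u : ∀ i, F ⟶ G i)
    (h0 : ∀ (V : (pullback p (Spec.map (CommRingCat.ofHom (Ideal.Quotient.mk J)))).Opens) (t : ↑(((Scheme.Modules.pullback (pullback.fst p (Spec.map (CommRingCat.ofHom (Ideal.Quotient.mk J))))).obj F).presheaf.obj (Opposite.op V))), (∀ i, (Scheme.Modules.Hom.mapPresheaf ((Scheme.Modules.pullback (pullback.fst p (Spec.map (CommRingCat.ofHom (Ideal.Quotient.mk J))))).map (u i))).app (Opposite.op V) t = 0) → t = 0) :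
    ∀ (V : (X).Opens) (t : ↑((F).presheaf.obj (Opposite.op V))), (∀ i, (Scheme.Modules.Hom.mapPresheaf (u i)).app (Opposite.op V) t = 0) → t = 0 := by
  haveI : F.IsQuasicoherent := ‹Coh.IsQCoh F›
  haveI : ∀ i, (G i).IsQuasicoherent := fun i => ‹∀ i, Coh.IsQCoh (G i)› i
  suffices hs : Sep u from hs
  refine sep_of_SDlin_cover _ (fun x => ?_)
  obtain ⟨UA, hUA, hxUA, -⟩ := Opens.isBasis_iff_nbhd.mp X.isBasis_affineOpens
    (show x ∈ (⊤ : X.Opens) from trivial)
  refine ⟨UA, hUA, hxUA, ?_⟩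
  letI algA : Algebra A Γ(X, UA) := (algOver p UA).hom.toAlgebra
  have hA : hUA.fromSpec ≫ p = Spec.map (CommRingCat.ofHom (algebraMap A Γ(X, UA)))
      ≫ 𝟙 (Spec A) :=
    (specMap_algOver p hUA).symm.trans (Category.comp_id (Spec.map (algOver p UA))).symm
  have hR' : 𝟙 (Spec (CommRingCat.of (↑A ⧸ J))) ≫ Spec.map (CommRingCat.ofHom (Ideal.Quotient.mk J))
      = Spec.map (CommRingCat.ofHom (algebraMap A (↑A ⧸ J))) ≫ 𝟙 (Spec A) :=
    (Category.id_comp (Spec.map (CommRingCat.ofHom (Ideal.Quotient.mk J)))).trans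
      (Category.comp_id (Spec.map (CommRingCat.ofHom (Ideal.Quotient.mk J)))).symm
  letI : Module A Γ(F, UA) := Module.compHom _ (algebraMap A Γ(X, UA))
  haveI : IsScalarTower A Γ(X, UA) Γ(F, UA) := IsScalarTower.of_algebraMap_smul fun _ _ => rfl
  letI : ∀ i, Module A Γ(G i, UA) := fun i => Module.compHom _ (algebraMap A Γ(X, UA))
  haveI : ∀ i, IsScalarTower A Γ(X, UA) Γ(G i, UA) := fun i =>
    IsScalarTower.of_algebraMap_smul fun _ _ => rfl
  haveI : ∀ i, Module.Flat A Γ(G i, UA) := fun i => flat_sections_algOver p hUA (hG i)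
  have H : BCSD (fun i => appLin (u i) UA) (Γ(X, UA) ⊗[A] (↑A ⧸ J)) :=
    BCSD_of_sep_pullback p (Spec.map (CommRingCat.ofHom (Ideal.Quotient.mk J))) (𝟙 (Spec A))
      (𝟙 (Spec (CommRingCat.of (↑A ⧸ J)))) hUA hA hR' u h0
  exact SDlin_of_nilpotent _ J hJ hfree H

end S5910

end Groth.Agent.Helper2.SchDom
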