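import Mathlib
import Groth.Agent.Lib.Helper2.SchDom.FibGlue2
import Groth.Agent.Lib.Helper2.SchDom.ModFib2

set_option autoImplicit false
set_option backward.isDefEq.respectTransparency.types false
set_option synthInstance.maxHeartbeats 400000
set_option maxHeartbeats 4000000
set_option linter.style.haveILetI false
set_option linter.unusedSectionVars false
set_option linter.unusedVariables false

/-!
# Lifting schematic density of a family of flat subschemes along a nilpotent ideal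
-/

open CategoryTheory AlgebraicGeometry TensorProduct Opposite TopologicalSpace Limits

namespace Groth.Agent.Helper2.SchDom

universe u w

section Alg

variable {R : Type u} [CommRing R] {B : Type u} [CommRing B] [Algebra R B]
  {ι : Type w} (C : ι → Type u) [∀ j, CommRing (C j)] [∀ j, Algebra R (C j)]
  [∀ j, Algebra B (C j)] [∀ j, IsScalarTower R B (C j)]

theorem vQm_linearMap_eq (Q : Type u) [CommRing Q] [Algebra R Q] (j : ι) (x : B ⊗[R] Q) :
    vQm R (fun j => Algebra.linearMap B (C j)) Q j x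
      = Algebra.TensorProduct.map (IsScalarTower.toAlgHom R B (C j)) (AlgHom.id R Q) x := by
  induction x using TensorProduct.induction_on with
  | zero => simp
  | tmul b q => simp
  | add x y hx hy => simp only [map_add, hx, hy]

theorem smul_eq_tmul_one_pow_mul (Q : Type u) [CommRing Q] [Algebra R Q] (g₀ : B) (m : ℕ)
    (x : B ⊗[R] Q) : g₀ ^ m • x = (g₀ ⊗ₜ[R] (1 : Q)) ^ m * x := by
  rw [Algebra.smul_def, map_pow, Algebra.TensorProduct.algebraMap_apply]
  rfl

/-- lifting the ring-level separating property along a nilpotent ideal with free graded pieces -/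
theorem SDring_of_nilpotent [∀ j, Module.Flat R (C j)] (J : Ideal R) (hJ : IsNilpotent J)
    (hfree : ∀ k : ℕ, Module.Free (R ⧸ J) ((R ⧸ J) ⊗[R] ↥(J ^ k)))
    (H : SDring (fun j => (Algebra.TensorProduct.map
      (IsScalarTower.toAlgHom R B (C j)) (AlgHom.id R (R ⧸ J))).toRingHom)) :
    SDring (fun j => algebraMap B (C j)) := by
  intro g₀ s hs
  have h1 : MSDg R (fun j => Algebra.linearMap B (C j)) g₀ (R ⧸ J) := by
    intro x hx
    obtain ⟨m, hm⟩ := H (g₀ ⊗ₜ[R] (1 : R ⧸ J)) x (fun j => by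
      obtain ⟨m, hm⟩ := hx j
      refine ⟨m, ?_⟩
      show Algebra.TensorProduct.map (IsScalarTower.toAlgHom R B (C j)) (AlgHom.id R (R ⧸ J))
        ((g₀ ⊗ₜ[R] (1 : R ⧸ J)) ^ m * x) = 0
      rw [← vQm_linearMap_eq, ← smul_eq_tmul_one_pow_mul, _root_.map_smul]
      exact hm)
    exact ⟨m, by rw [smul_eq_tmul_one_pow_mul]; exact hm⟩
  obtain ⟨n, hn⟩ := hJ
  have h2 := MSDg_quot_pow (fun j => Algebra.linearMap B (C j)) J hfree g₀ h1 n
  have hbot : J ^ n = ⊥ := hn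
  have h3 : MSDg R (fun j => Algebra.linearMap B (C j)) g₀ R :=
    MSDg.of_equiv (Submodule.quotEquivOfEqBot (J ^ n) hbot).symm h2
  have h4 := SDat_of_MSDg_self (fun j => Algebra.linearMap B (C j)) g₀ h3
  obtain ⟨m, hm⟩ := h4 s (fun j => by
    obtain ⟨m, hm⟩ := hs j
    refine ⟨m, ?_⟩
    show g₀ ^ m • algebraMap B (C j) s = 0
    rw [Algebra.smul_def, ← map_mul]
    exact hm)
  exact ⟨m, by rw [← smul_eq_mul]; exact hm⟩

end Alg

section Geo

variable {X : Scheme.{u}} (A : CommRingCat.{u}) (p : X ⟶ Spec A) (J : Ideal ↑A)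
  {ι : Type u} (Z : ι → Scheme.{u}) (v : ∀ i, Z i ⟶ X)

theorem main6063 [∀ i, Flat (v i ≫ p)] (hJ : IsNilpotent J)
    (hfree : ∀ k : ℕ, Module.Free (↑A ⧸ J) ((↑A ⧸ J) ⊗[↑A] ↥(J ^ k)))
    (h0 : ∀ (V : (pullback p (Spec.map (CommRingCat.ofHom (Ideal.Quotient.mk J)))).Opens)
      (t : Γ(pullback p (Spec.map (CommRingCat.ofHom (Ideal.Quotient.mk J))), V)),
      (∀ i, (bcMap p (Spec.map (CommRingCat.ofHom (Ideal.Quotient.mk J))) Z v i).app V t = 0) →
        t = 0) :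
    ∀ (V : X.Opens) (t : Γ(X, V)), (∀ i, (v i).app V t = 0) → t = 0 := by
  intro V t ht
  refine eq_zero_of_locally V t (fun x hxV => ?_)
  obtain ⟨UA, hUA0, hxUA, -⟩ := Opens.isBasis_iff_nbhd.mp X.isBasis_affineOpens
    (show x ∈ (⊤ : X.Opens) from trivial)
  have hUA : IsAffineOpen UA := hUA0
  letI algB : Algebra ↑A Γ(X, UA) := (Spec.preimage (hUA.fromSpec ≫ p)).hom.toAlgebra
  have hA : hUA.fromSpec ≫ p
      = Spec.map (CommRingCat.ofHom (algebraMap ↑A Γ(X, UA))) ≫ 𝟙 (Spec A) := by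
    exact (Spec.map_preimage _).symm.trans (Category.comp_id _).symm
  have hR' : 𝟙 (Spec (CommRingCat.of (↑A ⧸ J))) ≫ Spec.map (CommRingCat.ofHom (Ideal.Quotient.mk J))
      = Spec.map (CommRingCat.ofHom (algebraMap ↑A (↑A ⧸ J))) ≫ 𝟙 (Spec A) := by
    exact (Category.id_comp _).trans (Category.comp_id _).symm
  -- the family of charts of the `Z i`
  let K : ι → Type u := fun i => {W : (Z i).Opens // IsAffineOpen W ∧ W ≤ (v i) ⁻¹ᵁ UA}
  letI algA : ∀ i (k : K i), Algebra Γ(X, UA) Γ(Z i, k.1) :=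
    fun i k => ((v i).appLE UA k.1 k.2.2).hom.toAlgebra
  letI algR : ∀ i (k : K i), Algebra ↑A Γ(Z i, k.1) :=
    fun i k => (Spec.preimage (k.2.1.fromSpec ≫ v i ≫ p)).hom.toAlgebra
  have hγ : ∀ i (k : K i), IsAffineOpen.fromSpec k.2.1 ≫ v i
      = Spec.map (CommRingCat.ofHom (algebraMap Γ(X, UA) Γ(Z i, k.1))) ≫ IsAffineOpen.fromSpec hUA :=
    fun i k => (IsAffineOpen.SpecMap_appLE_fromSpec (v i) hUA k.2.1 k.2.2).symm
  haveI : ∀ i (k : K i), IsScalarTower ↑A Γ(X, UA) Γ(Z i, k.1) := fun i k => by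
    refine IsScalarTower.of_algebraMap_eq' ?_
    show (Spec.preimage (k.2.1.fromSpec ≫ v i ≫ p)).hom
      = (((v i).appLE UA k.1 k.2.2).hom).comp (Spec.preimage (hUA.fromSpec ≫ p)).hom
    rw [← CommRingCat.hom_comp]
    congr 1
    apply Spec.map_injective
    rw [Spec.map_preimage, Spec.map_comp, Spec.map_preimage,
      IsAffineOpen.SpecMap_appLE_fromSpec_assoc]
  haveI : ∀ i (k : K i), Module.Flat ↑A Γ(Z i, k.1) := fun i k => by
    have h1 : Flat (k.2.1.fromSpec ≫ v i ≫ p) := inferInstance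
    rw [← Spec.map_preimage (k.2.1.fromSpec ≫ v i ≫ p), Flat.SpecMap_iff] at h1
    exact h1
  have hcov : ∀ (i : ι) (z : Z i), v i z ∈ Set.range (IsAffineOpen.fromSpec hUA) →
      ∃ k : K i, z ∈ Set.range (IsAffineOpen.fromSpec k.2.1) := by
    intro i z hz
    rw [IsAffineOpen.range_fromSpec] at hz
    obtain ⟨W, hW, hzW, hWle⟩ := Opens.isBasis_iff_nbhd.mp (Z i).isBasis_affineOpens
      (show z ∈ (v i) ⁻¹ᵁ UA from hz)
    refine ⟨⟨W, hW, hWle⟩, ?_⟩
    rw [IsAffineOpen.range_fromSpec]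
    exact hzW
  have H1 := SDring_of_sd p (Spec.map (CommRingCat.ofHom (Ideal.Quotient.mk J))) Z v
    (𝟙 (Spec A)) (IsAffineOpen.fromSpec hUA) (𝟙 (Spec (CommRingCat.of (↑A ⧸ J)))) hA hR'
    (fun i (k : K i) => Γ(Z i, k.1)) (fun i k => IsAffineOpen.fromSpec k.2.1) hγ hcov h0
  have H2 : SDring (fun j : (Σ i, K i) => algebraMap Γ(X, UA) Γ(Z j.1, j.2.1)) :=
    SDring_of_nilpotent (fun j : (Σ i, K i) => Γ(Z j.1, j.2.1)) J hJ hfree H1
  -- conclusion
  have hx : x ∈ Set.range (IsAffineOpen.fromSpec hUA) := by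
    rw [IsAffineOpen.range_fromSpec]
    exact hxUA
  obtain ⟨y, rfl⟩ := hx
  refine ⟨_, IsAffineOpen.fromSpec hUA, inferInstance, _ ⁻¹ᵁ V, le_rfl, ⟨y, hxV, rfl⟩, ?_⟩
  rw [Scheme.Hom.appLE_eq_app]
  refine affine_crit (R := Γ(X, UA)) (Rj := fun j : (Σ i, K i) => Γ(Z j.1, j.2.1))
    (fun j => (v j.1).appLE UA j.2.1 j.2.2.2) H2 _ _ ?_
  rintro ⟨i, k⟩
  have key := IsAffineOpen.SpecMap_appLE_fromSpec (v i) hUA k.2.1 k.2.2
  have e1 : (IsAffineOpen.fromSpec k.2.1 ≫ v i).app V t = 0 := by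
    rw [Scheme.Hom.comp_app]
    show ((IsAffineOpen.fromSpec k.2.1).app _).hom ((v i).app V t) = 0
    rw [ht i, map_zero]
  have e2 : (Spec.map ((v i).appLE UA k.1 k.2.2) ≫ IsAffineOpen.fromSpec hUA).app V t = 0 := by
    have : ∀ (m m' : Spec Γ(Z i, k.1) ⟶ X) (e : m = m'),
        m.app V t = 0 → m'.app V t = 0 := by
      rintro m _ rfl hm; exact hm
    exact this _ _ key.symm e1
  rw [Scheme.Hom.comp_app] at e2
  exact e2

end Geo

end Groth.Agent.Helper2.SchDom
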